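import Groth.Agent.SurfBl13.MultAlg
import Groth.Agent.CurveRR24.Section
import Groth.Agent.CurveRR24.AlgClosed
import Groth.Agent.CAlgH.CIImmersion
import Groth.Agent.TwistLib.G.Inv
import Groth.Agent.AmpleLib.GenLocus
import Groth.Agent.BlowUpCoh.GGVanish

/-!
# The multiplicity of a point of a curve is at most the degree of a very ample module
-/

set_option autoImplicit false
set_option linter.style.haveILetI false
set_option backward.isDefEq.respectTransparency.types false
set_option maxHeartbeats 1000000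

universe u

open CategoryTheory CategoryTheory.Limits AlgebraicGeometry Opposite TopologicalSpace
open Groth.Agent.Coherent Groth.Agent.PicLib Groth.Agent.AmpleLib Groth.Agent.EulerLib Groth.Agent.CurveRR24

namespace Groth.Agent.SurfBl13

variable {X : Scheme.{u}} (k : Type u) [Field k] [X.Over (Spec (CommRingCat.of k))]

section

variable [IsProper (X ↘ Spec (CommRingCat.of k))] [IsIntegral X]

include k in
/-- The degree is the dimension of the sections of the cokernel of a nonzero section, whose support is finite. -/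
theorem deg_eq_finrank_coker (hdim : topologicalKrullDim X ≤ 1) {L : X.Modules} (hL : PicF.IsInvertible L)
    {s : Γ(L, ⊤)} (hs : s ≠ 0) :
    (Module.Finite k (GA (baseHom k X) (cokernel (unitDesc L s)))) ∧
    Curv2.deg k X L 1 = (Module.finrank k (GA (baseHom k X) (cokernel (unitDesc L s))) : ℤ) ∧
      ((glocus L s : Set X)ᶜ).Finite ∧ ∀ t ∈ (glocus L s : Set X)ᶜ, IsClosed ({t} : Set X) := by
  haveI := isNoetherian_of_proper k (X := X)
  haveI : X.IsSeparated := ⟨by rw [← terminal.comp_from (X ↘ Spec (CommRingCat.of k))]; infer_instance⟩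
  haveI := mono_unitDesc hL hs
  have hO := isCoh_structureModule X
  have hLc := isCoh_of_isInvertible k hL
  have hQ : Coh.IsCoh (cokernel (unitDesc L s)) := isCoh_cokernel _ hO.1 hLc
  let T : Set X := (glocus L s : Set X)ᶜ
  have hT : IsClosed T := (glocus L s).2.isClosed_compl
  have hηT : genericPoint X ∉ T := fun h => h (genericPoint_mem_glocus hL hs)
  have hsupp := support_cokernel_unitDesc (L := L) s
  have huniv : closure ({genericPoint X} : Set X) = Set.univ := genericPoint_spec X
  have hdimT : topologicalKrullDim T < (1 : ℕ) := by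
    refine dim_lt_of_notMem hT (Set.subset_univ _) isClosed_univ huniv hηT ?_
    exact (Topology.IsInducing.subtypeVal.topologicalKrullDim_le).trans (by exact_mod_cast hdim)
  have hTc : ∀ t ∈ T, IsClosed ({t} : Set X) := fun t ht =>
    ((CurvesLib24.eq_genericPoint_or_isClosed hdim t).resolve_left fun h => hηT (h ▸ ht))
  have hTf : T.Finite := by
    obtain ⟨S, hSf, hSc, hSi, hTS⟩ := NoetherianSpace.exists_finite_set_isClosed_irreducible hT
    rw [hTS]
    refine hSf.sUnion fun C hC => ?_
    have hsub : C ⊆ T := hTS ▸ Set.subset_sUnion_of_mem hC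
    obtain ⟨c, hc⟩ := QuasiSober.sober (hSi C hC) (hSc C hC)
    have hcC : c ∈ C := by rw [← hc]; exact subset_closure rfl
    rw [← hc, (hTc c (hsub hcC)).closure_eq]
    exact Set.finite_singleton c
  let S : ShortComplex X.Modules := ShortComplex.mk (unitDesc L s) (cokernel.π _) (cokernel.condition _)
  have hS : S.ShortExact := { exact := ShortComplex.exact_of_g_is_cokernel _ (cokernelIsCokernel _) }
  have hvan : ∀ q, 0 < q → Subsingleton (Coh.HH X (cokernel (unitDesc L s)) q) := fun q hq => by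
    haveI := hQ.1
    exact subsingleton_HH_of_support (X := X) ⟨T, hT⟩ _ hQ.1 hsupp q
      (lt_of_lt_of_le hdimT (by exact_mod_cast hq))
  have he := euler_additive k X S hS hO hLc hQ
  rw [euler_eq_sum k X S.X₃ 0 (fun q hq => hvan q hq)] at he
  simp [Finset.sum_range_succ] at he
  haveI := finite_HH_of_isCoh k hQ 0
  refine ⟨Module.Finite.equiv (hhZero k _), ?_, hTf, hTc⟩
  rw [← finrank_GA_eq k]
  simp only [Curv2.deg, Nat.cast_one, one_mul]
  linarith

omit [X.Over (Spec (CommRingCat.of k))] [IsProper (X ↘ Spec (CommRingCat.of k))] in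
/-- Germs of the cokernel of a section at a point of its zero locus extend to global sections. -/
theorem exists_global_germ {L : X.Modules} (s : Γ(L, ⊤)) {p : X} (hp : IsClosed ({p} : Set X))
    (hT : IsClosed ((glocus L s : Set X)ᶜ \ {p})) (q : (cokernel (unitDesc L s)).presheaf.stalk p) :
    ∃ t : Γ(cokernel (unitDesc L s), ⊤), (cokernel (unitDesc L s)).presheaf.germ ⊤ p trivial t = q := by
  let Q := cokernel (unitDesc L s)
  obtain ⟨W₀, hp₀, r, rfl⟩ := Q.presheaf.exists_germ_eq q
  let W₁ : X.Opens := W₀ ⊓ ⟨((glocus L s : Set X)ᶜ \ {p})ᶜ, hT.isOpen_compl⟩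
  let V : X.Opens := ⟨({p} : Set X)ᶜ, hp.isOpen_compl⟩
  have hp₁ : p ∈ W₁ := ⟨hp₀, fun h => h.2 rfl⟩
  have hd : ∀ {O : X.Opens}, O ≤ W₁ ⊓ V → ∀ a b : Γ(Q, O), a = b := fun {O} hO a b => by
    have : Subsingleton Γ(Q, O) := subsingleton_sections_of_disjoint Q O (Set.disjoint_left.2 fun x hx hxs =>
      (hO hx).1.2 ⟨support_cokernel_unitDesc (L := L) s hxs, (hO hx).2⟩)
    exact Subsingleton.elim a b
  let Us : Bool → X.Opens := fun i => bif i then W₁ else V
  let ss : ∀ i, Γ(Q, Us i) := fun i => match i with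
    | true => resM Q (inf_le_left : W₁ ≤ W₀) r
    | false => (0 : Γ(Q, V))
  have hcov : (⊤ : X.Opens) ≤ ⨆ i, Us i := fun y _ => Opens.mem_iSup.2 (by
    by_cases hy : y = p
    · exact ⟨true, hy ▸ hp₁⟩
    · exact ⟨false, hy⟩)
  obtain ⟨t, ht, -⟩ := TopCat.Sheaf.existsUnique_gluing' (⟨Q.presheaf, Q.isSheaf⟩ : TopCat.Sheaf Ab X) Us ⊤
    (fun i => homOfLE le_top) hcov ss (fun i j => by
      cases i <;> cases j
      · rfl
      · exact hd (by rw [inf_comm]; exact le_rfl) _ _
      · exact hd le_rfl _ _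
      · rfl)
  have ht' : resM Q (le_top : W₁ ≤ ⊤) t = resM Q (inf_le_left : W₁ ≤ W₀) r := ht true
  refine ⟨t, ?_⟩
  show Q.presheaf.germ ⊤ p trivial t = Q.presheaf.germ W₀ p hp₀ r
  rw [← BlowUpCoh.germ_resM' (M := Q) (le_top : W₁ ≤ ⊤) hp₁ t, ht', BlowUpCoh.germ_resM']

include k in
/-- A lower bound for the degree from a section vanishing at a point of high multiplicity. -/
theorem le_deg_of_mult (hdim : topologicalKrullDim X ≤ 1) {L : X.Modules} (hL : PicF.IsInvertible L)
    {s : Γ(L, ⊤)} (hs : s ≠ 0) {p : X} (hps : p ∉ glocus L s) {R : Type u} [CommRing R] [IsLocalRing R]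
    [IsNoetherianRing R] (π : R →+* X.presheaf.stalk p) (hπ : Function.Surjective π) (hd : 2 ≤ ringKrullDim R)
    {m : ℕ} (hker : RingHom.ker π ≤ IsLocalRing.maximalIdeal R ^ m) : (m : ℤ) ≤ Curv2.deg k X L 1 := by
  classical
  obtain ⟨hfin, hdeg, hTf, hTc⟩ := deg_eq_finrank_coker k hdim hL hs
  haveI := mono_unitDesc hL hs
  let Q := cokernel (unitDesc L s)
  obtain ⟨W, hpW, g, hg⟩ := exists_isGen hL p
  let f₀ := hg.coef le_rfl (resM L le_top s)
  let O := X.presheaf.stalk p
  let gp : (DerSch.stalkFunctor X p).obj L := L.presheaf.germ W p hpW g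
  let f : O := X.presheaf.germ W p hpW f₀
  have hf : f ∈ IsLocalRing.maximalIdeal O := fun hu =>
    hps ((glocus_inf s hg).ge ((X.mem_basicOpen f₀ p hpW).2 hu)).1
  let γ : k →+* O := (X.presheaf.germ ⊤ p trivial).hom.comp (baseHom k X)
  have hsg : (L.presheaf.germ ⊤ p trivial s : (DerSch.stalkFunctor X p).obj L) = f • gp := by
    show L.presheaf.germ ⊤ p trivial s = X.presheaf.germ W p hpW f₀ • L.presheaf.germ W p hpW g
    rw [← QCohLoc.germ_smul', show f₀ • g = resM L le_top s by
      have := hg.coef_spec le_rfl (resM L le_top s)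
      rwa [resM_self] at this, BlowUpCoh.germ_resM']
  have hfree : ∀ a : O, a • gp = 0 → a = 0 := by
    intro a ha
    obtain ⟨U, hpU, a₀, rfl⟩ := X.presheaf.exists_germ_eq a
    have h1 : L.presheaf.germ (U ⊓ W) p ⟨hpU, hpW⟩ (PicLib.res (inf_le_left : U ⊓ W ≤ U) a₀ • resM L inf_le_right g) =
        L.presheaf.germ (U ⊓ W) p ⟨hpU, hpW⟩ 0 := by
      rw [QCohLoc.germ_smul', BlowUpCoh.germ_resM', map_zero]
      refine Eq.trans ?_ ha
      exact congrArg (· • gp) (TopCat.Presheaf.germ_res_apply X.presheaf (homOfLE inf_le_left) p ⟨hpU, hpW⟩ a₀)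
    obtain ⟨U', hpU', i₁, i₂, hU'⟩ := L.presheaf.germ_eq p _ _ _ _ h1
    have h2 : PicLib.res (i₁.le.trans inf_le_left : U' ≤ U) a₀ • resM L (i₁.le.trans inf_le_right : U' ≤ W) g =
        (0 : Γ(X, U')) • resM L (i₁.le.trans inf_le_right : U' ≤ W) g := by
      rw [zero_smul, ← PicLib.res_res (inf_le_left : U ⊓ W ≤ U) i₁.le, ← resM_resM L inf_le_right i₁.le,
        ← resM_smul]
      exact hU'.trans (map_zero _)
    have h3 := (hg U' (i₁.le.trans inf_le_right)).1 h2
    rw [← TopCat.Presheaf.germ_res_apply X.presheaf (homOfLE (i₁.le.trans inf_le_left)) p hpU' a₀]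
    exact (congrArg _ h3).trans (map_zero _)
  let σ := (DerSch.stalkFunctor X p).map (cokernel.π (unitDesc L s))
  have hexact : ∀ v, σ.hom v = 0 → ∃ a : O, v = (a * f) • gp := by
    intro v hv
    have hS : (ShortComplex.mk (unitDesc L s) (cokernel.π _) (cokernel.condition _)).Exact :=
      ShortComplex.exact_of_g_is_cokernel _ (cokernelIsCokernel _)
    obtain ⟨w, hw⟩ := (ShortComplex.moduleCat_exact_iff _).1 (hS.map (DerSch.stalkFunctor X p)) v hv
    obtain ⟨U, hpU, r, rfl⟩ := (Coh.structureModule X).presheaf.exists_germ_eq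
      (show (Coh.structureModule X).presheaf.stalk p from w)
    refine ⟨X.presheaf.germ U p hpU r, hw.symm.trans ?_⟩
    refine (Coherent.stalk_map_germ (W := U) (unitDesc L s) hpU r).trans ?_
    rw [mul_smul, ← hsg, CurveRR24.unitDesc_app]
    erw [QCohLoc.germ_smul', BlowUpCoh.germ_resM']
    rfl
  -- the chain and its lifts
  choose x hx hx' using fun j : Fin m => exists_mem_pow_notMem π hπ hd hker hf j.2
  have hT : IsClosed ((glocus L s : Set X)ᶜ \ {p}) := by
    have := (hTf.subset Set.sdiff_subset).isClosed_biUnion (f := fun w : X => ({w} : Set X))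
      fun w (hw : w ∈ (glocus L s : Set X)ᶜ \ {p}) => hTc w hw.1
    rwa [Set.biUnion_of_singleton] at this
  choose t ht using fun j : Fin m => exists_global_germ s (hTc p hps) hT (σ.hom (x j • gp))
  let Λ : (Fin m → k) →ₗ[k] GA (baseHom k X) Q := Fintype.linearCombination k (fun j => (t j : GA (baseHom k X) Q))
  have hinj : Function.Injective Λ := by
    refine (injective_iff_map_eq_zero Λ).2 fun c hc => ?_
    have h0 : Q.presheaf.germ ⊤ p trivial (∑ j, baseHom k X (c j) • (show Γ(Q, ⊤) from t j)) = 0 := by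
      have : (∑ j, baseHom k X (c j) • (show Γ(Q, ⊤) from t j)) = 0 := by
        refine Eq.trans ?_ hc
        simp only [Λ, Fintype.linearCombination_apply]
        rfl
      rw [this, map_zero]
    have h1 : σ.hom ((∑ j, γ (c j) * x j) • gp) = 0 := by
      refine Eq.trans ?_ h0
      rw [Finset.sum_smul, map_sum, map_sum]
      refine Finset.sum_congr rfl fun j _ => ?_
      rw [mul_smul, map_smul, ← ht j]
      exact (QCohLoc.germ_smul' Q (show p ∈ (⊤ : X.Opens) from trivial) _ _).symm
    obtain ⟨a, ha⟩ := hexact _ h1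
    have h2 : ∑ j, γ (c j) * x j = a * f := sub_eq_zero.1 (hfree _ (by rw [sub_smul, ha, sub_self]))
    exact eq_zero_of_sum_mem γ x hx hx' c (Ideal.mem_span_singleton'.2 ⟨a, h2.symm⟩)
  haveI := hfin
  have h3 := LinearMap.finrank_le_finrank_of_injective hinj
  rw [Module.finrank_fin_fun] at h3
  rw [hdeg]
  exact_mod_cast h3

include k in
/-- A section vanishing at a given point, from two sections generating at two points. -/
theorem exists_section_vanishing_at [IsAlgClosed k] {L : X.Modules} {p q : X} (hp : IsClosed ({p} : Set X))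
    (hL : PicF.IsInvertible L) {s₀ s₁ : Γ(L, ⊤)} (hp₀ : p ∈ glocus L s₀) (hq₀ : q ∉ glocus L s₀)
    (hq₁ : q ∈ glocus L s₁) : ∃ s : Γ(L, ⊤), s ≠ 0 ∧ p ∉ glocus L s := by
  obtain ⟨W, hpW, g, hg⟩ := exists_isGen hL p
  let f₀ := X.presheaf.germ W p hpW (hg.coef le_rfl (resM L le_top s₀))
  let f₁ := X.presheaf.germ W p hpW (hg.coef le_rfl (resM L le_top s₁))
  have hu : IsUnit f₀ := (X.mem_basicOpen _ p hpW).1 ((glocus_inf s₀ hg).le ⟨hp₀, hpW⟩)
  obtain ⟨u, hu⟩ := hu
  let _ := Curv2.resAlgebra k X p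
  haveI := finite_resField hp k
  obtain ⟨c, hc⟩ := (IsAlgClosed.algebraMap_bijective_of_isIntegral (k := k) (K := X.residueField p)).2
    (X.residue p (f₁ * ↑u⁻¹))
  let s : Γ(L, ⊤) := s₁ - baseHom k X c • s₀
  have hcoef : ∀ (U : X.Opens) (e : Γ(L, U)) (he : IsGen L U e),
      he.coef le_rfl (resM L le_top s) = he.coef le_rfl (resM L le_top s₁) -
        PicLib.res le_top (baseHom k X c) * he.coef le_rfl (resM L le_top s₀) := fun U e he => by
    refine he.coef_eq _ ?_
    rw [sub_smul, mul_smul, he.coef_spec, he.coef_spec, ← resM_smul, ← map_sub]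
  refine ⟨s, fun h => ?_, fun h => ?_⟩
  · obtain ⟨U, hqU, e, he⟩ := exists_isGen hL q
    have h1 : IsUnit (X.presheaf.germ U q hqU (he.coef le_rfl (resM L le_top s₁))) :=
      (X.mem_basicOpen _ q hqU).1 ((glocus_inf s₁ he).le ⟨hq₁, hqU⟩)
    have h2 : ¬ IsUnit (X.presheaf.germ U q hqU (he.coef le_rfl (resM L le_top s₀))) := fun hu' =>
      hq₀ ((glocus_inf s₀ he).ge ((X.mem_basicOpen _ q hqU).2 hu')).1
    have h3 : he.coef le_rfl (resM L le_top s) = 0 := he.coef_eq _ (by rw [h, map_zero, zero_smul])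
    rw [hcoef U e he, sub_eq_zero] at h3
    rw [h3, map_mul] at h1
    exact h2 (isUnit_of_mul_isUnit_right h1)
  · have hcs : IsUnit (X.presheaf.germ W p hpW (hg.coef le_rfl (resM L le_top s))) :=
      (X.mem_basicOpen _ p hpW).1 ((glocus_inf s hg).le ⟨h, hpW⟩)
    rw [hcoef W g hg, map_sub, map_mul] at hcs
    have hz : X.residue p (f₁ - X.presheaf.germ W p hpW (PicLib.res le_top (baseHom k X c)) * f₀) = 0 := by
      rw [map_sub, map_mul, show X.presheaf.germ W p hpW (PicLib.res le_top (baseHom k X c)) =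
        X.presheaf.germ ⊤ p trivial (baseHom k X c) from
          TopCat.Presheaf.germ_res_apply X.presheaf (homOfLE le_top) p hpW _,
        show X.residue p (X.presheaf.germ ⊤ p trivial (baseHom k X c)) = X.residue p (f₁ * ↑u⁻¹) from hc,
        ← map_mul, ← hu, mul_assoc, Units.inv_mul, mul_one, sub_self]
    exact not_isUnit_zero (hz ▸ hcs.map (X.residue p).hom)

include k in
/-- A proper integral curve is not affine. -/
theorem not_isAffineOpen_top (hdim : topologicalKrullDim X = 1) : ¬ IsAffineOpen (⊤ : X.Opens) := fun h => by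
  haveI : IsAffine X := IsAffine.of_isIso X.topIso.inv (h := h)
  have hfld := isField_of_universallyClosed k (X ↘ Spec (CommRingCat.of k))
  letI := hfld.toField
  haveI : Subsingleton (Spec Γ(X, ⊤) : Scheme.{u}) := inferInstanceAs (Subsingleton (PrimeSpectrum Γ(X, ⊤)))
  haveI : Subsingleton X := X.isoSpec.hom.homeomorph.injective.subsingleton
  haveI : DiscreteTopology X := Subsingleton.discreteTopology
  have h0 : topologicalKrullDim X ≤ 0 := topologicalKrullDim_zero_of_discreteTopology X
  rw [hdim] at h0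
  exact absurd h0 (by decide)

end

end Groth.Agent.SurfBl13
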