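import Groth.Agent.FlatMor12.FreeCharts
import Groth.Agent.FinCovLib29.Basis
import Groth.Agent.AmpleLib.CounitEpi
import Groth.Agent.Coherent.CohBC.HomSheaf

/-!
# Frames near a closed subscheme, and the counit for modules with frames on the fibres
-/

set_option autoImplicit false
set_option linter.style.haveILetI false
set_option backward.isDefEq.respectTransparency.types false
set_option maxHeartbeats 1000000

universe u

open CategoryTheory CategoryTheory.Limits AlgebraicGeometry Opposite TopologicalSpace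
open Groth.Agent.Coherent Groth.Agent.PicLib Groth.Agent.AmpleLib Groth.Agent.FlatMor12 Groth.Agent.FlatMor12.FreeCharts

namespace Groth.Agent.SurfBl13

variable {X T : Scheme.{u}} {I : Type u} [Fintype I]

/-- Global sections restricting to a frame on a closed subscheme form a frame near it. -/
theorem exists_basis_of_restrict (σ : T ⟶ X) {E : X.Modules} (hE : FlatMod.IsFinLocFree E)
    (s : I → Γ(E, ⊤)) (ht : IsBasisOn ((Scheme.Modules.pullback σ).obj E) ⊤ fun i => pullSec σ (s i)) (z' : T) :
    ∃ (W : X.Opens), σ z' ∈ W ∧ IsBasisOn E W fun i => resM E le_top (s i) := by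
  classical
  obtain ⟨U₀, ρn, e₀, hzU₀, he₀⟩ := exists_isBasisOn hE (σ z')
  obtain ⟨U, hU, hzU, hUle⟩ := exists_isAffineOpen_mem_and_subset (x := σ z') (U := U₀) hzU₀
  have heU := isBasisOn_res he₀ (fun y hy => hUle hy : U ≤ U₀)
  have hcard : Fintype.card I = Fintype.card (ULift.{u} (Fin ρn)) :=
    card_eq_of_isBasisOn ht (heU.pull σ) (le_top : σ ⁻¹ᵁ U ≤ ⊤) le_rfl (p := z') hzU
  have he := isBasisOn_comp_equiv heU (Fintype.equivOfCardEq hcard)
  generalize (fun j => resM E (fun y hy => hUle hy : U ≤ U₀) (e₀ (Fintype.equivOfCardEq hcard j))) = e at he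
  have hp := he.pull σ
  let θ : I → Γ(E, U) := fun j => resM E le_top (s j)
  let P : I → I → Γ(X, U) := fun i j => he.coef le_rfl (θ j) i
  have hPθ : ∀ j, ∑ i, P i j • e i = θ j := fun j => by
    have := he.coef_spec le_rfl (θ j)
    simpa only [resM_self] using this
  have hθ : ∀ j, pullSec σ (θ j) = resM _ le_top (pullSec σ (s j)) := fun j => (resM_pullSec σ le_top (s j)).symm
  have ht' := isBasisOn_res ht (le_top : σ ⁻¹ᵁ U ≤ ⊤)
  let Q : Matrix I I Γ(T, σ ⁻¹ᵁ U) := fun j k => ht'.coef le_rfl (pullSec σ (e k)) j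
  have hPQ : (Matrix.of P).map (σ.app U).hom * Q = 1 := by
    ext i k
    have hk := ht'.coef_spec le_rfl (pullSec σ (e k))
    simp only [resM_self] at hk
    have h1 : hp.coef le_rfl (pullSec σ (e k)) =
        fun i => ∑ j, ht'.coef le_rfl (pullSec σ (e k)) j * σ.app U (P i j) := by
      refine hp.coef_eq _ ?_
      conv_rhs => rw [← hk]
      simp only [← hθ, ← hPθ, pullSec_sum, pullSec_smul, Finset.smul_sum, Finset.sum_smul, smul_smul, resM_self]
      rw [Finset.sum_comm]
    have h2 := hp.coef_self le_rfl k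
    rw [resM_self] at h2
    have h3 := congrFun (h1.symm.trans h2) i
    rw [Matrix.mul_apply, Matrix.one_apply, ← h3]
    exact Finset.sum_congr rfl fun j _ => mul_comm _ _
  have hdet : IsUnit (σ.app U (Matrix.of P).det) := by
    have := congrArg Matrix.det hPQ
    rw [Matrix.det_mul, Matrix.det_one] at this
    show IsUnit ((σ.app U).hom _)
    rw [RingHom.map_det]
    exact IsUnit.of_mul_eq_one _ this
  have hzb : σ z' ∈ X.basicOpen (Matrix.of P).det := by
    show z' ∈ σ ⁻¹ᵁ X.basicOpen _
    rw [Scheme.preimage_basicOpen, T.basicOpen_of_isUnit hdet]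
    exact hzU
  let W := X.basicOpen (Matrix.of P).det
  have hW : W ≤ U := X.basicOpen_le _
  refine ⟨W, hzb, ?_⟩
  have h := isBasisOn_of_matrix hW he (fun j => resM E hW (θ j))
    ((Matrix.of P).map (X.presheaf.map (homOfLE hW).op).hom) (fun j => ?_) ?_
  · simpa only [θ, resM_resM] using h
  · show resM E hW (θ j) = _
    rw [← hPθ, map_sum]
    exact Finset.sum_congr rfl fun i _ => resM_smul _ _ _ _
  · have h := RingedSpace.isUnit_res_basicOpen X.toRingedSpace (Matrix.of P).det
    have h' : IsUnit ((X.presheaf.map (homOfLE hW).op).hom (Matrix.of P).det) := h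
    rwa [RingHom.map_det] at h'

/-- Being a frame is local. -/
theorem isBasisOn_of_locally {M : X.Modules} {U : X.Opens} (s : I → Γ(M, ⊤))
    (h : ∀ x ∈ U, ∃ W : X.Opens, x ∈ W ∧ IsBasisOn M W fun i => resM M le_top (s i)) :
    IsBasisOn M U fun i => resM M le_top (s i) := by
  classical
  intro V hV
  choose W hxW hW using fun x : V => h x.1 (hV x.2)
  have hcov : V ≤ ⨆ x : V, V ⊓ W x := fun y hy => Opens.mem_iSup.2 ⟨⟨y, hy⟩, hy, hxW _⟩
  have hsum : ∀ (x : V) (c : I → Γ(X, V)), ∑ i, PicLib.res (inf_le_left : V ⊓ W x ≤ V) (c i) •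
      resM M (inf_le_right : V ⊓ W x ≤ W x) (resM M le_top (s i)) =
        resM M (inf_le_left : V ⊓ W x ≤ V) (∑ i, c i • resM M hV (resM M le_top (s i))) := fun x c => by
    rw [map_sum]
    refine Finset.sum_congr rfl fun i _ => ?_
    rw [resM_smul, resM_resM, resM_resM, resM_resM]
  refine ⟨fun c d hcd => funext fun i => TopCat.Sheaf.eq_of_locally_eq' X.sheaf (fun x : V => V ⊓ W x) V
    (fun x => homOfLE inf_le_left) hcov (c i) (d i) fun x => ?_, fun m => ?_⟩
  · exact congrFun ((hW x (inf_le_right : V ⊓ W x ≤ W x)).1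
      ((hsum x c).trans ((congrArg _ hcd).trans (hsum x d).symm))) i
  · let cx : ∀ x : V, I → Γ(X, V ⊓ W x) := fun x => (hW x).coef inf_le_right (resM M inf_le_left m)
    have hcx : ∀ (x : V) {O : X.Opens} (hO : O ≤ V ⊓ W x),
        (hW x).coef (hO.trans inf_le_right) (resM M (hO.trans inf_le_left) m) = fun i => PicLib.res hO (cx x i) := by
      intro x O hO
      refine (hW x).coef_eq _ ?_
      have := congrArg (resM M hO) ((hW x).coef_spec (inf_le_right : V ⊓ W x ≤ W x) (resM M inf_le_left m))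
      rw [map_sum, resM_resM] at this
      refine Eq.trans (Finset.sum_congr rfl fun i _ => ?_) this
      rw [resM_smul, resM_resM, resM_resM, resM_resM]
    have hcompat : ∀ (i : I) (x y : V), PicLib.res (inf_le_left : (V ⊓ W x) ⊓ (V ⊓ W y) ≤ V ⊓ W x) (cx x i) =
        PicLib.res inf_le_right (cx y i) := by
      intro i x y
      let O := (V ⊓ W x) ⊓ (V ⊓ W y)
      have h1 : ∀ (z : V) (hO : O ≤ V ⊓ W z), ∑ j, PicLib.res hO (cx z j) • resM M le_top (s j) =
          resM M (hO.trans inf_le_left) m := fun z hO => by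
        rw [← (hW z).coef_spec (hO.trans inf_le_right) (resM M (hO.trans inf_le_left) m), hcx z hO]
        exact Finset.sum_congr rfl fun j _ => by rw [resM_resM]
      refine congrFun ((hW x (inf_le_left.trans inf_le_right : O ≤ W x)).1
        (a₁ := fun j => PicLib.res (inf_le_left : O ≤ V ⊓ W x) (cx x j))
        (a₂ := fun j => PicLib.res (inf_le_right : O ≤ V ⊓ W y) (cx y j)) ?_) i
      simp only [resM_resM]
      exact (h1 x inf_le_left).trans (h1 y inf_le_right).symm
    choose c hc using fun i => (TopCat.Sheaf.existsUnique_gluing' X.sheaf (fun x : V => V ⊓ W x) V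
      (fun x => homOfLE inf_le_left) hcov (fun x => cx x i) (fun x y => hcompat i x y)).exists
    refine ⟨c, TopCat.Sheaf.eq_of_locally_eq' (⟨M.presheaf, M.isSheaf⟩ : TopCat.Sheaf Ab X)
      (fun x : V => V ⊓ W x) V (fun x => homOfLE inf_le_left) hcov _ _ fun x => ?_⟩
    refine (hsum x c).symm.trans ?_
    rw [← (hW x).coef_spec (inf_le_right : V ⊓ W x ≤ W x) (resM M inf_le_left m)]
    exact Finset.sum_congr rfl fun i _ => congrArg (· • _) (hc i x)

/-- Where functions descend and the fibres carry frames, the direct image is locally free with invertible counit. -/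
theorem finLocFree_and_isIso_counit {S : Scheme.{u}} (σ : X ⟶ S) [QuasiCompact σ] [QuasiSeparated σ]
    (hσ : ∀ V : S.Opens, Function.Bijective (σ.app V)) (F : X.Modules) [Coh.IsQCoh F]
    (h : ∀ x : S, ∃ (U : S.Opens) (J : Type u) (_ : Fintype J) (t : J → Γ(F, σ ⁻¹ᵁ U)),
      x ∈ U ∧ IsAffineOpen U ∧ IsBasisOn F (σ ⁻¹ᵁ U) t) :
    FlatMod.IsFinLocFree ((Scheme.Modules.pushforward σ).obj F) ∧
      IsIso ((Scheme.Modules.pullbackPushforwardAdjunction σ).counit.app F) := by
  classical
  let N := (Scheme.Modules.pushforward σ).obj F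
  haveI : Coh.IsQCoh N := Coherent.isQCoh_push σ F
  have hb : ∀ (U : S.Opens) (J : Type u) (_ : Fintype J) (t : J → Γ(F, σ ⁻¹ᵁ U)),
      IsBasisOn F (σ ⁻¹ᵁ U) t → IsBasisOn N U (fun j => (show Γ(N, U) from t j)) := by
    intro U J _ t ht V hV
    refine Eq.mpr (congrArg Function.Bijective (funext fun a => ?_))
      ((ht ((Opens.map σ.base).map (homOfLE hV)).le).comp (Function.Bijective.piMap fun _ : J => hσ V))
    rfl
  refine ⟨CohBC.isFinLocFree_of_bases fun x => ?_, ?_⟩
  · obtain ⟨U, J, hJ, t, hx, hU, ht⟩ := h x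
    exact ⟨U, J, hJ, _, hx, hU, hb U J hJ t ht⟩
  · let c := (Scheme.Modules.pullbackPushforwardAdjunction σ).counit.app F
    choose U J hJ t hx hU ht using h
    refine TwistLib.G.isIso_of_bijective_on_basis c (fun O => ∃ x, O ≤ σ ⁻¹ᵁ U x)
      (fun V y hy => ⟨V ⊓ σ ⁻¹ᵁ U (σ y), ⟨σ y, inf_le_right⟩, ⟨hy, hx _⟩, inf_le_left⟩) ?_
    rintro O ⟨x, hO⟩
    letI := hJ x
    have h1 := (hb (U x) (J x) (hJ x) (t x) (ht x)).pull σ hO
    refine (Function.Bijective.of_comp_iff _ h1).1 ?_
    refine Eq.mpr (congrArg Function.Bijective (funext fun a => ?_)) (ht x hO)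
    refine (map_sum (c.app O).hom _ _).trans (Finset.sum_congr rfl fun j _ => ?_)
    refine (Scheme.Modules.Hom.app_smul _ _ _).trans ?_
    exact congrArg (a j • ·) ((app_resM c hO _).trans
      (congrArg (resM F hO) (AmpleLib.counit_app_pullSec σ F (U x) (t x j))))

end Groth.Agent.SurfBl13
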