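import Groth.Agent.SurfBl13.Affine
import Groth.Agent.SurfBl13.Frame
import Groth.Agent.Resolve13.LocalGen
import Groth.Agent.Resolve13.PointExc
import Groth.Agent.Models7.NodeResolve.BlowUp
import Groth.Agent.Unram17Lib.RelDim
import Groth.Agent.VarietyLib.SmoothStalk
import Groth.Agent.BlowUpCoh.Regular
import Groth.Agent.S1617
import Groth.Agent.S9004

/-!
# A finite set of smooth points of a surface and its blow-up
-/

set_option autoImplicit false
set_option linter.style.haveILetI false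
set_option backward.isDefEq.respectTransparency.types false
set_option maxHeartbeats 1000000

universe u

open CategoryTheory CategoryTheory.Limits AlgebraicGeometry TopologicalSpace Opposite
open Groth.Agent.Coherent Groth.Agent.PicLib Groth.Agent.AmpleLib Groth.Agent.CAlgH.KoszulRegular
open Groth.Agent.BlowUpCoh

namespace Groth.Agent.SurfBl13

/-- Closed points of a smooth surface are regular of dimension two. -/
theorem regular_of_surface (k : Type u) [Field k] {S : Scheme.{u}} (f : S ⟶ Spec (CommRingCat.of k))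
    [SmoothOfRelativeDimension 2 f] (z : S) (hz : IsClosed ({z} : Set S)) :
    IsRegularLocalRing (S.presheaf.stalk z) ∧ ringKrullDim (S.presheaf.stalk z) = 2 := by
  letI : S.Over (Spec (CommRingCat.of k)) := ⟨f⟩
  haveI : SmoothOfRelativeDimension 2 (S ↘ Spec (CommRingCat.of k)) := ‹SmoothOfRelativeDimension 2 f›
  haveI : Smooth f := SmoothOfRelativeDimension.smooth 2 f
  haveI : LocallyOfFiniteType (S ↘ Spec (CommRingCat.of k)) := inferInstanceAs (LocallyOfFiniteType f)
  refine ⟨VarietyLib.isRegularLocalRing_stalk_of_smooth k S f z, ?_⟩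
  rw [← S1617.result k S z hz, Unram17Lib.localDim_of_smoothOfRelativeDimension k f 2 z]
  rfl

variable {S : Scheme.{u}} [IsLocallyNoetherian S] {Z : Closeds S}

/-- Koszul regular generators of a reduced finite set near one of its regular points. -/
theorem exists_local_gen_isolated (z : S) (hz : IsClosed ({z} : Set S)) (hrest : IsClosed ((Z : Set S) \ {z}))
    (hzZ : z ∈ Z) [IsRegularLocalRing (S.presheaf.stalk z)] (hdim : ringKrullDim (S.presheaf.stalk z) = 2) :
    ∃ (U : S.affineOpens) (g : Fin (1 + 1) → Γ(S, U.1)), z ∈ U.1 ∧ (∀ w ∈ U.1, w ∈ Z → w = z) ∧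
      (Scheme.IdealSheafData.vanishingIdeal Z).ideal U = Ideal.span (Set.range g) ∧ KReg g ∧
      (Ideal.span (Set.range g)).IsMaximal := by
  let O : S.Opens := ⟨((Z : Set S) \ {z})ᶜ, hrest.isOpen_compl⟩
  have hzO : z ∈ O := fun h => h.2 rfl
  let z' : O.toScheme := ⟨z, hzO⟩
  haveI : IsRegularLocalRing (O.toScheme.presheaf.stalk z') :=
    IsRegularLocalRing.of_ringEquiv (R := S.presheaf.stalk z) (O.stalkIso z').symm.commRingCatIsoToRingEquiv
  have hdim' : ringKrullDim (O.toScheme.presheaf.stalk z') = 2 :=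
    (ringKrullDim_eq_of_ringEquiv (O.stalkIso z').commRingCatIsoToRingEquiv).trans hdim
  have hpre : (O.ι ⁻¹' (Z : Set S)) = {z'} := by
    ext w
    refine ⟨fun hw => Subtype.ext ?_, fun hw => ?_⟩
    · by_contra hne
      exact w.2 ⟨hw, hne⟩
    · rw [Set.mem_singleton_iff.1 hw]; exact hzZ
  have hz' : IsClosed ({z'} : Set O.toScheme) := hpre ▸ Z.isClosed.preimage O.ι.continuous
  obtain ⟨U, hzU, g, hg1, hg2, hmax⟩ := Resolve13.exists_local_gen z' hz' hdim'
  refine ⟨imageAff O U, g, ⟨z', hzU, rfl⟩, ?_, ?_, hg2, hmax⟩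
  · rintro _ ⟨w, hw, rfl⟩ hwZ
    exact congrArg Subtype.val (show w = z' from hpre.le hwZ)
  · have e : (Scheme.IdealSheafData.vanishingIdeal Z).comap O.ι =
        Scheme.IdealSheafData.vanishingIdeal ⟨{z'}, hz'⟩ :=
      (Models7.NodeResolve.comap_vanishingIdeal_etale O.ι Z).trans
        (congrArg Scheme.IdealSheafData.vanishingIdeal (Closeds.ext hpre))
    exact ((ideal_comap_ι O U).symm.trans (by rw [e])).trans hg1

variable {X : Scheme.{u}} (b : X ⟶ S) (hb : BlowUp.IsBlowUp b (Scheme.IdealSheafData.vanishingIdeal Z))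

/-- All points of the set are regular of dimension two and isolated in it. -/
def Points (Z : Closeds S) : Prop :=
  ∀ z ∈ Z, IsClosed ({z} : Set S) ∧ IsClosed ((Z : Set S) \ {z}) ∧ IsRegularLocalRing (S.presheaf.stalk z) ∧
    ringKrullDim (S.presheaf.stalk z) = 2

theorem isProper_blowUp (hb : BlowUp.IsBlowUp b (Scheme.IdealSheafData.vanishingIdeal Z)) : IsProper b :=
  BlowUpLib.isProper_of_isBlowUp hb (FlatMorAdm.isFiniteTypeIdeal_of_noetherian _)

include hb in
theorem bijective_app_blowUp (h : Points Z) (V : S.Opens) : Function.Bijective (b.app V) := by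
  have hI : KoszulBasis (Scheme.IdealSheafData.vanishingIdeal Z) 1 := koszulBasis_of_local fun x hx => by
    have hxZ : x ∈ Z := (Scheme.IdealSheafData.coe_support_vanishingIdeal Z).le hx
    obtain ⟨hc, hr, hreg, hd⟩ := h x hxZ
    obtain ⟨U, g, hxU, -, hg1, hg2, -⟩ := exists_local_gen_isolated x hc hr hxZ hd
    exact ⟨U, 1, g, hxU, le_rfl, hg1, hg2⟩
  haveI := BlowUpCoh.isIso_unitMap hb hI
  exact ConcreteCategory.bijective_of_isIso ((StMod.unitMap b).app V)

include hb in
/-- Near each point the blow-up is good, over an open on which two elements generate the centre. -/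
theorem exists_good_gens (h : Points Z) (z : S) (hzZ : z ∈ Z) :
    ∃ (U : S.affineOpens) (g : Fin (1 + 1) → Γ(S, U.1)) (hzU : z ∈ U.1), (∀ w ∈ U.1, w ∈ Z → w = z) ∧
      (Scheme.IdealSheafData.vanishingIdeal Z).ideal U = Ideal.span (Set.range g) ∧
      (Ideal.span (Set.range g)).IsMaximal ∧
      IsLocalRing.maximalIdeal (S.presheaf.stalk z) = Ideal.span (Set.range fun i => S.presheaf.germ U.1 z hzU (g i)) ∧
      Good (((Scheme.IdealSheafData.vanishingIdeal Z).comap b).comap (b ⁻¹ᵁ U.1).ι) := by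
  obtain ⟨hc, hr, hreg, hd⟩ := h z hzZ
  obtain ⟨U, g, hzU, hiso, hg1, hg2, hmax⟩ := exists_local_gen_isolated z hc hr hzZ hd
  refine ⟨U, g, hzU, hiso, hg1, hmax, ?_, ?_⟩
  · let := S.presheaf.algebra_section_stalk ⟨z, hzU⟩
    haveI := U.2.isLocalization_stalk ⟨z, hzU⟩
    have hp : (U.2.primeIdealOf ⟨z, hzU⟩).asIdeal = Ideal.span (Set.range g) := by
      refine (hmax.eq_of_le (U.2.primeIdealOf ⟨z, hzU⟩).isPrime.ne_top ?_).symm
      rw [← hg1]
      intro a ha
      have hz' : z ∈ S.zeroLocus (U := U.1) ((Scheme.IdealSheafData.vanishingIdeal Z).ideal U : Set Γ(S, U.1)) :=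
        (((Scheme.IdealSheafData.vanishingIdeal Z).coe_support_inter U).le
          ⟨(Scheme.IdealSheafData.coe_support_vanishingIdeal Z).ge hzZ, hzU⟩).1
      have hz'' := (Scheme.mem_zeroLocus_iff _ _ _).1 hz' a ha
      by_contra hna
      exact hz'' ((S.mem_basicOpen a z hzU).2
        (IsLocalization.map_units (S.presheaf.stalk z)
          (⟨a, hna⟩ : (U.2.primeIdealOf ⟨z, hzU⟩).asIdeal.primeCompl)))
    rw [← IsLocalization.AtPrime.map_eq_maximalIdeal (U.2.primeIdealOf ⟨z, hzU⟩).asIdeal (S.presheaf.stalk z), hp,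
      Ideal.map_span, ← Set.range_comp]
    rfl
  obtain ⟨U, hU⟩ := U
  let I := Scheme.IdealSheafData.vanishingIdeal Z
  let τ := hU.isoSpec
  let J₀ := I.comap hU.fromSpec
  have hJ₀ : J₀.comap τ.hom = I.comap U.ι := by
    rw [← Scheme.IdealSheafData.comap_comp]
    exact congrArg I.comap (by rw [← hU.isoSpec_inv_ι, Iso.hom_inv_id_assoc])
  let b' : (b ⁻¹ᵁ U).toScheme ⟶ Spec Γ(S, U) := (b ∣_ U) ≫ τ.hom
  haveI : IsNoetherianRing Γ(S, U) := IsLocallyNoetherian.component_noetherian ⟨U, hU⟩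
  have hgood : Good (J₀.comap b') :=
    good_of_affine J₀ b' (BlowUpLib.isBlowUp_of_iso_right τ.hom J₀ hJ₀ (BlowUpLib.isBlowUp_restrict hb U))
      (fun i => (Scheme.ΓSpecIso Γ(S, U)).inv.hom (g i))
      (by
        refine (Resolve13.ideal_comap_fromSpec I ⟨U, hU⟩).trans ?_
        rw [hg1, Ideal.map_span, ← Set.range_comp]
        rfl)
      (BlowUpKoszul.kreg_equiv _ (Scheme.ΓSpecIso Γ(S, U)).symm.commRingCatIsoToRingEquiv g hg2)
  have : J₀.comap b' = (I.comap b).comap (b ⁻¹ᵁ U).ι := by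
    show J₀.comap ((b ∣_ U) ≫ τ.hom) = _
    rw [Scheme.IdealSheafData.comap_comp, hJ₀, BlowUpCoh.comap_restrict]
  exact this ▸ hgood

include hb in
/-- Near each point the blow-up is good. -/
theorem exists_good (h : Points Z) (z : S) (hzZ : z ∈ Z) :
    ∃ U : S.affineOpens, z ∈ U.1 ∧ (∀ w ∈ U.1, w ∈ Z → w = z) ∧
      Good (((Scheme.IdealSheafData.vanishingIdeal Z).comap b).comap (b ⁻¹ᵁ U.1).ι) := by
  obtain ⟨U, -, hzU, hiso, -, -, -, hgood⟩ := exists_good_gens b hb h z hzZ
  exact ⟨U, hzU, hiso, hgood⟩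

/-- Over a neighbourhood containing no other point of the set the exceptional ideals agree. -/
theorem comap_eq_of_isolated (z : S) (hz : IsClosed ({z} : Set S)) (hzZ : z ∈ Z) (U : S.Opens)
    (hiso : ∀ w ∈ U, w ∈ Z → w = z) :
    ((Scheme.IdealSheafData.vanishingIdeal ⟨{z}, hz⟩).comap b).comap (b ⁻¹ᵁ U).ι =
      ((Scheme.IdealSheafData.vanishingIdeal Z).comap b).comap (b ⁻¹ᵁ U).ι := by
  rw [← BlowUpCoh.comap_restrict, ← BlowUpCoh.comap_restrict]
  refine congrArg (fun I => Scheme.IdealSheafData.comap I (b ∣_ U)) ?_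
  rw [Models7.NodeResolve.comap_vanishingIdeal_etale, Models7.NodeResolve.comap_vanishingIdeal_etale]
  refine congrArg Scheme.IdealSheafData.vanishingIdeal (Closeds.ext (Set.ext fun w => ?_))
  exact ⟨fun (hw : U.ι w ∈ ({z} : Set S)) => by
      show U.ι w ∈ Z
      rw [Set.mem_singleton_iff.1 hw]; exact hzZ,
    fun hw => hiso _ w.2 hw⟩

/-- Closed sets of a proper morphism: neighbourhoods of a fibre contain preimages of neighbourhoods. -/
theorem exists_affine_preimage_le [IsProper b] (z : S) (V : X.Opens) (hV : ∀ y, b y = z → y ∈ V) :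
    ∃ U : S.affineOpens, z ∈ U.1 ∧ b ⁻¹ᵁ U.1 ≤ V := by
  have hc : IsClosed (b '' (V : Set X)ᶜ) := b.isClosedMap _ V.2.isClosed_compl
  obtain ⟨U, hU, hzU, hUle⟩ := exists_isAffineOpen_mem_and_subset (x := z) (U := ⟨_, hc.isOpen_compl⟩)
    (fun ⟨y, hy, hyz⟩ => hy (hV y hyz))
  exact ⟨⟨U, hU⟩, hzU, fun y hy => not_not.1 fun h => hUle hy ⟨y, h, rfl⟩⟩

variable {F : X.Modules}

/-- A frame on an exceptional curve extends to a neighbourhood. -/
theorem exists_frame_nhd (h : Points Z) (hb : BlowUp.IsBlowUp b (Scheme.IdealSheafData.vanishingIdeal Z))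
    (hF : FlatMod.IsFinLocFree F) (z : S) (hzZ : z ∈ Z) {r : ℕ} (J : X.IdealSheafData)
    (hJ : ∀ (U : S.Opens), z ∈ U → (∀ w ∈ U, w ∈ Z → w = z) → J.comap (b ⁻¹ᵁ U).ι =
      ((Scheme.IdealSheafData.vanishingIdeal Z).comap b).comap (b ⁻¹ᵁ U).ι)
    (e : (Scheme.Modules.pullback J.subschemeι).obj F ≅ FlatMod.freeMod J.subscheme r) :
    ∃ (V : X.Opens) (t : ULift.{u} (Fin r) → Γ(F, V)), (∀ y, b y = z → y ∈ V) ∧ IsBasisOn F V t := by
  classical
  obtain ⟨U, hzU, hiso, hgood⟩ := exists_good b hb h z hzZ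
  let O : X.Opens := b ⁻¹ᵁ U.1
  rw [← hJ U.1 hzU hiso] at hgood
  let J' := J.comap O.ι
  let i := J'.subschemeι
  let k : J'.subscheme ⟶ J.subscheme := IsClosedImmersion.lift J.subschemeι (i ≫ O.ι) (by
    rw [Scheme.IdealSheafData.ker_subschemeι]
    refine le_trans ?_ (le_of_eq (Scheme.Hom.ker_comp i O.ι).symm)
    rw [Scheme.IdealSheafData.ker_subschemeι]
    exact Scheme.IdealSheafData.le_map_iff_comap_le.2 le_rfl)
  have hk : k ≫ J.subschemeι = i ≫ O.ι := IsClosedImmersion.lift_fac _ _ _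
  let FO := (Scheme.Modules.pullback O.ι).obj F
  have hFO : FlatMod.IsFinLocFree FO := FlatMorAdm.isFinLocFree_pullback O.ι hF
  let e' : (Scheme.Modules.pullback i).obj FO ≅ FlatMod.freeMod J'.subscheme r :=
    (Scheme.Modules.pullbackComp i O.ι).app F ≪≫ (Scheme.Modules.pullbackCongr hk.symm).app F ≪≫
      ((Scheme.Modules.pullbackComp k J.subschemeι).app F).symm ≪≫ (Scheme.Modules.pullback k).mapIso e ≪≫
      PreservesCoproduct.iso (Scheme.Modules.pullback k) (fun _ : Fin r => Coh.structureModule _) ≪≫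
      Sigma.mapIso fun _ => PicLoc.pullbackStructureIso k
  obtain ⟨t, ht⟩ := FlatMor12.FreeCharts.exists_isBasisOn_top e'
  have hgg : Curv2.IsGloballyGenerated ((Scheme.Modules.pullback i).obj FO) :=
    ⟨ULift.{u} (Fin r), (show Coherent.freeMod J'.subscheme (ULift.{u} (Fin r)) ⟶ _ from
      (Props12.freeModIso J'.subscheme r).hom ≫ e'.inv), inferInstance⟩
  obtain ⟨-, hsurj, -⟩ := hgood.generated hFO hgg
  choose s hs using fun j => hsurj (t j)
  have ht' : IsBasisOn ((Scheme.Modules.pullback i).obj FO) ⊤ fun j => pullSec i (s j) := by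
    convert ht using 1
    exact funext hs
  choose W hzW hW using fun p => exists_basis_of_restrict i hFO s ht' p
  let V₀ : O.toScheme.Opens := ⨆ p, W p
  have hV₀ : IsBasisOn FO V₀ fun j => resM FO le_top (s j) :=
    isBasisOn_of_locally s fun x hx => by
      obtain ⟨p, hp⟩ := Opens.mem_iSup.1 hx
      exact ⟨W p, hp, hW p⟩
  obtain ⟨φ⟩ := FinCovLib29.nonempty_iso_of_isBasisOn hV₀
  let j := V₀.ι ≫ O.ι
  let ψ : F.restrict j ≅ FlatMod.freeMod V₀.toScheme r :=
    (Scheme.Modules.restrictFunctorComp V₀.ι O.ι).app F ≪≫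
      (Scheme.Modules.restrictFunctor V₀.ι).mapIso ((Scheme.Modules.restrictFunctorIsoPullback O.ι).app F) ≪≫ φ
  obtain ⟨t', ht''⟩ := S9004.exists_isBasisOn_opensRange j ψ
  refine ⟨j ''ᵁ ⊤, t', fun y hy => ?_, ht''⟩
  have hyO : y ∈ O := show b y ∈ U.1 from hy ▸ hzU
  have hyJ : (⟨y, hyO⟩ : O.toScheme) ∈ J'.support := by
    show (⟨y, hyO⟩ : O.toScheme) ∈ ((J.comap O.ι).support : Set O.toScheme)
    rw [hJ U.1 hzU hiso, Scheme.IdealSheafData.support_comap, Scheme.IdealSheafData.support_comap]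
    refine (Scheme.IdealSheafData.coe_support_vanishingIdeal Z).ge ?_
    show b y ∈ (Z : Set S)
    rw [hy]; exact hzZ
  obtain ⟨p, hp⟩ := J'.range_subschemeι.ge hyJ
  have hmem : (⟨y, hyO⟩ : O.toScheme) ∈ V₀ := Opens.mem_iSup.2 ⟨p, hp ▸ hzW p⟩
  exact ⟨⟨_, hmem⟩, trivial, rfl⟩

end Groth.Agent.SurfBl13
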