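import Groth.Agent.SurfBl13.QuadLin
import Groth.Agent.SurfBl13.Mult
import Groth.Agent.SurfBl13.Point
import Groth.Agent.Models7.ContractStep
import Groth.Agent.Inters29.Class
import Groth.Agent.SDiv28.BlowUp
import Groth.Agent.FSchLib.IdealSheaf
import Groth.Agent.FBlowLib.Descend
import Groth.Agent.ProjLib.DegOneChart
import Groth.Agent.FlatMor12.AmpleFamily

/-!
# Linear forms through a point and the exceptional ideals of a blow-up in finitely many points
-/

set_option autoImplicit false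
set_option linter.unusedSectionVars false
set_option linter.style.haveILetI false
set_option backward.isDefEq.respectTransparency.types false
set_option maxHeartbeats 2000000

universe u

open AlgebraicGeometry CategoryTheory TopologicalSpace Opposite HomogeneousLocalization
open Groth.Agent.Coherent Groth.Agent.PicLib Groth.Agent.AmpleLib Groth.Agent.EulerLib Groth.Agent.CurveRR24

namespace Groth.Agent.SurfBl13

/-- The ideal of a finite set of closed points is the product of their ideals. -/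
theorem vanishingIdeal_range_eq_prod {S : Scheme.{u}} {s : ℕ} (P : Fin s → S) (hP : Function.Injective P)
    (hPc : ∀ i, IsClosed ({P i} : Set S)) (hZ : IsClosed (Set.range P)) :
    Scheme.IdealSheafData.vanishingIdeal (X := S) ⟨Set.range P, hZ⟩ =
      ∏ i, Scheme.IdealSheafData.vanishingIdeal ⟨{P i}, hPc i⟩ := by
  classical
  have hprod : ∀ (T : Finset (Fin s)) (U : S.affineOpens),
      (∏ i ∈ T, Scheme.IdealSheafData.vanishingIdeal ⟨{P i}, hPc i⟩).ideal U =
        ∏ i ∈ T, (Scheme.IdealSheafData.vanishingIdeal ⟨{P i}, hPc i⟩).ideal U := fun T U => by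
    induction T using Finset.induction_on with
    | empty =>
      rw [Finset.prod_empty, Finset.prod_empty, Scheme.IdealSheafData.one_eq_top, Scheme.IdealSheafData.ideal_top,
        Pi.top_apply, Ideal.one_eq_top]
    | insert a T ha ih =>
      rw [Finset.prod_insert ha, Finset.prod_insert ha, Scheme.IdealSheafData.ideal_mul, Pi.mul_apply, ih]
  refine Scheme.IdealSheafData.ext (funext fun U => ?_)
  rw [hprod, Ideal.prod_eq_iInf_of_pairwise_isCoprime]
  · simp only [Scheme.IdealSheafData.vanishingIdeal_ideal, Finset.mem_univ, iInf_pos]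
    rw [← PrimeSpectrum.vanishingIdeal_iUnion, ← Set.preimage_iUnion]
    refine congrArg (fun A => PrimeSpectrum.vanishingIdeal (U.2.fromSpec ⁻¹' A)) ?_
    show Set.range P = _
    exact (Set.iUnion_singleton_eq_range P).symm
  · intro i _ j _ hij
    show IsCoprime _ _
    rw [Ideal.isCoprime_iff_sup_eq]
    by_contra h
    obtain ⟨q, hq, hle⟩ := Ideal.exists_le_maximal _ h
    have hmem : ∀ l, (Scheme.IdealSheafData.vanishingIdeal (X := S) ⟨{P l}, hPc l⟩).ideal U ≤ q →
        U.2.fromSpec ⟨q, hq.isPrime⟩ = P l := fun l hl => by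
      have h1 : U.2.fromSpec ⟨q, hq.isPrime⟩ ∈
          ((Scheme.IdealSheafData.vanishingIdeal (X := S) ⟨{P l}, hPc l⟩).support : Set S) := by
        have h2 : (⟨q, hq.isPrime⟩ : PrimeSpectrum Γ(S, U.1)) ∈ closure (U.2.fromSpec ⁻¹' {P l}) := by
          refine (PrimeSpectrum.zeroLocus_vanishingIdeal_eq_closure (R := Γ(S, U.1)) _).le fun a ha => hl ?_
          rw [Scheme.IdealSheafData.vanishingIdeal_ideal]
          exact ha
        exact (Scheme.IdealSheafData.coe_support_vanishingIdeal _).ge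
          (((hPc l).preimage U.2.fromSpec.continuous).closure_eq.le h2)
      exact (Scheme.IdealSheafData.coe_support_vanishingIdeal _).le h1
    exact hij (hP ((hmem i (le_sup_left.trans hle)).symm.trans (hmem j (le_sup_right.trans hle))))

theorem comap_finset_prod {X Y : Scheme.{u}} (f : X ⟶ Y) {ι : Type*} (T : Finset ι) (I : ι → Y.IdealSheafData) :
    (∏ i ∈ T, I i).comap f = ∏ i ∈ T, (I i).comap f := by
  classical
  induction T using Finset.induction_on with
  | empty => simp only [Finset.prod_empty]; exact FBlowLib.comap_one f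
  | insert a T ha ih => rw [Finset.prod_insert ha, Finset.prod_insert ha, FSchLib.comap_mul, ih]

/-- Restricting a pulled back section through an open downstairs. -/
theorem resM_pullSec_top {X S : Scheme.{u}} (σ : X ⟶ S) (L : S.Modules) {U : S.Opens} {W : X.Opens}
    (h : W ≤ σ ⁻¹ᵁ U) (s : Γ(L, ⊤)) :
    resM ((Scheme.Modules.pullback σ).obj L) (le_top : W ≤ ⊤) (PicLib.pullSec σ s) =
      resM ((Scheme.Modules.pullback σ).obj L) h (PicLib.pullSec σ (resM L le_top s)) :=
  (resM_resM _ (σ.preimage_mono (le_top : U ≤ ⊤)) h (PicLib.pullSec σ s)).symm.trans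
    (congrArg _ (resM_pullSec σ (le_top : U ≤ ⊤) s))

variable (k : Type u) [Field k]

/-- A combination of two sections vanishing at a rational point. -/
theorem exists_sub_vanishing [IsAlgClosed k] {X : Scheme.{u}} [X.Over (Spec (CommRingCat.of k))]
    [IsProper (X ↘ Spec (CommRingCat.of k))] {L : X.Modules} {p : X} (hp : IsClosed ({p} : Set X))
    (hL : PicF.IsInvertible L) {s₀ : Γ(L, ⊤)} (hp₀ : p ∈ glocus L s₀) (s₁ : Γ(L, ⊤)) :
    ∃ c : k, p ∉ glocus L (s₁ - baseHom k X c • s₀) := by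
  obtain ⟨W, hpW, g, hg⟩ := exists_isGen hL p
  let f₀ := X.presheaf.germ W p hpW (hg.coef le_rfl (resM L le_top s₀))
  let f₁ := X.presheaf.germ W p hpW (hg.coef le_rfl (resM L le_top s₁))
  obtain ⟨u, hu⟩ : IsUnit f₀ := (X.mem_basicOpen _ p hpW).1 ((glocus_inf s₀ hg).le ⟨hp₀, hpW⟩)
  let _ := Curv2.resAlgebra k X p
  haveI := finite_resField hp k
  obtain ⟨c, hc⟩ := (IsAlgClosed.algebraMap_bijective_of_isIntegral (k := k) (K := X.residueField p)).2
    (X.residue p (f₁ * ↑u⁻¹))
  refine ⟨c, fun h => ?_⟩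
  have hcoef : hg.coef le_rfl (resM L le_top (s₁ - baseHom k X c • s₀)) = hg.coef le_rfl (resM L le_top s₁) -
      PicLib.res le_top (baseHom k X c) * hg.coef le_rfl (resM L le_top s₀) := by
    refine hg.coef_eq _ ?_
    rw [sub_smul, mul_smul, hg.coef_spec, hg.coef_spec, ← resM_smul, ← map_sub]
  have hcs : IsUnit (X.presheaf.germ W p hpW (hg.coef le_rfl (resM L le_top (s₁ - baseHom k X c • s₀)))) :=
    (X.mem_basicOpen _ p hpW).1 ((glocus_inf _ hg).le ⟨h, hpW⟩)
  rw [hcoef, map_sub, map_mul] at hcs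
  have hz : X.residue p (f₁ - X.presheaf.germ W p hpW (PicLib.res le_top (baseHom k X c)) * f₀) = 0 := by
    rw [map_sub, map_mul, show X.presheaf.germ W p hpW (PicLib.res le_top (baseHom k X c)) =
      X.presheaf.germ ⊤ p trivial (baseHom k X c) from
        TopCat.Presheaf.germ_res_apply X.presheaf (homOfLE le_top) p hpW _,
      show X.residue p (X.presheaf.germ ⊤ p trivial (baseHom k X c)) = X.residue p (f₁ * ↑u⁻¹) from hc,
      ← map_mul, ← hu, mul_assoc, Units.inv_mul, mul_one, sub_self]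
  exact not_isUnit_zero (hz ▸ hcs.map (X.residue p).hom)

variable {k} {n : ℕ}

local notation "PGr" => CohB1.polyGrading n k

/-- The zero section generates nowhere. -/
theorem notMem_glocus_zero {Y : Scheme.{u}} {H : Y.Modules} (hH : PicF.IsInvertible H) (y : Y) :
    y ∉ glocus H 0 := fun h => by
  obtain ⟨W, hyW, g, hg⟩ := exists_isGen hH y
  have h1 : y ∈ Y.basicOpen (hg.coef le_rfl (resM H le_top (0 : Γ(H, ⊤)))) := (glocus_inf 0 hg).le ⟨h, hyW⟩
  rw [hg.coef_eq le_rfl (r := 0) (by rw [zero_smul, map_zero]), Scheme.basicOpen_zero] at h1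
  exact h1

/-- Through a point pass linear forms whose restrictions to every standard chart generate the ideal of the point. -/
theorem exists_forms_through_zero [IsAlgClosed k] {S : Scheme.{u}} [S.Over (Spec (CommRingCat.of k))]
    [IsProper (S ↘ Spec (CommRingCat.of k))] (ι : S ⟶ CohB1.ProjSpace n k) [IsClosedImmersion ι]
    (hι : ι ≫ CohB1.ProjSpace.toSpec n k = S ↘ Spec (CommRingCat.of k)) {P : S} (hP : IsClosed ({P} : Set S)) :
    ∃ t : Fin (n + 1) → Γ((Scheme.Modules.pullback ι).obj (GrTwist.twist PGr ((1 : ℕ) : ℤ)), ⊤),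
      (∃ l, t l = 0) ∧ ∀ x : S, ∃ (U : S.affineOpens), x ∈ U.1 ∧
        ∃ (g : Γ((Scheme.Modules.pullback ι).obj (GrTwist.twist PGr ((1 : ℕ) : ℤ)), U.1)) (y : Fin (n + 1) → Γ(S, U.1)),
          IsGen _ U.1 g ∧ (∀ i, resM _ (le_top : U.1 ≤ ⊤) (t i) = y i • g) ∧
            Ideal.span (Set.range y) = (Scheme.IdealSheafData.vanishingIdeal ⟨{P}, hP⟩).ideal U := by
  classical
  let H := (Scheme.Modules.pullback ι).obj (GrTwist.twist PGr ((1 : ℕ) : ℤ))
  have hX : ∀ i, MvPolynomial.X i ∈ PGr 1 := fun i => MvPolynomial.isHomogeneous_X k i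
  have hO1 := TwistLib.G.isInvertible_twist (UPLib.exists_degOne (HypLib.hgen (R := k) n)) ((1 : ℕ) : ℤ)
  have hH : PicF.IsInvertible H := PicLoc.isInvertible_pullback ι hO1
  have hloc : ∀ l, glocus H (xsec ι l) = ι ⁻¹ᵁ Proj.basicOpen PGr (MvPolynomial.X l) := fun l =>
    UPLib.preimage_basicOpen_eq (HypLib.hgen n) ι (hX l)
  have hcov : ∀ x : S, ∃ l, x ∈ glocus H (xsec ι l) := fun x => by
    obtain ⟨p, hp, hpy⟩ := UPLib.exists_degOne (HypLib.hgen (R := k) n) (ι x)
    by_contra! hc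
    obtain ⟨co, rfl⟩ := UPLib.exists_eq_ι (𝒮 := PGr) (UPLib.linForm_mem n) (UPLib.isSymmetricAlgebra_linForm n) hp
    rw [UPLib.linForm, Module.Basis.constr_apply_fintype] at hpy
    refine hpy (Submodule.sum_mem _ fun i _ => ?_)
    rw [Algebra.smul_def]
    refine Ideal.mul_mem_left _ _ ?_
    by_contra hi
    exact hc i ((hloc i).ge hi)
  obtain ⟨l₀, hl₀⟩ := hcov P
  have hc0 : ∀ i, ∃ c : k, P ∉ glocus H (xsec ι i - baseHom k S c • xsec ι l₀) ∧
      (P ∉ glocus H (xsec ι i) → c = 0) ∧ (i = l₀ → c = 1) := fun i => by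
    by_cases hi : i = l₀
    · subst hi
      refine ⟨1, ?_, fun h' => absurd hl₀ h', fun _ => rfl⟩
      rw [map_one, one_smul, sub_self]
      exact notMem_glocus_zero hH P
    by_cases h : P ∈ glocus H (xsec ι i)
    · obtain ⟨c, hc⟩ := exists_sub_vanishing k hP hH hl₀ (xsec ι i)
      exact ⟨c, hc, fun h' => absurd h h', fun h' => absurd h' hi⟩
    · exact ⟨0, by rwa [map_zero, zero_smul, sub_zero], fun _ => rfl, fun h' => absurd h' hi⟩
  choose c hc hc' hc1 using hc0
  let co : Fin (n + 1) → Fin (n + 1) → k := fun i => Pi.single i 1 - Pi.single l₀ (c i)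
  have hform : ∀ i, PicLib.pullSec ι (UPLib.sec (𝒜 := PGr) (UPLib.linForm n (co i)) (UPLib.linForm_mem n (co i))) =
      xsec ι i - baseHom k S (c i) • xsec ι l₀ := fun i => by
    rw [pullSec_linForm, hι]
    change ∑ j, baseHom k S (co i j) • xsec ι j = _
    simp only [co, Pi.sub_apply, map_sub, sub_smul, Finset.sum_sub_distrib]
    refine congrArg₂ (· - ·) ?_ ?_
    · rw [Finset.sum_eq_single i (fun j _ hj => by rw [Pi.single_eq_of_ne hj, map_zero, zero_smul])
        (fun h => absurd (Finset.mem_univ i) h), Pi.single_eq_same, map_one, one_smul]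
    · rw [Finset.sum_eq_single l₀ (fun j _ hj => by rw [Pi.single_eq_of_ne hj, map_zero, zero_smul])
        (fun h => absurd (Finset.mem_univ l₀) h), Pi.single_eq_same]
  refine ⟨fun i => xsec ι i - baseHom k S (c i) • xsec ι l₀,
    ⟨l₀, by show _ - baseHom k S (c l₀) • _ = 0; rw [hc1 l₀ rfl, map_one, one_smul, sub_self]⟩, fun x => ?_⟩
  obtain ⟨l, hl⟩ := hcov x
  let V : S.Opens := ι ⁻¹ᵁ Proj.basicOpen PGr (MvPolynomial.X l)
  have hB : IsAffineOpen (X := CohB1.ProjSpace n k) (Proj.basicOpen PGr (MvPolynomial.X l)) :=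
    Proj.isAffineOpen_basicOpen _ _ (hX l) one_pos
  have hVaff : IsAffineOpen V := hB.preimage ι
  let Φ : MvPolynomial (Fin (n + 1)) k →+* Γ(S, V) :=
    (Proj.awayToSection PGr (MvPolynomial.X l) ≫ ι.appLE _ V le_rfl).hom.comp
      (ProjLib.dehomOne (𝒜 := PGr) (hX l))
  have hΦ : Function.Surjective Φ := by
    have h1 : Function.Surjective (ProjLib.dehomOne (𝒜 := PGr) (hX l)) := fun q => by
      obtain ⟨N, a, ha, rfl⟩ := Away.mk_surjective PGr (hX l) q
      exact ⟨a, ProjLib.dehomOne_of_mem (hX l) (show a ∈ PGr N by simpa using ha)⟩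
    have h2 : Function.Surjective (Proj.awayToSection PGr (MvPolynomial.X l)).hom :=
      (ConcreteCategory.bijective_of_isIso (Proj.basicOpenIsoAway PGr _ (hX l) one_pos).hom).2
    have h3 : Function.Surjective (ι.appLE _ V le_rfl).hom := by
      rw [← Scheme.Hom.app_eq_appLE]
      exact ι.app_surjective _ hB
    exact (h3.comp h2).comp h1
  let g : Γ(H, V) := resM H le_top (xsec ι l)
  have hg : IsGen H V g := by
    have h := (isGen_glocus (L := H) (xsec ι l)).restrict (hloc l).ge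
    rwa [resM_resM] at h
  let y : Fin (n + 1) → Γ(S, V) := fun i => Φ (UPLib.linForm n (co i))
  have hty : ∀ i, resM H (le_top : V ≤ ⊤) (xsec ι i - baseHom k S (c i) • xsec ι l₀) = y i • g := fun i => by
    rw [← hform]
    refine (UPLib.appLE_smul_sec (𝒜 := PGr) (hX l) ι V le_rfl _ (by simpa using UPLib.linForm_mem n (co i))).symm.trans ?_
    refine congrArg (· • g) ?_
    show _ = (Proj.awayToSection PGr (MvPolynomial.X l) ≫ ι.appLE _ V le_rfl).hom (ProjLib.dehomOne (hX l) _)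
    rw [ProjLib.dehomOne_of_mem (hX l) (UPLib.linForm_mem n (co i))]
    rfl
  refine ⟨⟨V, hVaff⟩, (hloc l).le hl, g, y, hg, hty, ?_⟩
  let m := (Scheme.IdealSheafData.vanishingIdeal (X := S) ⟨{P}, hP⟩).ideal ⟨V, hVaff⟩
  let K : Ideal Γ(S, V) := Ideal.span (Set.range y)
  have hKm : K ≤ m := Ideal.span_le.2 (Set.range_subset_iff.2 fun i => by
    show y i ∈ (Scheme.IdealSheafData.vanishingIdeal (X := S) ⟨{P}, hP⟩).ideal ⟨V, hVaff⟩
    rw [Scheme.IdealSheafData.vanishingIdeal_ideal, PrimeSpectrum.mem_vanishingIdeal]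
    intro q hq
    by_contra hyq
    have hq' : hVaff.fromSpec q ∈ S.basicOpen (y i) := by
      change q ∈ hVaff.fromSpec ⁻¹ᵁ S.basicOpen (y i)
      rw [hVaff.fromSpec_preimage_basicOpen]
      exact hyq
    have hqP : hVaff.fromSpec q = P := hq
    rw [hqP] at hq'
    refine hc i ?_
    have h := glocus_inf (xsec ι i - baseHom k S (c i) • xsec ι l₀) hg
    rw [hg.coef_eq le_rfl (r := y i) (by rw [resM_self]; exact (hty i).symm)] at h
    exact (h.ge hq').1)
  show K = m
  let φ : MvPolynomial (Fin (n + 1)) k →+* Γ(S, V) ⧸ K := (Ideal.Quotient.mk K).comp Φ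
  have hφs : Function.Surjective φ := Ideal.Quotient.mk_surjective.comp hΦ
  have hlin : ∀ i, φ (MvPolynomial.X i) = φ (MvPolynomial.C (c i)) * φ (MvPolynomial.X l₀) := fun i => by
    rw [← sub_eq_zero, ← map_mul, ← map_sub]
    refine Ideal.Quotient.eq_zero_iff_mem.2 (Ideal.subset_span ⟨i, congrArg Φ ?_⟩)
    rw [UPLib.linForm, Module.Basis.constr_apply_fintype]
    simp only [co, Pi.basisFun_equivFun, LinearEquiv.refl_apply, Pi.sub_apply, sub_smul, Finset.sum_sub_distrib]
    refine congrArg₂ (· - ·) ?_ ?_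
    · rw [Finset.sum_eq_single i (fun j _ hj => by rw [Pi.single_eq_of_ne hj, zero_smul])
        (fun h => absurd (Finset.mem_univ i) h), Pi.single_eq_same, one_smul]
    · rw [Finset.sum_eq_single l₀ (fun j _ hj => by rw [Pi.single_eq_of_ne hj, zero_smul])
        (fun h => absurd (Finset.mem_univ l₀) h), Pi.single_eq_same, MvPolynomial.smul_eq_C_mul]
  have hone : φ (MvPolynomial.X l) = 1 := by
    show Ideal.Quotient.mk K (((Proj.awayToSection PGr (MvPolynomial.X l) ≫ ι.appLE _ V le_rfl).hom)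
      (ProjLib.dehomOne (hX l) (MvPolynomial.X l))) = 1
    rw [ProjLib.dehomOne_self, map_one, map_one]
  by_cases hK : K = ⊤
  · exact le_antisymm hKm (hK ▸ le_top)
  haveI : Nontrivial (Γ(S, V) ⧸ K) := Ideal.Quotient.nontrivial_iff.2 hK
  have hcl : c l ≠ 0 := fun h => by
    have := hlin l
    rw [hone, h, map_zero, map_zero, zero_mul] at this
    exact one_ne_zero this
  have hPV : P ∈ V := by
    by_contra hPV
    exact hcl (hc' l fun h => hPV ((hloc l).le h))
  have hl0 : φ (MvPolynomial.X l₀) = φ (MvPolynomial.C (c l)⁻¹) := by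
    have h := hlin l
    rw [hone] at h
    refine (one_mul _).symm.trans ?_
    rw [show (1 : Γ(S, V) ⧸ K) = φ (MvPolynomial.C (c l)⁻¹) * φ (MvPolynomial.C (c l)) by
      rw [← map_mul, ← map_mul, inv_mul_cancel₀ hcl, map_one, map_one], mul_assoc, ← h, mul_one]
  have hev : φ = (φ.comp MvPolynomial.C).comp (MvPolynomial.eval fun i => c i * (c l)⁻¹) :=
    MvPolynomial.ringHom_ext (fun a => by simp) fun i => by
      show φ _ = φ (MvPolynomial.C (MvPolynomial.eval _ (MvPolynomial.X i)))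
      rw [MvPolynomial.eval_X, map_mul, map_mul, hlin i, hl0]
  have hsurj : Function.Surjective (φ.comp MvPolynomial.C) := fun q => by
    obtain ⟨p, rfl⟩ := hφs q
    exact ⟨_, (DFunLike.congr_fun hev p).symm⟩
  haveI : K.IsMaximal := by
    refine Ideal.Quotient.maximal_of_isField K ?_
    exact MulEquiv.isField (Field.toIsField k)
      (RingEquiv.ofBijective _ ⟨(φ.comp MvPolynomial.C).injective, hsurj⟩).symm.toMulEquiv
  refine Ideal.IsMaximal.eq_of_le inferInstance (fun htop => ?_) hKm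
  have h1 : (1 : Γ(S, V)) ∈ m := htop ▸ Submodule.mem_top
  change (1 : Γ(S, V)) ∈ (Scheme.IdealSheafData.vanishingIdeal (X := S) ⟨{P}, hP⟩).ideal ⟨V, hVaff⟩ at h1
  rw [Scheme.IdealSheafData.vanishingIdeal_ideal, PrimeSpectrum.mem_vanishingIdeal] at h1
  exact (hVaff.primeIdealOf ⟨P, hPV⟩).isPrime.ne_top ((Ideal.eq_top_iff_one _).2
    (h1 (hVaff.primeIdealOf ⟨P, hPV⟩) (hVaff.fromSpec_primeIdealOf ⟨P, hPV⟩)))

/-- Through a point pass linear forms whose restrictions to every standard chart generate the ideal of the point. -/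
theorem exists_forms_through [IsAlgClosed k] {S : Scheme.{u}} [S.Over (Spec (CommRingCat.of k))]
    [IsProper (S ↘ Spec (CommRingCat.of k))] (ι : S ⟶ CohB1.ProjSpace n k) [IsClosedImmersion ι]
    (hι : ι ≫ CohB1.ProjSpace.toSpec n k = S ↘ Spec (CommRingCat.of k)) {P : S} (hP : IsClosed ({P} : Set S)) :
    ∃ t : Fin (n + 1) → Γ((Scheme.Modules.pullback ι).obj (GrTwist.twist PGr ((1 : ℕ) : ℤ)), ⊤),
      ∀ x : S, ∃ (U : S.affineOpens), x ∈ U.1 ∧
        ∃ (g : Γ((Scheme.Modules.pullback ι).obj (GrTwist.twist PGr ((1 : ℕ) : ℤ)), U.1)) (y : Fin (n + 1) → Γ(S, U.1)),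
          IsGen _ U.1 g ∧ (∀ i, resM _ (le_top : U.1 ≤ ⊤) (t i) = y i • g) ∧
            Ideal.span (Set.range y) = (Scheme.IdealSheafData.vanishingIdeal ⟨{P}, hP⟩).ideal U := by
  obtain ⟨t, -, ht⟩ := exists_forms_through_zero ι hι hP
  exact ⟨t, ht⟩

/-- The forms through the point give generators, one of them zero. -/
theorem exists_gen_sections [IsAlgClosed k] {S : Scheme.{u}} [S.Over (Spec (CommRingCat.of k))]
    [IsProper (S ↘ Spec (CommRingCat.of k))] (ι : S ⟶ CohB1.ProjSpace n k) [IsClosedImmersion ι]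
    (hι : ι ≫ CohB1.ProjSpace.toSpec n k = S ↘ Spec (CommRingCat.of k)) {P : S} (hP : IsClosed ({P} : Set S))
    {X : Scheme.{u}} [IsLocallyNoetherian X] (σ : X ⟶ S)
    (hE : BlowUp.IsEffCartierIdeal ((Scheme.IdealSheafData.vanishingIdeal ⟨{P}, hP⟩).comap σ)) :
    ∃ z : Fin (n + 1) → Γ(CohB1.tensorMod (ClSub.idealMod ((Scheme.IdealSheafData.vanishingIdeal ⟨{P}, hP⟩).comap σ))
      ((Scheme.Modules.pullback σ).obj ((Scheme.Modules.pullback ι).obj (GrTwist.twist PGr ((1 : ℕ) : ℤ)))), ⊤),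
      (∃ l, z l = 0) ∧ ∀ w, ∃ i, w ∈ glocus _ (z i) := by
  classical
  obtain ⟨t, ⟨l, hl⟩, ht⟩ := exists_forms_through_zero ι hι hP
  have hO1 := TwistLib.G.isInvertible_twist (UPLib.exists_degOne (HypLib.hgen (R := k) n)) ((1 : ℕ) : ℤ)
  let H := (Scheme.Modules.pullback ι).obj (GrTwist.twist PGr ((1 : ℕ) : ℤ))
  have hH : PicF.IsInvertible H := PicLoc.isInvertible_pullback ι hO1
  let M := (Scheme.Modules.pullback σ).obj H
  have hM : PicF.IsInvertible M := PicLoc.isInvertible_pullback σ hH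
  let I := Scheme.IdealSheafData.vanishingIdeal (X := S) ⟨{P}, hP⟩
  let E := I.comap σ
  -- the section vanishes on the exceptional divisor
  have hzero : ∀ i, pullSec E.subschemeι (show Γ(M, ⊤) from pullSec σ (t i)) = 0 := fun i => by
    refine AmpleLib.sec_ext _ _ _ fun v _ => ?_
    obtain ⟨U', hvU', g', y', hg', hty', hy'⟩ := ht (σ (E.subschemeι v))
    obtain ⟨_, ⟨W, hW, rfl⟩, hvW, hWU⟩ := X.isBasis_affineOpens.exists_subset_of_mem_open
      (show E.subschemeι v ∈ σ ⁻¹ᵁ U'.1 from hvU') (σ ⁻¹ᵁ U'.1).isOpen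
    refine ⟨E.subschemeι ⁻¹ᵁ W, le_top, hvW, ?_⟩
    rw [map_zero]
    refine (resM_pullSec E.subschemeι (le_top : W ≤ ⊤) _).trans ?_
    rw [show resM M (le_top : W ≤ ⊤) (pullSec σ (t i)) = resM M hWU (pullSec σ (resM H le_top (t i))) from
      resM_pullSec_top σ H hWU (t i), hty', pullSec_smul, resM_smul, pullSec_smul]
    have h1 : E.subschemeι.app W (res hWU (σ.app U'.1 (y' i))) = 0 := by
      refine RingHom.mem_ker.1 ((E.ker_subschemeι_app ⟨W, hW⟩).symm ▸ ?_)
      exact ProjLib.map_ideal_le_comap_ideal I σ U' ⟨W, hW⟩ hWU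
        (Ideal.mem_map_of_mem _ (hy'.le (Ideal.subset_span ⟨i, rfl⟩)))
    rw [h1, zero_smul]
  choose z hz using fun i => Models7.exists_twistMul_eq E hM (show Γ(M, ⊤) from pullSec σ (t i)) (hzero i)
  haveI hmono := (Models7.twistMul_seq E hM).1
  refine ⟨z, ⟨l, ?_⟩, fun w => ?_⟩
  · refine Coherent.app_injective_of_mono (twistMul E M) ⊤ ?_
    rw [hz, hl, map_zero]
    exact map_zero _
  obtain ⟨U, hwU, g, y, hg, hty, hy⟩ := ht (σ w)
  obtain ⟨_, ⟨i, rfl⟩, hiw⟩ := BlowUpLib.exists_mem_locus σ hE U hwU (Set.range y) hy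
  obtain ⟨T, hwT, e, hT⟩ := BlowUpLib.mem_locus.1 hiw
  refine ⟨i, ?_⟩
  have hLE : PicF.IsInvertible (ClSub.idealMod E) := FlatMor12.IdealModGen.isInvertible_idealMod E hE
  let b : Γ(X, T.1) := (σ.appLE U.1 T.1 e).hom (y i)
  obtain ⟨k', hk', hkb⟩ := Inters29.exists_gen_idealMod E T (BlowUpLib.mem_nonZeroDivisors_of_eff hE hT) hT
  let gT : Γ(M, T.1) := resM M e (pullSec σ g)
  have hgT : IsGen M T.1 gT := (isGen_pullSec σ hg hH).restrict e
  haveI := (Models7.twistMul_seq E hM).1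
  have hzT : resM _ (le_top : T.1 ≤ ⊤) (z i) = tmul k' gT := by
    apply Coherent.app_injective_of_mono (twistMul E M) T.1
    rw [twistMul_tmul, app_resM, hz, hkb]
    rw [show resM M (le_top : T.1 ≤ ⊤) (pullSec σ (t i)) = resM M e (pullSec σ (resM H le_top (t i))) from
      resM_pullSec_top σ H e (t i), hty, pullSec_smul, resM_smul]
    rfl
  refine (le_glocus_iff (z i) T.1).2 ?_ hwT
  rw [hzT]
  exact isGen_tmul hk' hgT

/-- The twist of `H` by the exceptional ideal of a point is generated by the forms through the point. -/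
theorem exists_section_mem_glocus [IsAlgClosed k] {S : Scheme.{u}} [S.Over (Spec (CommRingCat.of k))]
    [IsProper (S ↘ Spec (CommRingCat.of k))] (ι : S ⟶ CohB1.ProjSpace n k) [IsClosedImmersion ι]
    (hι : ι ≫ CohB1.ProjSpace.toSpec n k = S ↘ Spec (CommRingCat.of k)) {P : S} (hP : IsClosed ({P} : Set S))
    {X : Scheme.{u}} [IsLocallyNoetherian X] (σ : X ⟶ S)
    (hE : BlowUp.IsEffCartierIdeal ((Scheme.IdealSheafData.vanishingIdeal ⟨{P}, hP⟩).comap σ)) (w : X) :
    ∃ z : Γ(CohB1.tensorMod (ClSub.idealMod ((Scheme.IdealSheafData.vanishingIdeal ⟨{P}, hP⟩).comap σ))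
      ((Scheme.Modules.pullback σ).obj ((Scheme.Modules.pullback ι).obj (GrTwist.twist PGr ((1 : ℕ) : ℤ)))), ⊤),
      w ∈ glocus _ z := by
  obtain ⟨z, -, hz⟩ := exists_gen_sections ι hι hP σ hE
  obtain ⟨i, hi⟩ := hz w
  exact ⟨z i, hi⟩

/-- An invertible class with sections generating everywhere. -/
def GenCls {X : Scheme.{u}} (a : PicM X) : Prop :=
  ∃ (L : X.Modules) (hL : PicF.IsInvertible L), a = PicM.of hL ∧ ∀ x, ∃ s, x ∈ glocus L s

theorem GenCls.one {X : Scheme.{u}} : GenCls (1 : PicM X) :=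
  ⟨_, isInvertible_structureModule, rfl, fun x => ⟨oneSec ⊤, (glocus_oneSec (X := X)).ge (Opens.mem_top x)⟩⟩

theorem GenCls.mul {X : Scheme.{u}} {a b : PicM X} (ha : GenCls a) (hb : GenCls b) : GenCls (a * b) := by
  obtain ⟨L, hL, rfl, h⟩ := ha
  obtain ⟨M, hM, rfl, h'⟩ := hb
  refine ⟨_, isInvertible_tensorMod hL hM, rfl, fun x => ?_⟩
  obtain ⟨s, hs⟩ := h x
  obtain ⟨t, ht⟩ := h' x
  exact ⟨tmul s t, (glocus_tmul hL hM s t).ge ⟨hs, ht⟩⟩

theorem GenCls.pow {X : Scheme.{u}} {a : PicM X} (ha : GenCls a) : ∀ n : ℕ, GenCls (a ^ n)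
  | 0 => by rw [pow_zero]; exact GenCls.one
  | n + 1 => by rw [pow_succ]; exact (GenCls.pow ha n).mul ha

theorem GenCls.prod {X : Scheme.{u}} {ι : Type*} (T : Finset ι) (a : ι → PicM X) (h : ∀ i, GenCls (a i)) :
    GenCls (∏ i ∈ T, a i) :=
  Finset.prod_induction a GenCls (fun _ _ => GenCls.mul) GenCls.one fun i _ => h i

end Groth.Agent.SurfBl13

namespace Groth.Agent.SurfBl13

variable {k : Type u} [Field k] {n : ℕ}

/-- The hyperplane class is ample. -/
theorem isAmple_pullback_one {S : Scheme.{u}} [CompactSpace S] (ι : S ⟶ CohB1.ProjSpace n k) [IsClosedImmersion ι] :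
    CohB1.IsAmple ((Scheme.Modules.pullback ι).obj (GrTwist.twist (CohB1.polyGrading n k) ((1 : ℕ) : ℤ))) := by
  have hX : ∀ i, MvPolynomial.X i ∈ CohB1.polyGrading n k 1 := fun i => MvPolynomial.isHomogeneous_X k i
  have hO1 := TwistLib.G.isInvertible_twist (UPLib.exists_degOne (HypLib.hgen (R := k) n)) ((1 : ℕ) : ℤ)
  have hH := PicLoc.isInvertible_pullback ι hO1
  refine isAmple_iff_affGlocus.2 ⟨hH, inferInstance, fun x => ?_⟩
  obtain ⟨p, hp, hpy⟩ := UPLib.exists_degOne (HypLib.hgen (R := k) n) (ι x)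
  have hB : IsAffineOpen (X := CohB1.ProjSpace n k) (Proj.basicOpen (CohB1.polyGrading n k) p) :=
    Proj.isAffineOpen_basicOpen _ _ hp one_pos
  have hloc := UPLib.preimage_basicOpen_eq (HypLib.hgen n) ι hp
  refine ⟨1, one_pos, powSec (PicLib.pullSec ι (UPLib.sec p hp)) 1, ?_, le_top, ?_⟩
  · exact ((glocus_powSec hH _ 0).trans hloc).ge hpy
  · exact ((glocus_powSec hH _ 0).trans hloc).symm ▸ hB.preimage ι

theorem exists_ofFn_class {X : Scheme.{u}} : ∀ (n : ℕ) (M : Fin n → X.Modules) (hM : ∀ i, PicF.IsInvertible (M i)),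
    ∃ h : PicF.IsInvertible (FGA.tensorList (List.ofFn M)), PicM.of h = ∏ i, PicM.of (hM i) := by
  intro n
  induction n with
  | zero =>
    intro M hM
    rw [List.ofFn_zero, Finset.univ_eq_empty, Finset.prod_empty]
    exact ⟨isInvertible_structureModule, PicM.of_structureModule _⟩
  | succ n ih =>
    intro M hM
    obtain ⟨h, e⟩ := ih (fun i => M i.succ) (fun i => hM i.succ)
    rw [List.ofFn_succ]
    refine ⟨isInvertible_tensorMod (hM 0) h, ?_⟩
    rw [Fin.prod_univ_succ, ← e]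
    exact (PicM.of_mul (hM 0) h).symm

end Groth.Agent.SurfBl13
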