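import Groth.Agent.SurfBl13.AmpleBl
import Groth.Agent.AmpleLib.FTIdeal
import Groth.Agent.Coherent.Existence.SysKernel
import Groth.Agent.CurveRR24.Sky
import Groth.Agent.MorProj.Basic

/-!
# Jets at a point of sections of powers of a very ample module
-/

set_option autoImplicit false
set_option linter.unusedSectionVars false
set_option linter.style.haveILetI false
set_option backward.isDefEq.respectTransparency.types false
set_option maxHeartbeats 2000000

universe u

open CategoryTheory CategoryTheory.Limits AlgebraicGeometry TopologicalSpace Opposite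
open Groth.Agent.Coherent Groth.Agent.PicLib Groth.Agent.AmpleLib Groth.Agent.EulerLib Groth.Agent.CurveRR24

namespace Groth.Agent.SurfBl13

variable (k : Type u) [Field k] [IsAlgClosed k] {X : Scheme.{u}} [X.Over (Spec (CommRingCat.of k))]
  [IsProper (X ↘ Spec (CommRingCat.of k))] {x : X} (hx : IsClosed ({x} : Set X))

/-- Membership in the ideal of a closed point is the vanishing of the residue. -/
theorem mem_point_ideal_iff {U : X.affineOpens} (hxU : x ∈ U.1) (f : Γ(X, U.1)) :
    f ∈ (Scheme.IdealSheafData.vanishingIdeal ⟨{x}, hx⟩).ideal U ↔ x ∉ X.basicOpen f := by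
  rw [Scheme.IdealSheafData.vanishingIdeal_ideal, PrimeSpectrum.mem_vanishingIdeal]
  constructor
  · intro h hb
    exact (U.2.fromSpec_preimage_basicOpen f).le (show U.2.primeIdealOf ⟨x, hxU⟩ ∈ U.2.fromSpec ⁻¹ᵁ X.basicOpen f by
        show U.2.fromSpec (U.2.primeIdealOf ⟨x, hxU⟩) ∈ X.basicOpen f
        rw [U.2.fromSpec_primeIdealOf]; exact hb)
      (h _ (U.2.fromSpec_primeIdealOf ⟨x, hxU⟩))
  · intro h p hp
    by_contra hn
    refine h ?_
    have h' : p ∈ U.2.fromSpec ⁻¹ᵁ X.basicOpen f := (U.2.fromSpec_preimage_basicOpen f).ge hn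
    exact (show U.2.fromSpec p = x from hp) ▸ h'

include hx in
/-- A function differs from a constant by a function vanishing at the point. -/
theorem exists_const_sub_mem {U : X.affineOpens} (hxU : x ∈ U.1) (f : Γ(X, U.1)) :
    ∃ c : k, f - PicLib.res le_top (baseHom k X c) ∈ (Scheme.IdealSheafData.vanishingIdeal ⟨{x}, hx⟩).ideal U := by
  let _ := Curv2.resAlgebra k X x
  haveI := CurveRR24.finite_resField hx k
  obtain ⟨c, hc⟩ := (IsAlgClosed.algebraMap_bijective_of_isIntegral (k := k) (K := X.residueField x)).2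
    (X.residue x (X.presheaf.germ U.1 x hxU f))
  refine ⟨c, (mem_point_ideal_iff hx hxU _).2 fun hb => ?_⟩
  have hu := (X.mem_basicOpen _ x hxU).1 hb
  rw [map_sub] at hu
  have hz : X.residue x (X.presheaf.germ U.1 x hxU f -
      X.presheaf.germ U.1 x hxU (PicLib.res le_top (baseHom k X c))) = 0 := by
    rw [map_sub, sub_eq_zero, ← hc, show X.presheaf.germ U.1 x hxU (PicLib.res le_top (baseHom k X c)) =
      X.presheaf.germ ⊤ x trivial (baseHom k X c) from
        TopCat.Presheaf.germ_res_apply X.presheaf (homOfLE le_top) x hxU _]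
    rfl
  exact not_isUnit_zero (hz ▸ hu.map (X.residue x).hom)

/-- The power of a section. -/
noncomputable def genPow {H : X.Modules} {U : X.Opens} (g : Γ(H, U)) : ∀ p : ℕ, Γ(CohB1.tensorPow H p, U)
  | 0 => show Γ(Coh.structureModule X, U) from (1 : Γ(X, U))
  | p + 1 => tmul (genPow g p) g

include k hx in
/-- Every jet of order `p` at the point is that of a section of the `p`-th power. -/
theorem exists_jet {H : X.Modules} {U : X.affineOpens} (hxU : x ∈ U.1) {g : Γ(H, U.1)} (hg : IsGen H U.1 g)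
    {ι : Type*} [Fintype ι] (t : ι → Γ(H, ⊤)) (y : ι → Γ(X, U.1))
    (hty : ∀ i, resM H (le_top : U.1 ≤ ⊤) (t i) = y i • g)
    (hy : Ideal.span (Set.range y) = (Scheme.IdealSheafData.vanishingIdeal ⟨{x}, hx⟩).ideal U)
    {t₀ : Γ(H, ⊤)} (ht₀ : x ∈ glocus H t₀) :
    ∀ (p : ℕ) (f : Γ(X, U.1)), ∃ (s : Γ(CohB1.tensorPow H p, ⊤)) (a : Γ(X, U.1)),
      resM _ (le_top : U.1 ≤ ⊤) s = a • genPow g p ∧
        a - f ∈ (Scheme.IdealSheafData.vanishingIdeal ⟨{x}, hx⟩).ideal U ^ (p + 1) := by
  classical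
  intro p
  induction p with
  | zero =>
    intro f
    obtain ⟨c, hc⟩ := exists_const_sub_mem k hx hxU f
    refine ⟨show Γ(Coh.structureModule X, ⊤) from baseHom k X c, PicLib.res le_top (baseHom k X c), ?_, ?_⟩
    · exact (mul_one (PicLib.res (le_top : U.1 ≤ ⊤) (baseHom k X c))).symm
    · rw [pow_one, ← neg_sub]
      exact neg_mem hc
  | succ p ih =>
    intro f
    let m := (Scheme.IdealSheafData.vanishingIdeal ⟨{x}, hx⟩).ideal U
    let u := hg.coef le_rfl (resM H (le_top : U.1 ≤ ⊤) t₀)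
    have hu : resM H (le_top : U.1 ≤ ⊤) t₀ = u • g := by
      have h := hg.coef_spec le_rfl (resM H (le_top : U.1 ≤ ⊤) t₀)
      rw [resM_self] at h
      exact h.symm
    have hxu : x ∈ X.basicOpen u := (glocus_inf t₀ hg).le ⟨ht₀, hxU⟩
    obtain ⟨cu, hcu⟩ := exists_const_sub_mem k hx hxU u
    obtain ⟨cf, hcf⟩ := exists_const_sub_mem k hx hxU f
    have hcu0 : cu ≠ 0 := fun h0 => by
      rw [h0, map_zero, map_zero, sub_zero] at hcu
      exact (mem_point_ideal_iff hx hxU u).1 hcu hxu
    obtain ⟨s, a, hs, ha⟩ := ih (PicLib.res le_top (baseHom k X (cf / cu)))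
    have ha1 : a - PicLib.res le_top (baseHom k X (cf / cu)) ∈ m := Ideal.pow_le_self p.succ_ne_zero ha
    have hr : f - u * a ∈ m := by
      have h1 : PicLib.res (le_top : U.1 ≤ ⊤) (baseHom k X cu) * PicLib.res le_top (baseHom k X (cf / cu)) =
          PicLib.res le_top (baseHom k X cf) := by
        rw [← map_mul, ← map_mul, mul_div_cancel₀ cf hcu0]
      have : f - u * a = (f - PicLib.res le_top (baseHom k X cf)) -
          (u - PicLib.res le_top (baseHom k X cu)) * PicLib.res le_top (baseHom k X (cf / cu)) -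
          u * (a - PicLib.res le_top (baseHom k X (cf / cu))) := by
        rw [← h1]; ring
      rw [this]
      exact sub_mem (sub_mem hcf (Ideal.mul_mem_right _ _ hcu)) (Ideal.mul_mem_left _ _ ha1)
    rw [show m = Ideal.span (Set.range y) from hy.symm, Ideal.mem_span_range_iff_exists_fun] at hr
    obtain ⟨r, hr⟩ := hr
    choose s' a' hs' ha' using fun i => ih (r i)
    refine ⟨tmul s t₀ + ∑ i, tmul (s' i) (t i), u * a + ∑ i, y i * a' i, ?_, ?_⟩
    · have hterm : ∀ (s₁ : Γ(CohB1.tensorPow H p, ⊤)) (a₁ : Γ(X, U.1)) (t₁ : Γ(H, ⊤)) (y₁ : Γ(X, U.1)),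
          resM _ (le_top : U.1 ≤ ⊤) s₁ = a₁ • genPow g p → resM H (le_top : U.1 ≤ ⊤) t₁ = y₁ • g →
          resM (CohB1.tensorMod (CohB1.tensorPow H p) H) (le_top : U.1 ≤ ⊤) (tmul s₁ t₁) =
            (y₁ * a₁) • genPow g (p + 1) := fun s₁ a₁ t₁ y₁ h₁ h₂ => by
        rw [resM_tmul, h₁, h₂, tmul_smul_left, tmul_smul_right, smul_smul, mul_comm a₁ y₁]
        rfl
      show resM (CohB1.tensorMod (CohB1.tensorPow H p) H) (le_top : U.1 ≤ ⊤) _ = _
      rw [map_add, map_sum, add_smul, Finset.sum_smul, hterm s a t₀ u hs hu]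
      exact congrArg _ (Finset.sum_congr rfl fun i _ => hterm (s' i) (a' i) (t i) (y i) (hs' i) (hty i))
    · have : u * a + ∑ i, y i * a' i - f = ∑ i, y i * (a' i - r i) := by
        simp only [mul_sub, Finset.sum_sub_distrib]
        have h2 : ∑ i, y i * r i = f - u * a := by
          rw [← hr]; exact Finset.sum_congr rfl fun i _ => mul_comm _ _
        rw [h2]; ring
      rw [this, pow_succ' _ (p + 1)]
      exact sum_mem fun i _ => Ideal.mul_mem_mul (hy.le (Ideal.subset_span ⟨i, rfl⟩)) (ha' i)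

theorem isGen_genPow {H : X.Modules} {U : X.Opens} {g : Γ(H, U)} (hg : IsGen H U g) :
    ∀ p : ℕ, IsGen (CohB1.tensorPow H p) U (genPow g p)
  | 0 => fun V hV => by
      have h1 : resM (Coh.structureModule X) hV (genPow g 0) = (1 : Γ(X, V)) :=
        map_one (X.presheaf.map (homOfLE hV).op).hom
      refine ⟨fun a b hab => ?_, fun a => ⟨a, ?_⟩⟩
      · change a • resM (Coh.structureModule X) hV (genPow g 0) = b • resM (Coh.structureModule X) hV (genPow g 0) at hab
        rw [h1] at hab
        exact (mul_one (show Γ(X, V) from a)).symm.trans ((show (show Γ(X, V) from a) * 1 = (show Γ(X, V) from b) * 1 from hab).trans (mul_one _))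
      · show (show Γ(X, V) from a) • resM (Coh.structureModule X) hV (genPow g 0) = (show Γ(Coh.structureModule X, V) from a)
        rw [h1]
        exact mul_one (show Γ(X, V) from a)
  | p + 1 => isGen_tmul (isGen_genPow hg p) hg

include k hx in
/-- Sections lift to a thickening of the point of order at most one more than the power. -/
theorem surjective_toQuot {H : X.Modules} (hH : PicF.IsInvertible H) {U : X.affineOpens} (hxU : x ∈ U.1)
    {g : Γ(H, U.1)} (hg : IsGen H U.1 g) {p : ℕ}
    (hjet : ∀ f : Γ(X, U.1), ∃ (s : Γ(CohB1.tensorPow H p, ⊤)) (a : Γ(X, U.1)),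
      resM _ (le_top : U.1 ≤ ⊤) s = a • genPow g p ∧
        a - f ∈ (Scheme.IdealSheafData.vanishingIdeal ⟨{x}, hx⟩).ideal U ^ (p + 1))
    (J : X.IdealSheafData) (hJs : (J.support : Set X) ⊆ {x})
    (hJ : (Scheme.IdealSheafData.vanishingIdeal ⟨{x}, hx⟩).ideal U ^ (p + 1) ≤ J.ideal U) :
    Function.Surjective ((EulerLib.twistSeq (ShortComplex.mk (ClSub.idealModι J) (ClSub.toSubscheme J)
      (kernel.condition (ClSub.toSubscheme J))) (CohB1.tensorPow H p)).g.app (⊤ : X.Opens)) := by
  let L := CohB1.tensorPow H p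
  have hL : PicF.IsInvertible L := isInvertible_tensorPow hH p
  let T := EulerLib.twistSeq (ShortComplex.mk (ClSub.idealModι J) (ClSub.toSubscheme J)
      (kernel.condition (ClSub.toSubscheme J))) L
  have hT : T.ShortExact := twistSeq_shortExact hL (shortExact_ideal J)
  haveI := hT.epi_g
  haveI : Coh.IsQCoh L := CurveRR24.isCoh_of_isInvertible k hL |>.1
  haveI := isNoetherian_of_proper k (X := X)
  haveI : Coh.IsQCoh T.X₂ := (isCoh_twist hL (isCoh_structureModule X)).1
  haveI : Coh.IsQCoh T.X₃ := (isCoh_twist hL (isCoh_quotMod J)).1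
  intro z
  let G := genPow g p
  obtain ⟨w, hw⟩ := Coherent.Existence.app_surjective_of_epi T.g U.2 (resM T.X₃ (le_top : U.1 ≤ ⊤) z)
  let q : L ⟶ T.X₃ := (unitTensorIso L).inv ≫ T.g
  let w' := (unitTensorIso L).hom.app U.1 w
  let f := (isGen_genPow hg p).coef le_rfl w'
  have hw' : w' = f • G := by
    have h := (isGen_genPow hg p).coef_spec le_rfl w'
    rw [resM_self] at h
    exact h.symm
  have hqw : q.app U.1 w' = resM T.X₃ (le_top : U.1 ≤ ⊤) z := by
    rw [← hw]
    show T.g.app U.1 ((unitTensorIso L).inv.app U.1 ((unitTensorIso L).hom.app U.1 w)) = _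
    rw [← ConcreteCategory.comp_apply, ← Scheme.Modules.Hom.comp_app, Iso.hom_inv_id]
    rfl
  obtain ⟨s, a, hs, ha⟩ := hjet f
  refine ⟨(unitTensorIso L).inv.app ⊤ s, ?_⟩
  show q.app ⊤ s = z
  have hsupp : CohB1.support T.X₃ ⊆ {x} := by
    refine Set.Subset.trans ?_ hJs
    rw [show CohB1.support T.X₃ = CohB1.support (ClSub.quotMod J) from EulerLib.support_twist hL _]
    exact support_quotMod_subset J
  refine (CurveRR24.bijective_resM_of_support T.X₃ {x} hx hsupp (Set.singleton_subset_iff.2 hxU)).1 ?_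
  rw [← app_resM, hs, ← hqw, hw', Scheme.Modules.Hom.app_smul, Scheme.Modules.Hom.app_smul]
  have hkill : ∀ c ∈ J.ideal U, c • q.app U.1 G = 0 := by
    intro c hc
    rw [← Scheme.Modules.Hom.app_smul]
    show T.g.app U.1 ((unitTensorIso L).inv.app U.1 (c • G)) = 0
    rw [Scheme.Modules.Hom.app_smul, show (unitTensorIso L).inv.app U.1 G =
      tmul (show Γ(Coh.structureModule X, U.1) from (1 : Γ(X, U.1))) G from rfl, ← tmul_smul_left]
    refine (tensorMap_tmul (ClSub.toSubscheme J) (𝟙 L) _ _).trans ?_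
    have hc0 : (ClSub.toSubscheme J).app U.1 (c • (show Γ(Coh.structureModule X, U.1) from (1 : Γ(X, U.1)))) = 0 := by
      have : J.subschemeι.app U.1 (c * 1) = 0 := by
        rw [mul_one]
        exact RingHom.mem_ker.1 ((J.ker_subschemeι_app U).symm ▸ hc)
      exact this
    exact (congrArg (fun v => tmul v ((𝟙 L : L ⟶ L).app U.1 G)) hc0).trans (tmul_zero_left _)
  rw [← sub_eq_zero, ← sub_smul]
  exact hkill _ (hJ ha)

end Groth.Agent.SurfBl13
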