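import Groth.Agent.SurfBl13.Finite
import Groth.Agent.VarietyLib.PushEuler
import Groth.Agent.BlowUpCoh.LocFree
import Groth.Agent.LciLift29.HomPush
import Groth.Agent.SerreDual.ExtShBasic
import Groth.Agent.SerreDual.ExtLocFree

/-!
# Cohomology of modules descending along a blow-up of smooth points
-/

set_option autoImplicit false
set_option linter.style.haveILetI false
set_option backward.isDefEq.respectTransparency.types false
set_option maxHeartbeats 1000000

universe u

open CategoryTheory CategoryTheory.Abelian CategoryTheory.Limits AlgebraicGeometry Opposite TopologicalSpace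
open Groth.Agent.Coherent Groth.Agent.PicLib Groth.Agent.AmpleLib Groth.Agent.EulerLib Groth.Agent.VarietyLib

namespace Groth.Agent.SurfBl13

variable {X Y : Scheme.{u}} (f : Y ⟶ X) (k : Type u) [Field k] [X.Over (Spec (CommRingCat.of k))]
  [Y.Over (Spec (CommRingCat.of k))]

/-- Cohomology along a morphism without higher direct images, linearly over the base field. -/
theorem nonempty_HH_push_equiv [QuasiCompact f] [QuasiSeparated f]
    (hf : f ≫ (X ↘ Spec (CommRingCat.of k)) = Y ↘ Spec (CommRingCat.of k)) (M : Y.Modules) [Coh.IsQCoh M]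
    (hz : ∀ p : ℕ, 0 < p → IsZero ((Coh.RpushAb f p).obj (Coh.toAb M))) (q : ℕ) :
    Nonempty (Coh.HH Y M q ≃ₗ[k] Coh.HH X ((Coh.push f).obj M) q) := by
  have hM := acyclicOverBasis_of_isZero f M hz
  let N := (Coh.push f).obj M
  let e : Coh.HH Y M q ≃+ Coh.HH X N q :=
    ((HHTopEquiv M q).trans (H'PushEquiv (X := Y.toTopCat) (Y := X.toTopCat) (f := f.base) X.isBasis_affineOpens
      (Coh.toAb M) hM ⊤ q)).trans (HHTopEquiv N q).symm
  have hsm : ∀ (c : k) (x : Coh.HH Y M q), e (c • x) = c • e x := by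
    intro c x
    let φ := Coh.smulAb M (Coh.toGlobal (Y ↘ Spec (CommRingCat.of k)) c)
    let ψ := Coh.smulAb N (Coh.toGlobal (X ↘ Spec (CommRingCat.of k)) c)
    have hψ : (pushSh (X := Y.toTopCat) (Y := X.toTopCat) f.base).map φ = ψ := by
      ext V m
      show (show Γ(Y, f ⁻¹ᵁ V.unop) from Y.presheaf.map (homOfLE (le_top : f ⁻¹ᵁ V.unop ≤ ⊤)).op
          (Coh.toGlobal (Y ↘ Spec (CommRingCat.of k)) c)) • (show Γ(M, f ⁻¹ᵁ V.unop) from m) =
        (show Γ(Y, f ⁻¹ᵁ V.unop) from f.app V.unop (X.presheaf.map (homOfLE (le_top : V.unop ≤ ⊤)).op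
          (Coh.toGlobal (X ↘ Spec (CommRingCat.of k)) c))) • (show Γ(M, f ⁻¹ᵁ V.unop) from m)
      congr 1
      show _ = (X.presheaf.map (homOfLE (le_top : V.unop ≤ ⊤)).op ≫ f.app V.unop) _
      rw [Scheme.Hom.naturality]
      show _ = Y.presheaf.map _ (f.appTop ((X ↘ Spec (CommRingCat.of k)).appTop
        ((Scheme.ΓSpecIso (CommRingCat.of k)).inv c)))
      rw [← hf]
      rfl
    show e (Sheaf.H.map φ q x) = Sheaf.H.map ψ q (e x)
    rw [← hψ]
    apply (HHTopEquiv N q).injective
    refine Eq.trans ?_ (SerreDual.hhTopEquiv_natural _ q _).symm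
    show HHTopEquiv N q ((HHTopEquiv N q).symm _) = _
    rw [AddEquiv.apply_symm_apply]
    show H'PushEquiv (X := Y.toTopCat) (Y := X.toTopCat) (f := f.base) X.isBasis_affineOpens (Coh.toAb M) hM ⊤ q
      (HHTopEquiv M q (Sheaf.H.map φ q x)) = _
    rw [SerreDual.hhTopEquiv_natural φ q x]
    refine (H'PushEquiv_naturality (X := Y.toTopCat) (Y := X.toTopCat) (f := f.base) X.isBasis_affineOpens
      hM hM φ ⊤ q (HHTopEquiv M q x)).trans ?_
    refine congrArg _ ?_
    exact ((HHTopEquiv N q).apply_symm_apply _).symm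
  let eₗ : Coh.HH Y M q ≃ₗ[k] Coh.HH X N q := { e with map_smul' := hsm }
  exact ⟨eₗ⟩

/-- Isomorphic modules give the same internal Hom functor. -/
noncomputable def homLeftIso {A B : X.Modules} (φ : A ≅ B) : internalHomFunctor B ≅ internalHomFunctor A :=
  (tensorHomAdj B).rightAdjointUniq ((tensorHomAdj A).ofNatIsoLeft
    (NatIso.ofComponents (F := tensE A) (G := tensE B) (fun M => AmpleLib.tensorIso φ (Iso.refl M))
      fun {M N} g => AmpleLib.hom_ext fun U a m => by
        show (AmpleLib.tensorIso φ (Iso.refl N)).hom.app U ((tE A g).app U (tmul a m)) =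
          (tE B g).app U ((AmpleLib.tensorIso φ (Iso.refl M)).hom.app U (tmul a m))
        rw [tensE_map_tmul]
        simp only [AmpleLib.tensorIso, tensorMap_tmul, tensE_map_tmul]
        rfl))

variable {S : Scheme.{u}} [IsLocallyNoetherian S] {Z : Closeds S} {S' : Scheme.{u}} (b : S' ⟶ S)

open Groth.Agent.BlowUpCoh in
/-- The higher direct images of the structure sheaf of the blow-up vanish. -/
theorem isZero_rpushAb_structure (h : Points Z) (hb : BlowUp.IsBlowUp b (Scheme.IdealSheafData.vanishingIdeal Z))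
    (p : ℕ) (hp : 1 ≤ p) : IsZero ((Coh.RpushAb b p).obj (Coh.toAb (Coh.structureModule S'))) := by
  have hI : KoszulBasis (Scheme.IdealSheafData.vanishingIdeal Z) 1 := koszulBasis_of_local fun x hx => by
    have hxZ : x ∈ Z := (Scheme.IdealSheafData.coe_support_vanishingIdeal Z).le hx
    obtain ⟨hc, hr, hreg, hd⟩ := h x hxZ
    obtain ⟨U, g, hxU, -, hg1, hg2, -⟩ := exists_local_gen_isolated x hc hr hxZ hd
    exact ⟨U, 1, g, hxU, le_rfl, hg1, hg2⟩
  haveI : Coh.IsQCoh (Coh.structureModule S') := isQCoh_structureModule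
  exact BlowUpCoh.isZero_rpushAb hb hI (twistO _) (by simp) p hp

/-- Endomorphisms of a module trivial on the exceptional divisor descend, with their cohomology. -/
theorem end_descends (h : Points Z) (hb : BlowUp.IsBlowUp b (Scheme.IdealSheafData.vanishingIdeal Z))
    {F : S'.Modules} (hF : FlatMod.IsFinLocFree F) {r : ℕ}
    (e : (Scheme.Modules.pullback ((Scheme.IdealSheafData.vanishingIdeal Z).comap b).subschemeι).obj F ≅
      FlatMod.freeMod ((Scheme.IdealSheafData.vanishingIdeal Z).comap b).subscheme r) :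
    (∀ p : ℕ, 1 ≤ p → IsZero ((Coh.RpushAb b p).obj (Coh.toAb (internalHom F F)))) ∧
      Nonempty ((Coh.push b).obj (internalHom F F) ≅
        internalHom ((Scheme.Modules.pushforward b).obj F) ((Scheme.Modules.pushforward b).obj F)) := by
  classical
  haveI := isProper_blowUp b hb
  haveI : Coh.IsQCoh F := (CohBC.isCoh_of_isFinLocFree hF).1
  obtain ⟨hN, hc⟩ := counit_of_trivial b h hb hF e
  haveI := hc
  let N := (Scheme.Modules.pushforward b).obj F
  haveI := CohBC.isQCoh_internalHom hF hF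
  have hframes : ∀ x : S, ∃ (U : S.Opens) (J : Type u) (_ : Fintype J) (t : J → Γ(internalHom F F, b ⁻¹ᵁ U)),
      x ∈ U ∧ IsAffineOpen U ∧ IsBasisOn (internalHom F F) (b ⁻¹ᵁ U) t := by
    intro x
    by_cases hx : x ∈ Z
    · obtain ⟨V, t, hV, ht⟩ := exists_frame_nhd b h hb hF x hx _ (fun U _ _ => rfl) e
      obtain ⟨U, hxU, hle⟩ := exists_affine_preimage_le b x V hV
      have ht' := FlatMor12.FreeCharts.isBasisOn_res ht hle
      exact ⟨U.1, _, inferInstance, _, hxU, U.2, CohBC.isBasisOn_elemHom ht' ht'⟩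
    · obtain ⟨U, J, hJ, t, hxU, hU, ht⟩ := exists_frame_off b hb hF x hx
      exact ⟨U, _, inferInstance, _, hxU, hU, CohBC.isBasisOn_elemHom ht ht⟩
  obtain ⟨hG, hGc⟩ := finLocFree_and_isIso_counit b (bijective_app_blowUp b hb h) (internalHom F F) hframes
  haveI := hGc
  refine ⟨fun p hp => ((BlowUpCoh.isZero_rpushAb_pullback b hG p (isZero_rpushAb_structure b h hb p hp))).of_iso
    ((Coh.RpushAb b p).mapIso ((Coherent.toAbFunctor S').mapIso
      (asIso ((Scheme.Modules.pullbackPushforwardAdjunction b).counit.app (internalHom F F))).symm)), ?_⟩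
  let c := asIso ((Scheme.Modules.pullbackPushforwardAdjunction b).counit.app F)
  exact ⟨(Coh.push b).mapIso ((homLeftIso c).app F) ≪≫ ((LciLift29.homPushIso b N).app F).symm⟩

end Groth.Agent.SurfBl13
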