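import Groth.Agent.SurfBl13.Locfree

/-!
# Direct images along the blow-up: torsion, generation and higher direct images
-/

set_option autoImplicit false
set_option linter.style.haveILetI false
set_option backward.isDefEq.respectTransparency.types false
set_option maxHeartbeats 1000000

universe u

open CategoryTheory CategoryTheory.Abelian CategoryTheory.Limits AlgebraicGeometry TopologicalSpace Opposite
open Groth.Agent.Coherent Groth.Agent.PicLib Groth.Agent.AmpleLib Groth.Agent.BlowUpLib

namespace Groth.Agent.SurfBl13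

variable {S : Scheme.{u}} [IsLocallyNoetherian S] {Z : Closeds S} {X : Scheme.{u}} (b : X ⟶ S)
  {V : X.Modules} (hV : FlatMod.IsFinLocFree V)

include hV in
/-- The direct image has no torsion at a closed point of the centre. -/
theorem subsingleton_hom_skyscraper (hb : BlowUp.IsBlowUp b (Scheme.IdealSheafData.vanishingIdeal Z))
    (z : S) (hz : IsClosed ({z} : Set S)) (hzZ : z ∈ Z) :
    Subsingleton ((Scheme.Modules.pushforward (S.fromSpecResidueField z)).obj
      (Coh.structureModule (Spec (S.residueField z))) ⟶ (Scheme.Modules.pushforward b).obj V) := by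
  let ι := S.fromSpecResidueField z
  let K := (Scheme.Modules.pushforward ι).obj (Coh.structureModule (Spec (S.residueField z)))
  let N := (Scheme.Modules.pushforward b).obj V
  have key : ∀ (f : K ⟶ N) (W : S.Opens) (x : Γ(K, W)), f.app W x = 0 := by
    intro f W x
    refine sec_ext N _ _ fun p hp => ?_
    by_cases hpz : p = z
    · subst hpz
      obtain ⟨U, hU, hpU, hUW⟩ := exists_isAffineOpen_mem_and_subset (x := p) (U := W) hp
      refine ⟨U, fun w hw => hUW hw, hpU, ?_⟩
      rw [map_zero, ← app_resM]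
      generalize resM K (fun w hw => hUW hw : U ≤ W) x = y
      haveI : IsNoetherianRing Γ(S, U) := IsLocallyNoetherian.component_noetherian ⟨U, hU⟩
      obtain ⟨n, g, hg⟩ := Submodule.fg_iff_exists_fin_generating_family.1
        (IsNoetherian.noetherian ((Scheme.IdealSheafData.vanishingIdeal Z).ideal ⟨U, hU⟩))
      refine eq_zero_of_smul_centre b hb hV ⟨U, hU⟩ g hg.symm (W := b ⁻¹ᵁ U) le_rfl
        (show Γ(V, b ⁻¹ᵁ U) from f.app U y) fun k => ?_
      rw [show PicLib.res (le_rfl : b ⁻¹ᵁ U ≤ b ⁻¹ᵁ U) ((b.app U).hom (g k)) = (b.app U).hom (g k) from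
        ConcreteCategory.congr_hom (X.presheaf.map_id _) _]
      have hk : g k ∈ (Scheme.IdealSheafData.vanishingIdeal Z).ideal ⟨U, hU⟩ := hg.le (Submodule.subset_span ⟨k, rfl⟩)
      have hzero : (ι.app U).hom (g k) = 0 := by
        rw [← basicOpen_eq_bot_iff, ← Scheme.preimage_basicOpen]
        refine eq_bot_iff.2 fun w (hw : ι w ∈ S.basicOpen (g k)) => ?_
        have hwz : ι w = p := (S.range_fromSpecResidueField p).le ⟨w, rfl⟩
        rw [hwz] at hw
        exact (Scheme.mem_zeroLocus_iff _ _ _).1
          (((Scheme.IdealSheafData.vanishingIdeal Z).coe_support_inter ⟨U, hU⟩).le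
            ⟨(Scheme.IdealSheafData.coe_support_vanishingIdeal Z).ge hzZ, hpU⟩).1 (g k) hk hw
      show ((g k • (f.app U y : Γ(N, U))) : Γ(N, U)) = 0
      rw [← Scheme.Modules.Hom.app_smul]
      have h0 : g k • y = 0 := by
        show ((ι.app U).hom (g k) : Γ(Spec (S.residueField p), ι ⁻¹ᵁ U)) •
          (show Γ(Coh.structureModule (Spec (S.residueField p)), ι ⁻¹ᵁ U) from y) = 0
        rw [hzero, zero_smul]
      rw [h0, map_zero]
    · let O : S.Opens := W ⊓ ⟨({z} : Set S)ᶜ, hz.isOpen_compl⟩
      refine ⟨O, inf_le_left, ⟨hp, hpz⟩, ?_⟩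
      rw [map_zero, ← app_resM]
      generalize resM K (inf_le_left : O ≤ W) x = y
      have hbot : ι ⁻¹ᵁ O = ⊥ := eq_bot_iff.2 fun w (hw : ι w ∈ O) =>
        hw.2 ((S.range_fromSpecResidueField z).le ⟨w, rfl⟩)
      have : Subsingleton Γ(Coh.structureModule (Spec (S.residueField z)), ι ⁻¹ᵁ O) :=
        ⟨fun a c => sec_ext _ a c fun w hw => absurd (hbot.le hw) id⟩
      rw [show y = 0 from @Subsingleton.elim Γ(K, O) this _ _, map_zero]
  exact ⟨fun f f' => Scheme.Modules.hom_ext f f' fun W => by
    ext x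
    exact (key f W x).trans (key f' W x).symm⟩

include hV in
/-- Higher direct images vanish when the restriction to the exceptional divisor is generated. -/
theorem isZero_rpush_of_gg (h : Points Z) (hb : BlowUp.IsBlowUp b (Scheme.IdealSheafData.vanishingIdeal Z))
    (hgg : Curv2.IsGloballyGenerated ((Scheme.Modules.pullback
      ((Scheme.IdealSheafData.vanishingIdeal Z).comap b).subschemeι).obj V))
    [HasInjectiveResolutions X.Modules] (p : ℕ) (hp : 1 ≤ p) : IsZero ((Coh.Rpush b p).obj V) :=
  isZero_rpush_of_local b h hb hV (fun _ _ _ _ _ hgood =>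
    hgood.H1_of_gg (isFinLocFree_restrict hV _) (gg_restrict _ hgg _)) p hp

include hV in
/-- The counit is an epimorphism when the restriction to the exceptional divisor is generated. -/
theorem epi_counit_of_gg (h : Points Z) (hb : BlowUp.IsBlowUp b (Scheme.IdealSheafData.vanishingIdeal Z))
    (hgg : Curv2.IsGloballyGenerated ((Scheme.Modules.pullback
      ((Scheme.IdealSheafData.vanishingIdeal Z).comap b).subschemeι).obj V)) :
    Epi ((Scheme.Modules.pullbackPushforwardAdjunction b).counit.app V) := by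
  let c := (Scheme.Modules.pullbackPushforwardAdjunction b).counit.app V
  refine epi_of_locally_surjective c fun W a y hy => ?_
  obtain ⟨U₀, hyU₀, -, hspan⟩ := exists_spanning b h hb hV hgg (b y)
  obtain ⟨T, hT, hyT, hTle⟩ := exists_isAffineOpen_mem_and_subset (x := y) (U := W ⊓ b ⁻¹ᵁ U₀) ⟨hy, hyU₀⟩
  have hTW : T ≤ W := fun w hw => (hTle hw).1
  have hT0 : T ≤ b ⁻¹ᵁ U₀ := fun w hw => (hTle hw).2
  refine ⟨T, hTW, hyT, ?_⟩
  obtain ⟨co, hco⟩ := (Finsupp.mem_span_range_iff_exists_finsupp).1
    ((hspan T hT0 hT).ge (Submodule.mem_top : resM V hTW a ∈ (⊤ : Submodule Γ(X, T) _)))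
  refine ⟨co.sum fun s r => r • resM _ hT0 (pullSec b (s : Γ((Scheme.Modules.pushforward b).obj V, U₀))), ?_⟩
  refine (map_finsuppSum (c.app T).hom _ _).trans (Eq.trans ?_ hco)
  refine Finset.sum_congr rfl fun s _ => ?_
  refine (Scheme.Modules.Hom.app_smul _ _ _).trans (congrArg (co s • ·) ?_)
  exact (app_resM c hT0 _).trans (congrArg (resM V hT0) (AmpleLib.counit_app_pullSec b V U₀ s))

end Groth.Agent.SurfBl13
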