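import Groth.Agent.SurfBl13.Thick
import Groth.Agent.SurfBl13.Push
import Groth.Agent.SurfBl13.EndPush
import Groth.Agent.BlowUpCoh.EulerPush
import Groth.Agent.BlowUpCoh.LocFree
import Groth.Agent.VarietyLib.PushEuler
import Groth.Agent.CurveLib.ProjLine
import Groth.Agent.H8Coh.RpushVanishBC
import Groth.Agent.EulerLib.CohSub
import Groth.Agent.VarietyLib.LerayEuler
import Groth.Agent.CurveRR24.AlgClosed
import Groth.Agent.CurveRR24.DegOneApps
import Groth.Agent.CurveRR24.Ample
import Groth.Agent.CurveRR24.Section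
import Groth.Agent.AbCubeLib.FiniteDegree
import Groth.Agent.PicLib.PicMonoid

/-!
# Euler characteristics on exceptional lines
-/

set_option autoImplicit false
set_option linter.unusedSectionVars false
set_option linter.style.haveILetI false
set_option backward.isDefEq.respectTransparency.types false
set_option maxHeartbeats 2000000

universe u

open CategoryTheory CategoryTheory.Limits AlgebraicGeometry TopologicalSpace Opposite
open Groth.Agent.Coherent Groth.Agent.PicLib Groth.Agent.AmpleLib Groth.Agent.EulerLib Groth.Agent.CurveRR24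

namespace Groth.Agent.SurfBl13

/-- On a line over an algebraically closed ground field `χ` is the degree plus one. -/
theorem euler_line (k : Type u) [Field k] [IsAlgClosed k] {E : Scheme.{u}} [E.Over (Spec (CommRingCat.of k))]
    [IsProper (E ↘ Spec (CommRingCat.of k))] {K : Type u} [Field K] (e : CohB1.ProjSpace 1 K ≅ E)
    {M : E.Modules} (hM : PicF.IsInvertible M) {m : ℤ} (h : Models7.P1Deg.HasDeg e M m) :
    Curv2.euler k E M = m + 1 := by
  haveI : IsIntegral (CohB1.ProjSpace 1 K) := CurveLib.isIntegral_projSpace K 1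
  haveI : IsIntegral E := IsIntegral.of_isIso e.hom
  have hdim : topologicalKrullDim E ≤ 1 := by
    rw [(IsHomeomorph.topologicalKrullDim_eq _ (e.inv.homeomorph).isHomeomorph)]
    exact (DimLib.PN.topologicalKrullDim_projSpace 1 K).le.trans (by norm_num)
  have hO : PicF.IsInvertible (Coh.structureModule E) := isInvertible_structureModule
  haveI := (Models7.P1Deg.hasDeg_structure e).subsingleton_H1 e hO (by norm_num)
  have hχO : Curv2.euler k E (Coh.structureModule E) = 1 := by
    rw [euler_eq_h0_sub_h1 k hdim _ (isQCoh_structure k), h0_structure k, Module.finrank_zero_of_subsingleton]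
    norm_num
  have hdeg : ∀ {N : E.Modules}, Curv2.euler k E N = Curv2.deg k E N 1 + 1 := fun {N} => by
    rw [Curv2.deg, hχO]; push_cast; ring
  -- the module of degree `-1`
  let P := (Scheme.Modules.pullback e.inv).obj (Twist.twistProjSpace 1 K (-1))
  have hP : PicF.IsInvertible P := PicLoc.isInvertible_pullback _ (SplitP1.inv_twist K (-1))
  have hPd : Models7.P1Deg.HasDeg e P (-1) :=
    ⟨(Scheme.Modules.pullbackComp e.hom e.inv).app _ ≪≫ (Scheme.Modules.pullbackCongr e.hom_inv_id).app _ ≪≫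
      (Scheme.Modules.pullbackId _).app _⟩
  have hP1 : Curv2.deg k E P 1 = -1 := by
    haveI := hPd.subsingleton_H1 e hP le_rfl
    haveI := subsingleton_sections_of_deg_neg e hP hPd (by norm_num)
    have h0 : Curv2.euler k E P = 0 := by
      rw [euler_eq_h0_sub_h1 k hdim _ (CurveRR24.isCoh_of_isInvertible k hP).1, Module.finrank_zero_of_subsingleton,
        Module.finrank_zero_of_subsingleton]
      norm_num
    rw [hdeg] at h0
    omega
  have hpow : ∀ n : ℕ, Models7.P1Deg.HasDeg e (CohB1.tensorPow P n) (-(n : ℤ)) ∧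
      Curv2.deg k E (CohB1.tensorPow P n) 1 = -(n : ℤ) := fun n =>
    ⟨by
      have := hPd.pow e hP n
      rwa [mul_neg, mul_one] at this,
     by rw [deg_tensorPow k hdim hP n, hP1]; ring⟩
  have hiso : ∀ {A B : E.Modules} {a : ℤ}, Models7.P1Deg.HasDeg e A a → Models7.P1Deg.HasDeg e B a →
      Nonempty (A ≅ B) := fun {A B a} hA hB => by
    obtain ⟨α⟩ := hA.iso_pullback e
    obtain ⟨β⟩ := hB.iso_pullback e
    exact ⟨α.symm ≪≫ β⟩
  rw [hdeg]
  obtain ⟨n, rfl⟩ | ⟨n, rfl⟩ : (∃ n : ℕ, m = n) ∨ ∃ n : ℕ, m = -(n : ℤ) :=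
    (le_total 0 m).imp (fun h => ⟨m.toNat, by omega⟩) fun h => ⟨(-m).toNat, by omega⟩
  · have hPn := isInvertible_tensorPow hP n
    have ht := h.tensor e hM hPn (hpow n).1
    rw [add_neg_cancel] at ht
    obtain ⟨φ⟩ := hiso ht (Models7.P1Deg.hasDeg_structure e)
    have := deg_congr k φ 1
    rw [deg_tensor k hdim hM hPn, (hpow n).2, deg_structure k] at this
    omega
  · obtain ⟨φ⟩ := hiso h (hpow n).1
    rw [deg_congr k φ 1, (hpow n).2]

/-- An invertible class on a scheme with one point is trivial. -/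
theorem picM_eq_one_of_subsingleton {T : Scheme.{u}} [Subsingleton T] [Nonempty T] (a : PicM T) : a = 1 := by
  obtain ⟨L, hL, rfl⟩ := PicM.exists_eq_of a
  obtain ⟨U, hx, s, hs⟩ := exists_isGen hL (Classical.arbitrary T)
  obtain rfl : U = ⊤ := top_le_iff.1 fun y _ => (Subsingleton.elim (Classical.arbitrary T) y) ▸ hx
  have : IsIso (unitDesc L s) := isIso_of_isGen _ (by rw [unitVal_unitDesc, resM_self]; exact hs)
  exact (PicM.of_eq_one_iff hL).2 ⟨(asIso (unitDesc L s)).symm⟩

variable {S X : Scheme.{u}} (b : X ⟶ S)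

/-- Classes from the base are trivial on a fibre over a closed point. -/
theorem pull_fibre_eq_one {z : S} (hz : IsClosed ({z} : Set S))
    [Nonempty ((Scheme.IdealSheafData.vanishingIdeal ⟨{z}, hz⟩).comap b).subscheme] (a : PicM S) :
    PicM.pull ((Scheme.IdealSheafData.vanishingIdeal ⟨{z}, hz⟩).comap b).subschemeι (PicM.pull b a) = 1 := by
  let J := Scheme.IdealSheafData.vanishingIdeal (X := S) ⟨{z}, hz⟩
  have hq : ((J.comap b).subschemeι ≫ b) = ((J.comapIso b).hom ≫ Limits.pullback.snd b J.subschemeι) ≫ J.subschemeι := by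
    rw [← J.comapIso_hom_fst b]
    simp [pullback.condition]
  haveI : Subsingleton J.subscheme := ⟨fun v w => by
    have h : ∀ v : J.subscheme, J.subschemeι v = z := fun v =>
      Set.mem_singleton_iff.1 ((Scheme.IdealSheafData.coe_support_vanishingIdeal _).le (J.range_subschemeι.le ⟨v, rfl⟩))
    exact J.subschemeι.isClosedEmbedding.injective ((h v).trans (h w).symm)⟩
  haveI : Nonempty J.subscheme :=
    ⟨((J.comapIso b).hom ≫ Limits.pullback.snd b J.subschemeι) (Classical.arbitrary _)⟩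
  rw [PicM.pull_pull, hq, ← PicM.pull_pull, picM_eq_one_of_subsingleton (PicM.pull J.subschemeι a), map_one]

/-- The direct image of a module on a fibre without global sections vanishes. -/
theorem isZero_push_fibre {z : S} (E : X.IdealSheafData) (hE : (E.support : Set X) ⊆ b ⁻¹' {z})
    (N : E.subscheme.Modules) (h : Subsingleton Γ(N, ⊤)) :
    IsZero ((Coh.push b).obj ((Coh.push E.subschemeι).obj N)) := by
  refine CurveRR24.isZero_of_sections fun V s => ?_
  have hmem : ∀ w : E.subscheme, b (E.subschemeι w) = z := fun w =>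
    Set.mem_singleton_iff.1 (hE (E.range_subschemeι.le ⟨w, rfl⟩))
  have key : Subsingleton Γ(N, E.subschemeι ⁻¹ᵁ b ⁻¹ᵁ V) := by
    by_cases hV : z ∈ V
    · rwa [show E.subschemeι ⁻¹ᵁ b ⁻¹ᵁ V = ⊤ from top_le_iff.1 fun w _ => show b (E.subschemeι w) ∈ V from (hmem w).symm ▸ hV]
    · rw [show E.subschemeι ⁻¹ᵁ b ⁻¹ᵁ V = ⊥ from
        bot_unique fun w hw => hV (hmem w ▸ (show b (E.subschemeι w) ∈ V from hw))]
      exact subsingleton_sections_of_disjoint N ⊥ (by simp)
  exact @Subsingleton.elim _ key _ _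

variable [IsLocallyNoetherian S] {Z : Closeds S}

/-- Second direct images along the blow-up of points of a surface vanish. -/
theorem isZero_rpush_two (h : Points Z) (hb : BlowUp.IsBlowUp b (Scheme.IdealSheafData.vanishingIdeal Z))
    [HasInjectiveResolutions X.Modules] (V : X.Modules) (hV : Coh.IsQCoh V) : IsZero ((Coh.Rpush b 2).obj V) := by
  haveI := isProper_blowUp b hb
  haveI := hV
  have key : ∀ x : S, ∃ U : S.affineOpens, x ∈ U.1 ∧ Subsingleton Γ((Coh.Rpush b 2).obj V, U.1) := by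
    intro x
    obtain ⟨U, hxU, hH⟩ : ∃ U : S.affineOpens, x ∈ U.1 ∧
        Subsingleton (Coh.HH (b ⁻¹ᵁ U.1).toScheme (V.restrict (b ⁻¹ᵁ U.1).ι) 2) := by
      by_cases hx : x ∈ Z
      · obtain ⟨U, hxU, -, hgood⟩ := exists_good b hb h x hx
        obtain ⟨U₀, U₁, hU₀, hU₁, h01, hcov⟩ := hgood.two
        exact ⟨U, hxU, SurfBl13.subsingleton_HH_ge_two hU₀ hU₁ h01 hcov (H8Coh.isQCoh_restrictOpen _ V) 2 (by norm_num)⟩
      · obtain ⟨U, hxU, hU⟩ := exists_affine_preimage_affine b hb x hx
        refine ⟨U, hxU, ?_⟩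
        haveI : IsAffine (b ⁻¹ᵁ U.1).toScheme := hU
        haveI : Coh.IsQCoh (V.restrict (b ⁻¹ᵁ U.1).ι) := H8Coh.isQCoh_restrictOpen _ V
        exact @Equiv.subsingleton _ _ (HHTopEquiv _ 2).toEquiv
          (subsingleton_H'_qcoh_pos _ (isAffineOpen_top _) (by norm_num))
    obtain ⟨ψ⟩ := exists_rpush_sections_equiv b U.2 V 2
    exact ⟨U, hxU, ψ.symm.toEquiv.subsingleton⟩
  choose U hxU hs using key
  exact EulerLib.isZero_of_sections_cover (isQCoh_rpush b V 2) (fun x => (U x).1) (fun x => (U x).2)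
    (fun x => ⟨x, hxU x⟩) hs

include b in
/-- Higher direct images live over the centre. -/
theorem support_rpush_subset (hb : BlowUp.IsBlowUp b (Scheme.IdealSheafData.vanishingIdeal Z))
    [HasInjectiveResolutions X.Modules] (V : X.Modules) (hV : Coh.IsQCoh V) (p : ℕ) (hp : 0 < p) :
    CohB1.support ((Coh.Rpush b p).obj V) ⊆ Z := by
  haveI := isProper_blowUp b hb
  haveI := hV
  intro x hx
  by_contra hxZ
  obtain ⟨U, hxU, hU⟩ := exists_affine_preimage_affine b hb x hxZ
  haveI : IsAffine (b ⁻¹ᵁ U.1).toScheme := hU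
  haveI : Coh.IsQCoh (V.restrict (b ⁻¹ᵁ U.1).ι) := H8Coh.isQCoh_restrictOpen _ V
  obtain ⟨ψ⟩ := exists_rpush_sections_equiv b U.2 V p
  haveI : Subsingleton Γ((Coh.Rpush b p).obj V, U.1) :=
    @Equiv.subsingleton _ _ ψ.symm.toEquiv (@Equiv.subsingleton _ _ (HHTopEquiv _ p).toEquiv
      (subsingleton_H'_qcoh_pos _ (isAffineOpen_top _) hp))
  haveI : Coh.IsQCoh ((Coh.Rpush b p).obj V) := isQCoh_rpush b V p
  refine hx (subsingleton_of_forall_eq 0 fun a => ?_)
  obtain ⟨g, m, hg, hm⟩ := QCohLoc.exists_smul_stalk_eq_germ ((Coh.Rpush b p).obj V) U.2 hxU a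
  rw [Subsingleton.elim (α := Γ((Coh.Rpush b p).obj V, U.1)) m 0, map_zero,
    IsUnit.smul_eq_zero ((Scheme.mem_basicOpen _ _ _ hxU).1 hg)] at hm
  exact hm

include b in
/-- The Euler characteristic of a pulled back invertible module. -/
theorem euler_pullback (k : Type u) [Field k] [S.Over (Spec (CommRingCat.of k))] [X.Over (Spec (CommRingCat.of k))]
    [IsProper (S ↘ Spec (CommRingCat.of k))]
    (hk : b ≫ (S ↘ Spec (CommRingCat.of k)) = X ↘ Spec (CommRingCat.of k))
    (h : Points Z) (hb : BlowUp.IsBlowUp b (Scheme.IdealSheafData.vanishingIdeal Z))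
    {M : S.Modules} (hM : PicF.IsInvertible M) :
    Nonempty ((Coh.push b).obj ((Scheme.Modules.pullback b).obj M) ≅ M) ∧
      Curv2.euler k X ((Scheme.Modules.pullback b).obj M) = Curv2.euler k S M := by
  haveI := isProper_blowUp b hb
  have hI : BlowUpCoh.KoszulBasis (Scheme.IdealSheafData.vanishingIdeal Z) 1 :=
    BlowUpCoh.koszulBasis_of_local fun x hx => by
      have hxZ : x ∈ Z := (Scheme.IdealSheafData.coe_support_vanishingIdeal Z).le hx
      obtain ⟨hc, hr, hreg, hd⟩ := h x hxZ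
      obtain ⟨U, g, hxU, -, hg1, hg2, -⟩ := exists_local_gen_isolated x hc hr hxZ hd
      exact ⟨U, 1, g, hxU, le_rfl, hg1, hg2⟩
  haveI := BlowUpCoh.isIso_unitMap hb hI
  have hMF : FlatMod.IsFinLocFree M := fun x =>
    let ⟨U, hx, e⟩ := isFinLocFreeOfRank_one hM x; ⟨U, 1, hx, e⟩
  haveI := BlowUpCoh.isIso_unit_of_locFree (f := b) hMF
  let η := asIso ((Scheme.Modules.pullbackPushforwardAdjunction b).unit.app M)
  refine ⟨⟨η.symm⟩, ?_⟩
  haveI : Coh.IsQCoh ((Scheme.Modules.pullback b).obj M) :=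
    isQCoh_of_isInvertible (PicLoc.isInvertible_pullback b hM)
  rw [VarietyLib.euler_push_of_acyclic b k hk _ (VarietyLib.acyclicOverBasis_of_isZero b _ fun p hp =>
    (BlowUpCoh.isZero_rpushAb_tensor_pullback b hMF _ p (isZero_rpushAb_structure b h hb p hp)).of_iso
      ((Coh.RpushAb b p).mapIso ((toAbFunctor X).mapIso
        ((tensorComm _ _ ≪≫ unitTensorIso ((Scheme.Modules.pullback b).obj M)).symm))))]
  exact EulerLib.euler_congr k S η.symm

end Groth.Agent.SurfBl13
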