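import Groth.Agent.SurfBl13.Transfer

/-!
# The cokernel of the counit is killed by the twist that is generated on the exceptional divisor
-/

set_option autoImplicit false
set_option linter.style.haveILetI false
set_option backward.isDefEq.respectTransparency.types false
set_option maxHeartbeats 1000000

universe u

open CategoryTheory CategoryTheory.Limits AlgebraicGeometry TopologicalSpace Opposite
open Groth.Agent.Coherent Groth.Agent.PicLib Groth.Agent.AmpleLib

namespace Groth.Agent.SurfBl13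

variable {X S : Scheme.{u}} [IsLocallyNoetherian S] {Z : Closeds S} (b : X ⟶ S)

/-- The cokernel of the counit is killed by an ideal whose twist is generated on the exceptional divisor. -/
theorem coker_killed (h : Points Z) (hb : BlowUp.IsBlowUp b (Scheme.IdealSheafData.vanishingIdeal Z))
    {V : X.Modules} (A : X.IdealSheafData) (hW : FlatMod.IsFinLocFree (CohB1.tensorMod (ClSub.idealMod A) V))
    (hgg : Curv2.IsGloballyGenerated ((Scheme.Modules.pullback
      ((Scheme.IdealSheafData.vanishingIdeal Z).comap b).subschemeι).obj (CohB1.tensorMod (ClSub.idealMod A) V)))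
    (U : X.affineOpens)
    (q : (cokernel ((Scheme.Modules.pullbackPushforwardAdjunction b).counit.app V)).presheaf.obj (op U.1))
    (a : Γ(X, U.1)) (ha : a ∈ A.ideal U) : a • q = 0 := by
  let e := (Scheme.Modules.pullbackPushforwardAdjunction b).counit.app V
  let π : V ⟶ cokernel e := cokernel.π e
  let q' : Γ(cokernel e, U.1) := q
  show (a • q' : Γ(cokernel e, U.1)) = 0
  refine sec_ext (cokernel e) _ _ fun y hy => ?_
  -- a lift of `q` near `y`
  haveI : Epi ((DerSch.stalkFunctor X y).map π) := (DerSch.stalkFunctor X y).map_epi π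
  obtain ⟨v, hv⟩ := (ModuleCat.epi_iff_surjective ((DerSch.stalkFunctor X y).map π)).1 inferInstance
    ((cokernel e).presheaf.germ U.1 y hy q')
  obtain ⟨W₁, hyW₁, m, rfl⟩ := V.presheaf.exists_germ_eq (show V.presheaf.stalk y from v)
  have hv' : (cokernel e).presheaf.germ W₁ y hyW₁ (π.app W₁ m) = (cokernel e).presheaf.germ U.1 y hy q' :=
    (Coherent.stalk_map_germ (W := W₁) π hyW₁ m).symm.trans hv
  obtain ⟨W₂, hyW₂, i₁, i₂, hW₂⟩ := (cokernel e).presheaf.germ_eq y hyW₁ hy _ _ hv'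
  obtain ⟨U₀, hxU₀, -, hspan⟩ := exists_spanning b h hb hW hgg (b y)
  obtain ⟨T, hT, hyT, hTle⟩ := exists_isAffineOpen_mem_and_subset (x := y) (U := W₂ ⊓ b ⁻¹ᵁ U₀) ⟨hyW₂, hxU₀⟩
  have hTW₂ : T ≤ W₂ := fun z hz => (hTle hz).1
  have hTU : T ≤ U.1 := hTW₂.trans i₂.le
  have hTW₁ : T ≤ W₁ := hTW₂.trans i₁.le
  have hT0 : T ≤ b ⁻¹ᵁ U₀ := fun z hz => (hTle hz).2
  refine ⟨T, hTU, hyT, ?_⟩
  have hq : resM _ hTU q' = π.app T (resM V hTW₁ m) := by
    rw [app_resM]
    have h4 : resM (cokernel e) hTW₂ (resM (cokernel e) i₂.le q') =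
        resM (cokernel e) hTW₂ (resM (cokernel e) i₁.le (π.app W₁ m)) := congrArg (resM _ hTW₂) hW₂.symm
    rw [resM_resM, resM_resM] at h4
    exact h4
  rw [map_zero, resM_smul, hq, ← Scheme.Modules.Hom.app_smul]
  let a' : Γ(X, T) := PicLib.res hTU a
  show π.app T (a' • resM V hTW₁ m) = 0
  have ha' : a' ∈ A.ideal ⟨T, hT⟩ := by
    rw [← A.map_ideal (U := ⟨T, hT⟩) (V := U) hTU]
    exact Ideal.mem_map_of_mem _ ha
  obtain ⟨k, hk⟩ := (mem_range_idealModι A T a').2 (RingHom.mem_ker.1 ((A.ker_subschemeι_app ⟨T, hT⟩).symm ▸ ha'))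
  have hzero : ∀ t : Γ(CohB1.tensorMod (ClSub.idealMod A) V, T), π.app T ((twistMul A V).app T t) = 0 := by
    intro t
    obtain ⟨c, hc⟩ := (Finsupp.mem_span_range_iff_exists_finsupp).1
      ((hspan T hT0 hT).ge (Submodule.mem_top : t ∈ (⊤ : Submodule Γ(X, T) _)))
    rw [← hc, Finsupp.sum, map_sum, map_sum]
    refine Finset.sum_eq_zero fun s _ => ?_
    rw [Scheme.Modules.Hom.app_smul, Scheme.Modules.Hom.app_smul, app_resM, app_resM,
      ← AmpleLib.counit_app_pullSec b V U₀ ((twistMul A V).app (b ⁻¹ᵁ U₀) s)]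
    have h0 : ∀ z, π.app (b ⁻¹ᵁ U₀) (e.app (b ⁻¹ᵁ U₀) z) = 0 := fun z =>
      congrArg (fun f : _ ⟶ cokernel e => f.app (b ⁻¹ᵁ U₀) z) (cokernel.condition e)
    rw [h0, map_zero, smul_zero]
  have := hzero (tmul k (resM V hTW₁ m))
  rwa [twistMul_tmul, hk] at this

end Groth.Agent.SurfBl13
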