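import Groth.Agent.SurfBl13.AmpleBl
import Groth.Agent.Models7.ContractStep
import Groth.Agent.Models7.P1Deg
import Groth.Agent.Surf15.H0
import Groth.Agent.Surf15.Cycle
import Groth.Agent.CAlgH3.PSheafH1
import Groth.Agent.Inters29.PullIdeal
import Groth.Agent.Lef23.Formal
import Groth.Agent.Coherent.FiniteType
import Groth.Agent.KTop28.Basic

/-!
# Sections of line bundles on thickenings of exceptional lines
-/

set_option autoImplicit false
set_option linter.unusedSectionVars false
set_option linter.style.haveILetI false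
set_option backward.isDefEq.respectTransparency.types false
set_option maxHeartbeats 2000000

universe u

open CategoryTheory CategoryTheory.Limits AlgebraicGeometry TopologicalSpace Opposite
open Groth.Agent.Coherent Groth.Agent.PicLib Groth.Agent.AmpleLib Groth.Agent.EulerLib Groth.Agent.CurveRR24

namespace Groth.Agent.SurfBl13

variable {X : Scheme.{u}}

/-- A twist of the structure module of a subscheme is the direct image of the restriction. -/
theorem quot_tensor_iso (J : X.IdealSheafData) {M : X.Modules} (hM : PicF.IsInvertible M) :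
    Nonempty (CohB1.tensorMod (ClSub.quotMod J) M ≅
      (Coh.push J.subschemeι).obj ((Scheme.Modules.pullback J.subschemeι).obj M)) := by
  have hMF : FlatMod.IsFinLocFree M := fun x =>
    let ⟨U, hx, e⟩ := isFinLocFreeOfRank_one hM x; ⟨U, 1, hx, e⟩
  exact ⟨(tensorComm _ _ ≪≫ (projIso (f := J.subschemeι) hMF).app (Coh.structureModule J.subscheme)) ≪≫
    (Coh.push J.subschemeι).mapIso (tensorComm _ (Coh.structureModule J.subscheme) ≪≫ unitTensorIso _)⟩

theorem subsingleton_quot_tensor (J : X.IdealSheafData) {M : X.Modules} (hM : PicF.IsInvertible M) (q : ℕ)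
    (h : Subsingleton (Coh.HH J.subscheme ((Scheme.Modules.pullback J.subschemeι).obj M) q)) :
    Subsingleton (Coh.HH X (CohB1.tensorMod (ClSub.quotMod J) M) q) := by
  obtain ⟨e⟩ := quot_tensor_iso J hM
  haveI : Coh.IsQCoh ((Scheme.Modules.pullback J.subschemeι).obj M) :=
    isQCoh_of_isInvertible (PicLoc.isInvertible_pullback _ hM)
  exact FlatMorStrat.subsingleton_HH_of_iso e.symm q
    ((HHAffinePushEquiv J.subschemeι _ q).toEquiv.subsingleton_congr.1 h)

/-- An invertible module of negative degree on a line has no sections. -/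
theorem subsingleton_sections_of_deg_neg {k : Type u} [Field k] {E : Scheme.{u}} (e : CohB1.ProjSpace 1 k ≅ E)
    {M : E.Modules} (hM : PicF.IsInvertible M) {m : ℤ} (h : Models7.P1Deg.HasDeg e M m) (hm : m < 0) :
    Subsingleton (Coh.HH E M 0) := by
  obtain ⟨φ⟩ := h
  haveI := Coherent.subsingleton_HH_twist (n := 1) (R := k) (d := m) 0 (by omega) (by omega)
  haveI : Subsingleton Γ(Twist.twistProjSpace 1 k m, ⊤) :=
    ((CurveRR24.hhZero k (X := CohB1.ProjSpace 1 k) (Twist.twistProjSpace 1 k m)).toEquiv.subsingleton_congr.1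
      inferInstance :)
  letI : E.Over (Spec (CommRingCat.of k)) := ⟨e.inv ≫ CohB1.ProjSpace.toSpec 1 k⟩
  refine (CurveRR24.hhZero k M).toEquiv.subsingleton_congr.2 (show Subsingleton Γ(M, ⊤) from ?_)
  refine ⟨fun a c => (bijective_pullSec_opensRange e.hom hM ⊤ ?_).1 ?_⟩
  · rw [Scheme.Hom.opensRange_of_isIso]
  · exact (ConcreteCategory.bijective_of_isIso (φ.hom.app ⊤)).1
      (Subsingleton.elim (α := Γ(Twist.twistProjSpace 1 k m, ⊤)) _ _)

/-- Twisting by the ideal of a disjoint divisor does nothing. -/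
theorem twist_disjoint_iso {A B : X.IdealSheafData} (hA : BlowUp.IsEffCartierIdeal A)
    (hB : BlowUp.IsEffCartierIdeal B) (hd : Disjoint (A.support : Set X) (B.support : Set X)) {L : X.Modules}
    (hL : PicF.IsInvertible L) :
    Nonempty (CohB1.tensorMod (ClSub.quotMod B) (CohB1.tensorMod (ClSub.idealMod A) L) ≅
      CohB1.tensorMod (ClSub.quotMod B) L) := by
  have hIA := FlatMor12.IdealModGen.isInvertible_idealMod A hA
  -- twisting by the ideal of `A` does nothing on `B`
  obtain ⟨t1⟩ := quot_tensor_iso B (isInvertible_tensorMod hIA hL)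
  obtain ⟨t2⟩ := quot_tensor_iso B hL
  have htop : A.comap B.subschemeι = 1 := by
    rw [Scheme.IdealSheafData.one_eq_top, ← Scheme.IdealSheafData.support_eq_bot_iff]
    refine Closeds.ext (Set.eq_empty_iff_forall_notMem.2 fun z hz => ?_)
    rw [Scheme.IdealSheafData.support_comap] at hz
    exact Set.disjoint_left.1 hd hz (B.range_subschemeι.le ⟨z, rfl⟩)
  have h1top : BlowUp.IsEffCartierIdeal (A.comap B.subschemeι) := htop ▸ Inters29.isEffCartier_one
  obtain ⟨p1⟩ := Inters29.nonempty_pullback_idealMod_iso B.subschemeι A hA h1top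
  obtain ⟨p2⟩ := (PicM.of_eq_one_iff (FlatMor12.IdealModGen.isInvertible_idealMod _ h1top)).1
    ((Inters29.idealCl_congr htop h1top Inters29.isEffCartier_one).trans Inters29.idealCl_one)
  let r : (Scheme.Modules.pullback B.subschemeι).obj (CohB1.tensorMod (ClSub.idealMod A) L) ≅
      (Scheme.Modules.pullback B.subschemeι).obj L :=
    DCat.PullTensor.pullTensorIso B.subschemeι _ _ ≪≫ AmpleLib.tensorIso (p1 ≪≫ p2) (Iso.refl _) ≪≫ unitTensorIso _
  exact ⟨t1 ≪≫ (Coh.push B.subschemeι).mapIso r ≪≫ t2.symm⟩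

variable (k : Type u) [Field k] [X.Over (Spec (CommRingCat.of k))] [IsProper (X ↘ Spec (CommRingCat.of k))]

include k in
/-- `h⁰` is additive when sections lift. -/
theorem h0_add_of_surjective {S : ShortComplex X.Modules} (hS : S.ShortExact) (h₁ : Coh.IsCoh S.X₁)
    (h₂ : Coh.IsCoh S.X₂) (hg : Function.Surjective (S.g.app (⊤ : X.Opens))) :
    Module.finrank k (Coh.HH X S.X₂ 0) = Module.finrank k (Coh.HH X S.X₁ 0) + Module.finrank k (Coh.HH X S.X₃ 0) := by
  rw [(HHBaseEquiv k S.X₁ 0).finrank_eq, (HHBaseEquiv k S.X₂ 0).finrank_eq, (HHBaseEquiv k S.X₃ 0).finrank_eq]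
  haveI := finCoh_of_isProper (X ↘ Spec (CommRingCat.of k)) _ h₁ 0
  haveI := finCoh_of_isProper (X ↘ Spec (CommRingCat.of k)) _ h₂ 0
  have hinj := postA_zero_injective (baseHom k X) hS (⊤ : X.Opens)
  have hex := exact_postA (baseHom k X) hS (⊤ : X.Opens) 0
  let g := postA (baseHom k X) S.g (⊤ : X.Opens) 0
  have hsurj : Function.Surjective g := fun y => by
    obtain ⟨a, ha⟩ := hg (secH (X := X.toTopCat) (Coh.toAb S.X₃) (⊤ : X.Opens) y)
    obtain ⟨b, hb⟩ := (secH (X := X.toTopCat) (Coh.toAb S.X₂) (⊤ : X.Opens)).surjective a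
    refine ⟨b, (secH (X := X.toTopCat) (Coh.toAb S.X₃) (⊤ : X.Opens)).injective ?_⟩
    refine (secH_postH (X := X.toTopCat) (F := Coh.toAb S.X₂) (G := Coh.toAb S.X₃)
      ((toAbFunctor X).map S.g) (⊤ : X.Opens) b).trans ?_
    rw [hb]
    exact ha
  rw [← LinearMap.finrank_range_add_finrank_ker g, LinearMap.exact_iff.1 hex,
    LinearMap.finrank_range_of_inj hinj, LinearMap.range_eq_top.2 hsurj, finrank_top, add_comm]

include k in
/-- `h⁰` is additive when the first module has no `H¹`. -/
theorem h0_add_of_H1 {S : ShortComplex X.Modules} (hS : S.ShortExact) (h₁ : Coh.IsCoh S.X₁)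
    (h₂ : Coh.IsCoh S.X₂) (h : Subsingleton (Coh.HH X S.X₁ 1)) :
    Module.finrank k (Coh.HH X S.X₂ 0) = Module.finrank k (Coh.HH X S.X₁ 0) + Module.finrank k (Coh.HH X S.X₃ 0) := by
  haveI : Subsingleton (HA (baseHom k X) S.X₁ (⊤ : X.Opens) 1) :=
    (HHBaseEquiv k S.X₁ 1).toEquiv.subsingleton_congr.1 h
  exact h0_add_of_surjective k hS h₁ h₂ (CAlgH3.PSheafH1.surjective_of_postA_injective (baseHom k X) hS
    fun a b _ => Subsingleton.elim a b)

/-- The conormal module of an exceptional line restricted to it has degree `n` in the `n`-th power. -/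
theorem hasDeg_pullback_pow {K : Type u} [Field K] {E : X.IdealSheafData} (hE : BlowUp.IsEffCartierIdeal E)
    (e : CohB1.ProjSpace 1 K ≅ E.subscheme)
    (h1 : Models7.P1Deg.HasDeg e ((Scheme.Modules.pullback E.subschemeι).obj (ClSub.idealMod E)) 1) (n : ℕ) :
    Models7.P1Deg.HasDeg e ((Scheme.Modules.pullback E.subschemeι).obj (ClSub.idealMod (E ^ n))) n := by
  have hI := FlatMor12.IdealModGen.isInvertible_idealMod E hE
  obtain ⟨φ⟩ := Lef23.nonempty_idealMod_pow E hE n
  obtain ⟨ψ, -⟩ := exists_pullPowIso E.subschemeι hI n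
  have h := Models7.P1Deg.HasDeg.pow e (PicLoc.isInvertible_pullback E.subschemeι hI) h1 n
  rw [mul_one] at h
  exact h.of_iso e (ψ.symm ≪≫ (Scheme.Modules.pullback E.subschemeι).mapIso φ.symm)

include k in
/-- Sections of an invertible module on consecutive thickenings of an exceptional line. -/
theorem h0_step {K : Type u} [Field K] {E : X.IdealSheafData} (hE : BlowUp.IsEffCartierIdeal E)
    (e : CohB1.ProjSpace 1 K ≅ E.subscheme)
    (h1 : Models7.P1Deg.HasDeg e ((Scheme.Modules.pullback E.subschemeι).obj (ClSub.idealMod E)) 1)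
    {L : X.Modules} (hL : PicF.IsInvertible L) (n : ℕ) (hn : 1 ≤ n) :
    Module.finrank k (Coh.HH X (CohB1.tensorMod (ClSub.quotMod (E ^ (n + 1))) L) 0) =
      Module.finrank k (Coh.HH X (CohB1.tensorMod (ClSub.quotMod E) (CohB1.tensorMod (ClSub.idealMod (E ^ n)) L)) 0) +
      Module.finrank k (Coh.HH X (CohB1.tensorMod (ClSub.quotMod (E ^ n)) L) 0) := by
  have hEn := fun m => Inters29.isEffCartier_pow hE m
  have hIn := fun m => FlatMor12.IdealModGen.isInvertible_idealMod _ (hEn m)
  have hLι := PicLoc.isInvertible_pullback E.subschemeι hL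
  obtain ⟨d, hd⟩ := Models7.P1Deg.exists_hasDeg e hLι
  have hdeg : ∀ m : ℕ, Models7.P1Deg.HasDeg e
      ((Scheme.Modules.pullback E.subschemeι).obj (CohB1.tensorMod (ClSub.idealMod (E ^ m)) L)) ((m : ℤ) + d) :=
    fun m => ((hasDeg_pullback_pow hE e h1 m).tensor e (PicLoc.isInvertible_pullback _ (hIn m)) hLι hd).of_iso e
      (DCat.PullTensor.pullTensorIso E.subschemeι _ _).symm
  obtain ⟨S, hS, c1, c2, c3, ⟨e1⟩, ⟨e2⟩, ⟨e3⟩⟩ := Surf15.exists_ses_twist k (hEn n) hE hL
  rw [← finrank_HH_congr k e1 0, pow_succ, ← finrank_HH_congr k e2 0, ← finrank_HH_congr k e3 0]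
  by_cases hcase : -1 ≤ (n : ℤ) + d
  · exact h0_add_of_H1 k hS c1 c2 (FlatMorStrat.subsingleton_HH_of_iso e1.symm 1
      (subsingleton_quot_tensor E (isInvertible_tensorMod (hIn n) hL) 1
        ((hdeg n).subsingleton_H1 e (PicLoc.isInvertible_pullback _ (isInvertible_tensorMod (hIn n) hL)) hcase)))
  -- no sections on the smaller thickenings
  have hz : ∀ m : ℕ, m ≤ n → Module.finrank k
      (Coh.HH X (CohB1.tensorMod (ClSub.quotMod E) (CohB1.tensorMod (ClSub.idealMod (E ^ m)) L)) 0) = 0 := fun m hm => by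
    haveI := subsingleton_quot_tensor E (isInvertible_tensorMod (hIn m) hL) 0
      (subsingleton_sections_of_deg_neg e (PicLoc.isInvertible_pullback _ (isInvertible_tensorMod (hIn m) hL))
        (hdeg m) (by omega))
    exact Module.finrank_zero_of_subsingleton
  have hz' : ∀ m : ℕ, 1 ≤ m → m ≤ n →
      Module.finrank k (Coh.HH X (CohB1.tensorMod (ClSub.quotMod (E ^ m)) L) 0) = 0 := by
    intro m hm
    induction m, hm using Nat.le_induction with
    | base =>
      intro _
      rw [pow_one]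
      haveI := subsingleton_quot_tensor E hL 0 (subsingleton_sections_of_deg_neg e hLι hd (by omega))
      exact Module.finrank_zero_of_subsingleton
    | succ m hm ih =>
      intro hle
      have h := (Surf15.h0_ses_twist k (hEn m) hE hL).2
      rw [← pow_succ, hz m (by omega), ih (by omega)] at h
      omega
  have h2 := Surf15.h0_le k hS c1 c2 c3
  have h30 : Module.finrank k (Coh.HH X S.X₃ 0) = 0 := by rw [finrank_HH_congr k e3 0]; exact hz' n hn le_rfl
  omega

include k in
/-- Sections on the union of two disjoint divisors. -/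
theorem h0_disjoint {A B : X.IdealSheafData} (hA : BlowUp.IsEffCartierIdeal A) (hB : BlowUp.IsEffCartierIdeal B)
    (hd : Disjoint (A.support : Set X) (B.support : Set X)) {L : X.Modules} (hL : PicF.IsInvertible L) :
    Module.finrank k (Coh.HH X (CohB1.tensorMod (ClSub.quotMod (A * B)) L) 0) =
      Module.finrank k (Coh.HH X (CohB1.tensorMod (ClSub.quotMod B) L) 0) +
      Module.finrank k (Coh.HH X (CohB1.tensorMod (ClSub.quotMod A) L) 0) := by
  haveI := isNoetherian_of_proper k (X := X)
  have hIA := FlatMor12.IdealModGen.isInvertible_idealMod A hA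
  obtain ⟨S, hS, c1, c2, c3, ⟨e1⟩, ⟨e2⟩, ⟨e3⟩⟩ := Surf15.exists_ses_twist k hA hB hL
  obtain ⟨r⟩ := twist_disjoint_iso hA hB hd hL
  have hX1 : S.X₁ ≅ CohB1.tensorMod (ClSub.quotMod B) L := e1 ≪≫ r
  have hsupp : ∀ {M : X.Modules} {J : X.IdealSheafData} {N : X.Modules},
      (M ≅ CohB1.tensorMod (ClSub.quotMod J) N) → ∀ W : X.Opens, Disjoint (W : Set X) (J.support : Set X) →
        Subsingleton Γ(M, W) := fun {M} {J} {N} φ W hW => by
    refine subsingleton_sections_of_disjoint M W (hW.mono_right ?_)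
    intro x hx
    have h := KTop28.support_tensorMod_subset N (ClSub.quotMod J)
      ((Coherent.support_eq_of_iso (φ ≪≫ tensorComm _ _)).le hx)
    exact support_quotMod_subset J h
  let V : X.Opens := ⟨(B.support : Set X)ᶜ, B.support.2.isOpen_compl⟩
  let W : X.Opens := ⟨(A.support : Set X)ᶜ, A.support.2.isOpen_compl⟩
  have hAB : ((A * B).support : Set X) ⊆ A.support ∪ B.support := by
    rw [Scheme.IdealSheafData.support_mul]; exact subset_rfl
  haveI := hS.epi_g
  haveI := hS.mono_f
  have hker : ∀ O : X.Opens, O ≤ V → Function.Injective (S.g.app O) := fun O hO a b hab => by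
    refine sub_eq_zero.1 ?_
    obtain ⟨c, hc⟩ : ∃ c : Γ(S.X₁, O), S.f.app O c = a - b :=
      TopCat.Sheaf.sections_exact_of_left_exact (X := X.toTopCat)
        (hS.exact.map_of_mono_of_preservesKernel (toAbFunctor X) (inferInstanceAs (Mono S.f)) inferInstance)
        (Functor.map_mono (toAbFunctor X) S.f) (a - b) (by
          show S.g.app O (a - b) = 0
          rw [map_sub, hab, sub_self])
    haveI := hsupp hX1 O (Set.disjoint_left.2 fun x hx hxB => hO hx hxB)
    rw [← hc, Subsingleton.elim c 0, map_zero]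
  have hsurj : Function.Surjective (S.g.app (⊤ : X.Opens)) := fun s => by
    choose T hT hyT b hb using fun y : V => exists_lift_of_epi S.g V (resM S.X₃ le_top s) y.1 y.2
    obtain ⟨bV, hbV, -⟩ := TopCat.Sheaf.existsUnique_gluing' (⟨S.X₂.presheaf, S.X₂.isSheaf⟩ : TopCat.Sheaf Ab X) T V
      (fun y => homOfLE (hT y)) (fun x hx => Opens.mem_iSup.2 ⟨⟨x, hx⟩, hyT ⟨x, hx⟩⟩) b (fun y z => by
        show resM S.X₂ inf_le_left (b y) = resM S.X₂ inf_le_right (b z)
        apply hker _ (inf_le_left.trans (hT y))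
        simp only [app_resM, hb, resM_resM])
    have hover : ∀ O : X.Opens, O ≤ V → O ≤ W → ∀ p q : Γ(S.X₂, O), p = q := fun O hV hW p q =>
      (hsupp e2 O (Set.disjoint_left.2 fun x hx hxAB => (hAB hxAB).elim (hW hx) (hV hx))).elim p q
    let cov : Bool → X.Opens := fun i => cond i V W
    let sec : ∀ i, Γ(S.X₂, cov i) := fun i => match i with
      | true => bV
      | false => 0
    obtain ⟨g, hg, -⟩ := TopCat.Sheaf.existsUnique_gluing' (⟨S.X₂.presheaf, S.X₂.isSheaf⟩ : TopCat.Sheaf Ab X) cov ⊤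
      (fun i => homOfLE le_top) (fun x _ => by
        by_cases hx : x ∈ B.support
        · exact Opens.mem_iSup.2 ⟨false, fun hxA => Set.disjoint_left.1 hd hxA hx⟩
        · exact Opens.mem_iSup.2 ⟨true, hx⟩) sec (fun i j => by
        cases i <;> cases j
        · rfl
        · exact hover _ inf_le_right inf_le_left _ _
        · exact hover _ inf_le_left inf_le_right _ _
        · rfl)
    refine ⟨g, AmpleLib.sec_ext _ _ _ fun x _ => ?_⟩
    by_cases hx : x ∈ B.support
    · refine ⟨W, le_top, fun hxA => Set.disjoint_left.1 hd hxA hx, ?_⟩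
      exact (hsupp e3 W (Set.disjoint_left.2 fun y hy hyA => hy hyA)).elim _ _
    · refine ⟨T ⟨x, hx⟩, le_top, hyT _, ?_⟩
      rw [← app_resM, show resM S.X₂ (le_top : T ⟨x, hx⟩ ≤ ⊤) g = b ⟨x, hx⟩ from
        ((resM_resM S.X₂ (le_top : V ≤ ⊤) (hT ⟨x, hx⟩) g).symm.trans
          ((congrArg (resM S.X₂ (hT ⟨x, hx⟩)) (hg true)).trans (hbV ⟨x, hx⟩))), hb, resM_resM]
  rw [← finrank_HH_congr k hX1 0, ← finrank_HH_congr k e2 0, ← finrank_HH_congr k e3 0]
  exact h0_add_of_surjective k hS c1 c2 hsurj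

end Groth.Agent.SurfBl13
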