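import Groth.Agent.SurfBl13.Jets
import Groth.Agent.SurfBl13.Thick
import Groth.Agent.BlowUpPlane.PointEuler
import Groth.Agent.BlowUpPlane.Chart
import Groth.Agent.Coherent.FibreVanish
import Groth.Agent.Coherent.ProjSpaceCoh
import Groth.Agent.SerreDual.Curve
import Groth.Agent.S4466

/-!
# Cohomology of twisted powers of the ideal of a point of the plane
-/

set_option autoImplicit false
set_option linter.unusedSectionVars false
set_option linter.style.haveILetI false
set_option backward.isDefEq.respectTransparency.types false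
set_option maxHeartbeats 2000000

universe u

open CategoryTheory CategoryTheory.Limits AlgebraicGeometry TopologicalSpace Opposite
open Groth.Agent.Coherent Groth.Agent.PicLib Groth.Agent.AmpleLib Groth.Agent.EulerLib Groth.Agent.CurveRR24

namespace Groth.Agent.SurfBl13

/-- The binomial polynomial at integers. -/
theorem choose_two_int (p : ℤ) :
    Ring.choose (p + 2) 2 = ((p + 2).toNat.choose 2 : ℤ) + ((-p - 1).toNat.choose 2 : ℤ) := by
  rcases le_or_gt 0 (p + 2) with h | h
  · obtain ⟨n, hn⟩ := Int.eq_ofNat_of_zero_le h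
    rw [hn, Ring.choose_natCast, Int.toNat_natCast,
      Nat.choose_eq_zero_of_lt (show (-p - 1).toNat < 2 by omega)]
    simp
  · obtain ⟨m, hm⟩ := Int.eq_ofNat_of_zero_le (show 0 ≤ -(p + 2) by omega)
    rw [show p + 2 = -(m : ℤ) by omega, Ring.choose_neg, Int.toNat_of_nonpos (by omega : -(m : ℤ) ≤ 0),
      show (-p - 1).toNat = m + 1 by omega, show (m : ℤ) + (2 : ℕ) - 1 = ((m + 1 : ℕ) : ℤ) by push_cast; ring,
      Ring.choose_natCast]
    simp [Int.negOnePow_even 2 even_two]

section Seq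

variable (k : Type u) [Field k] {X : Scheme.{u}} [X.Over (Spec (CommRingCat.of k))]
  [IsProper (X ↘ Spec (CommRingCat.of k))]

/-- The inclusion of a smaller ideal. -/
theorem exists_idealMod_mono {A B : X.IdealSheafData} (h : A ≤ B) :
    ∃ φ : ClSub.idealMod A ⟶ ClSub.idealMod B, Mono φ := by
  haveI := AmpleLib.mono_idealModι A
  have w : ClSub.idealModι A ≫ ClSub.toSubscheme B = 0 := by
    refine Scheme.Modules.hom_ext _ _ fun W => ?_
    ext v
    have h0 : A.subschemeι.app W ((ClSub.idealModι A).app W v) = 0 := (AmpleLib.mem_range_idealModι A W _).1 ⟨v, rfl⟩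
    show B.subschemeι.app W ((ClSub.idealModι A).app W v) = 0
    rw [Scheme.Hom.congr_app (Scheme.IdealSheafData.inclusion_subschemeι h).symm W, Scheme.Hom.comp_app,
      ConcreteCategory.comp_apply]
    erw [ConcreteCategory.comp_apply, h0, map_zero, map_zero]
  refine ⟨kernel.lift (ClSub.toSubscheme B) (ClSub.idealModι A) w, ?_⟩
  exact mono_of_mono_fac (kernel.lift_ι (ClSub.toSubscheme B) (ClSub.idealModι A) w)

include k in
/-- A finitely supported quotient does not change `H²`. -/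
theorem h2_eq_of_finite_support {T : ShortComplex X.Modules} (hT : T.ShortExact) (Z : Set X) (hZ : Z.Finite)
    (hc : ∀ z ∈ Z, IsClosed ({z} : Set X)) (hsupp : CohB1.support T.X₃ ⊆ Z) :
    Module.finrank k (Coh.HH X T.X₁ 2) = Module.finrank k (Coh.HH X T.X₂ 2) := by
  haveI h1 : Subsingleton (HA (baseHom k X) T.X₃ (⊤ : X.Opens) 1) :=
    (HHBaseEquiv k T.X₃ 1).toEquiv.subsingleton_congr.1 (subsingleton_HH_of_support_finite _ Z hZ hc hsupp 1 one_pos)
  haveI h2 : Subsingleton (HA (baseHom k X) T.X₃ (⊤ : X.Opens) 2) :=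
    (HHBaseEquiv k T.X₃ 2).toEquiv.subsingleton_congr.1 (subsingleton_HH_of_support_finite _ Z hZ hc hsupp 2 two_pos)
  rw [(HHBaseEquiv k T.X₁ 2).finrank_eq, (HHBaseEquiv k T.X₂ 2).finrank_eq]
  let f := postA (baseHom k X) T.f (⊤ : X.Opens) 2
  have hex := exact_postA (baseHom k X) hT (⊤ : X.Opens) 2
  have hsurj : Function.Surjective f := fun y => (hex y).1 (Subsingleton.elim _ _)
  have hinj : Function.Injective f := by
    rw [← LinearMap.ker_eq_bot, LinearMap.ker_eq_bot']
    intro z hz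
    obtain ⟨w, rfl⟩ := ((exact_deltaA_postA (baseHom k X) hT (⊤ : X.Opens) 1) z).1 hz
    rw [Subsingleton.elim w 0, map_zero]
  exact (LinearEquiv.ofBijective f ⟨hinj, hsurj⟩).finrank_eq

end Seq

variable (k : Type u) [Field k] [IsAlgClosed k]

/-- The cohomology of `I^b(p)` for the ideal `I` of a point of the plane. -/
theorem plane_point_cohomology (x : ↥(CohB1.ProjSpace 2 k)) (hx : IsClosed ({x} : Set ↥(CohB1.ProjSpace 2 k)))
    (p : ℤ) (b : ℕ) :
    let M := CohB1.tensorMod (Twist.twistProjSpace 2 k p)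
      (ClSub.idealMod ((Scheme.IdealSheafData.vanishingIdeal ⟨{x}, hx⟩) ^ b))
    (((b : ℤ) ≤ p + 1 → (Module.finrank k (Coh.HH (CohB1.ProjSpace 2 k) M 0) : ℤ) =
        ((p + 2).toNat.choose 2 : ℤ) - ((b + 1).choose 2 : ℤ)) ∧
      (p + 1 ≤ (b : ℤ) → Module.finrank k (Coh.HH (CohB1.ProjSpace 2 k) M 0) = 0)) ∧
    Module.finrank k (Coh.HH (CohB1.ProjSpace 2 k) M 2) = (-p - 1).toNat.choose 2 ∧
    (Module.finrank k (Coh.HH (CohB1.ProjSpace 2 k) M 1) : ℤ) =
      (Module.finrank k (Coh.HH (CohB1.ProjSpace 2 k) M 0) : ℤ) + ((b + 1).choose 2 : ℤ)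
        - ((p + 2).toNat.choose 2 : ℤ) := by
  intro M
  let P := CohB1.ProjSpace 2 k
  haveI : IsProper (CohB1.ProjSpace 2 k ↘ Spec (CommRingCat.of k)) := Coherent.isProper_projSpace_toSpec (n := 2) (R := k)
  haveI : IsProper (P ↘ Spec (CommRingCat.of k)) := ‹_›
  have hk : CohB1.ProjSpace 2 k ↘ Spec (CommRingCat.of k) = CohB1.ProjSpace.toSpec 2 k := rfl
  haveI := isNoetherian_of_proper k (X := P)
  let I : P.IdealSheafData := Scheme.IdealSheafData.vanishingIdeal ⟨{x}, hx⟩
  have hPc : ∀ z ∈ ({x} : Set P), IsClosed ({z} : Set P) := fun z hz => by rw [Set.mem_singleton_iff.1 hz]; exact hx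
  have hIs : ∀ c : ℕ, ((I ^ c).support : Set P) ⊆ {x} := fun c => by
    cases c with
    | zero => intro y hy; simp at hy
    | succ c =>
      rw [Scheme.IdealSheafData.support_pow_succ]
      exact (Scheme.IdealSheafData.coe_support_vanishingIdeal _).le
  have hLinv : ∀ d : ℤ, PicF.IsInvertible (Twist.twistProjSpace 2 k d) := fun d =>
    TwistLib.G.isInvertible_twist (UPLib.exists_degOne (HypLib.hgen (R := k) 2)) d
  let h : P.Modules → ℕ → ℕ := fun N q => Module.finrank k (Coh.HH P N q)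
  have hvan : ∀ (d : ℤ) (q : ℕ), ¬ (q = 0 ∧ 0 ≤ d) → ¬ (q = 2 ∧ d ≤ -3) → h (Twist.twistProjSpace 2 k d) q = 0 :=
    fun d q h₁ h₂ => by
      haveI := Coherent.subsingleton_HH_twist (n := 2) (R := k) (d := d) q h₁ (by push_cast; omega)
      exact Module.finrank_zero_of_subsingleton
  have heuler : ∀ {N : P.Modules}, Coh.IsQCoh N →
      Curv2.euler k P N = (h N 0 : ℤ) - (h N 1 : ℤ) + (h N 2 : ℤ) := fun {N} hN => by
    haveI := hN
    rw [euler_eq_sum k P N 2 fun q hq => Coherent.subsingleton_HH_projSpace_of_lt N q hq,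
      Finset.sum_range_succ, Finset.sum_range_succ, Finset.sum_range_one]
    simp [h]
    ring
  have hχ : Curv2.euler k P (Twist.twistProjSpace 2 k p) =
      ((p + 2).toNat.choose 2 : ℤ) + ((-p - 1).toNat.choose 2 : ℤ) := by
    haveI : Coh.IsQCoh (Twist.twistProjSpace 2 k p) := Coherent.isQCoh_twistProjSpace p
    rw [← choose_two_int, euler_eq_sum k P _ 2 fun q hq => Coherent.subsingleton_HH_projSpace_of_lt _ q hq]
    exact S4466.result k 2 two_pos p
  have hL1 : h (Twist.twistProjSpace 2 k p) 1 = 0 := hvan p 1 (by simp) (by simp)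
  have hL02 : (h (Twist.twistProjSpace 2 k p) 0 : ℤ) = ((p + 2).toNat.choose 2 : ℤ) ∧
      (h (Twist.twistProjSpace 2 k p) 2 : ℤ) = ((-p - 1).toNat.choose 2 : ℤ) := by
    have he := (heuler (Coherent.isQCoh_twistProjSpace (n := 2) (R := k) p)).symm.trans hχ
    rw [hL1] at he
    rcases lt_or_ge p 0 with hp | hp
    · have h0 := hvan p 0 (by omega) (by simp)
      have : (p + 2).toNat.choose 2 = 0 := Nat.choose_eq_zero_of_lt (by omega)
      omega
    · have h2 := hvan p 2 (by simp) (by omega)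
      have : (-p - 1).toNat.choose 2 = 0 := Nat.choose_eq_zero_of_lt (by omega)
      omega
  -- the sequences
  let T : ℕ → ShortComplex P.Modules := fun c => twistSeq (ShortComplex.mk (ClSub.idealModι (I ^ c))
    (ClSub.toSubscheme (I ^ c)) (kernel.condition (ClSub.toSubscheme (I ^ c)))) (Twist.twistProjSpace 2 k p)
  have hT : ∀ c, (T c).ShortExact := fun c => twistSeq_shortExact (hLinv p) (CurveRR24.shortExact_ideal _)
  have hcoh : ∀ c, Coh.IsCoh (T c).X₁ ∧ Coh.IsCoh (T c).X₂ ∧ Coh.IsCoh (T c).X₃ := fun c =>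
    ⟨isCoh_twist (hLinv p) (CurveRR24.isCoh_idealMod' (I ^ c)), isCoh_twist (hLinv p) (isCoh_structureModule P),
      isCoh_twist (hLinv p) (CurveRR24.isCoh_quotMod _)⟩
  have hsupp : ∀ c, CohB1.support (T c).X₃ ⊆ {x} := fun c => by
    rw [show CohB1.support (T c).X₃ = CohB1.support (ClSub.quotMod (I ^ c)) from EulerLib.support_twist (hLinv p) _]
    exact (CurveRR24.support_quotMod_subset _).trans (hIs c)
  have e1 : ∀ c q, h (T c).X₁ q = h (CohB1.tensorMod (Twist.twistProjSpace 2 k p) (ClSub.idealMod (I ^ c))) q :=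
    fun c q => CurveRR24.finrank_HH_congr k (tensorComm _ _) q
  have e2 : ∀ c q, h (T c).X₂ q = h (Twist.twistProjSpace 2 k p) q :=
    fun c q => CurveRR24.finrank_HH_congr k (unitTensorIso _) q
  have hχM : ∀ c, Curv2.euler k P (T c).X₁ =
      Curv2.euler k P (Twist.twistProjSpace 2 k p) - ((c + 1).choose 2 : ℤ) := fun c => by
    refine (EulerLib.euler_congr k P (tensorComm (ClSub.idealMod (I ^ c)) (Twist.twistProjSpace 2 k p))).trans ?_
    exact BlowUpPlane.euler_twist_pointPow k hk x hx (hLinv p) c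
  have hQ : ∀ c, h (T c).X₃ 0 = (c + 1).choose 2 := fun c => by
    have hadd := euler_additive k P (T c) (hT c) (hcoh c).1 (hcoh c).2.1 (hcoh c).2.2
    rw [hχM c, show Curv2.euler k P (T c).X₂ = Curv2.euler k P (Twist.twistProjSpace 2 k p) from
      EulerLib.euler_congr k P (unitTensorIso (Twist.twistProjSpace 2 k p)), heuler (hcoh c).2.2.1] at hadd
    have hq : ∀ q, 0 < q → h (T c).X₃ q = 0 := fun q hq => by
      haveI := subsingleton_HH_of_support_finite (T c).X₃ {x} (Set.finite_singleton x) hPc (hsupp c) q hq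
      exact Module.finrank_zero_of_subsingleton
    rw [hq 1 one_pos, hq 2 two_pos] at hadd
    omega
  have h2 : ∀ c, h (T c).X₁ 2 = h (Twist.twistProjSpace 2 k p) 2 := fun c =>
    (h2_eq_of_finite_support k (hT c) {x} (Set.finite_singleton x) hPc (hsupp c)).trans (e2 c 2)
  -- sections lift up to order `p + 1`
  have hh0 : ∀ c : ℕ, 0 ≤ p → (c : ℤ) ≤ p + 1 →
      h (Twist.twistProjSpace 2 k p) 0 = h (T c).X₁ 0 + (c + 1).choose 2 := by
    intro c hp hc
    obtain ⟨n, rfl⟩ := Int.eq_ofNat_of_zero_le hp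
    let H := (Scheme.Modules.pullback (𝟙 P)).obj (GrTwist.twist (CohB1.polyGrading 2 k) ((1 : ℕ) : ℤ))
    have hO1 := TwistLib.G.isInvertible_twist (UPLib.exists_degOne (HypLib.hgen (R := k) 2)) ((1 : ℕ) : ℤ)
    have hH : PicF.IsInvertible H := PicLoc.isInvertible_pullback (𝟙 P) hO1
    obtain ⟨t, ht⟩ := exists_forms_through (𝟙 P) ((Category.id_comp _).trans hk.symm) hx
    obtain ⟨U, hxU, g, y, hg, hty, hy⟩ := ht x
    obtain ⟨q, hq, hqx⟩ := UPLib.exists_degOne (HypLib.hgen (R := k) 2) x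
    have ht₀ : x ∈ glocus H (PicLib.pullSec (𝟙 P) (UPLib.sec q hq)) :=
      (UPLib.preimage_basicOpen_eq (HypLib.hgen 2) (𝟙 P) hq).ge hqx
    have hjet := exists_jet k hx hxU hg t y hty hy ht₀ n
    obtain ⟨α⟩ : Nonempty (CohB1.tensorPow H n ≅ Twist.twistProjSpace 2 k (n : ℤ)) := by
      obtain ⟨β⟩ := TwistLib.G.nonempty_twist_pow_iso (𝒜 := CohB1.polyGrading 2 k)
        (UPLib.exists_degOne (HypLib.hgen (R := k) 2)) n
      have h1 : PicM.of hH = PicM.of hO1 :=
        (PicM.of_eq_iff hH hO1).2 ⟨(Scheme.Modules.pullbackId P).app _⟩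
      refine (PicM.of_eq_iff (isInvertible_tensorPow hH n) (hLinv _)).1 ?_
      rw [PicM.of_tensorPow hH n, h1]
      exact (PicM.of_tensorPow hO1 n).symm.trans ((PicM.of_eq_iff (isInvertible_tensorPow hO1 n) (hLinv _)).2 ⟨β.symm⟩)
    let T' := twistSeq (ShortComplex.mk (ClSub.idealModι (I ^ c))
      (ClSub.toSubscheme (I ^ c)) (kernel.condition (ClSub.toSubscheme (I ^ c)))) (CohB1.tensorPow H n)
    have hLn := isInvertible_tensorPow hH n
    have hsurj := surjective_toQuot k hx hH hxU hg hjet (I ^ c) (hIs c) (by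
      rw [Scheme.IdealSheafData.ideal_pow, Pi.pow_apply]
      exact Ideal.pow_le_pow_right (by omega))
    have hadd := h0_add_of_surjective k (S := T')
      (twistSeq_shortExact hLn (CurveRR24.shortExact_ideal _))
      (isCoh_twist hLn (CurveRR24.isCoh_idealMod' (I ^ c))) (isCoh_twist hLn (isCoh_structureModule P)) hsurj
    rw [show Module.finrank k (Coh.HH P T'.X₁ 0) = h (T c).X₁ 0 from
        CurveRR24.finrank_HH_congr k (AmpleLib.tensorIso (Iso.refl _) α) 0,
      show Module.finrank k (Coh.HH P T'.X₃ 0) = h (T c).X₃ 0 from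
        CurveRR24.finrank_HH_congr k (AmpleLib.tensorIso (Iso.refl _) α) 0,
      show Module.finrank k (Coh.HH P T'.X₂ 0) = h (Twist.twistProjSpace 2 k (n : ℤ)) 0 from
        CurveRR24.finrank_HH_congr k (unitTensorIso _ ≪≫ α) 0, hQ c] at hadd
    exact hadd
  have hle : ∀ c, h (T c).X₁ 0 ≤ h (Twist.twistProjSpace 2 k p) 0 := fun c => by
    haveI := CurveRR24.finite_HH_of_isCoh k (hcoh c).2.1 0
    haveI := (hT c).mono_f
    exact ((SerreDual.finrank_h0_le_of_mono (k := k) (T c).f).2).trans (e2 c 0).le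
  have hz : p + 1 ≤ (b : ℤ) → h (T b).X₁ 0 = 0 := by
    intro hb
    rcases lt_or_ge p 0 with hp | hp
    · have := hle b
      have := hvan p 0 (by omega) (by simp)
      omega
    · obtain ⟨n, rfl⟩ := Int.eq_ofNat_of_zero_le hp
      obtain ⟨φ, hφ⟩ := exists_idealMod_mono (A := I ^ b) (B := I ^ (n + 1)) (by
        intro U
        rw [Scheme.IdealSheafData.ideal_pow, Scheme.IdealSheafData.ideal_pow, Pi.pow_apply, Pi.pow_apply]
        exact Ideal.pow_le_pow_right (by omega))
      haveI : Mono (tensorMap φ (𝟙 (Twist.twistProjSpace 2 k (n : ℤ)))) := EulerLib.mono_tensorMap (hLinv _) φ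
      haveI : Module.Finite k (Coh.HH P (CohB1.tensorMod (ClSub.idealMod (I ^ (n + 1))) (Twist.twistProjSpace 2 k (n : ℤ))) 0) :=
        CurveRR24.finite_HH_of_isCoh k (hcoh (n + 1)).1 0
      have hm : h (T b).X₁ 0 ≤ h (T (n + 1)).X₁ 0 :=
        (SerreDual.finrank_h0_le_of_mono (k := k) (tensorMap φ (𝟙 (Twist.twistProjSpace 2 k (n : ℤ))))).2
      have h0 := hh0 (n + 1) (by omega) (by omega)
      rw [show n + 1 + 1 = n + 2 from rfl] at h0
      have hn := hL02.1
      rw [show ((n : ℤ) + 2).toNat = n + 2 by omega] at hn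
      omega
  have hM1 := hχM b
  rw [heuler (hcoh b).1.1, hχ, h2 b] at hM1
  have hM2 : h (T b).X₁ 2 = h M 2 := e1 b 2
  have hM0 : h (T b).X₁ 0 = h M 0 := e1 b 0
  have hM1' : h (T b).X₁ 1 = h M 1 := e1 b 1
  rw [h2 b] at hM2
  refine ⟨⟨fun hb => ?_, fun hb => hM0.symm.trans (hz hb)⟩, ?_, ?_⟩
  · show (h M 0 : ℤ) = _
    rcases lt_or_ge p 0 with hp | hp
    · have hb0 : b = 0 := by omega
      have := hz (by omega)
      have : (p + 2).toNat.choose 2 = 0 := Nat.choose_eq_zero_of_lt (by omega)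
      subst hb0
      simp only [Nat.choose_eq_zero_of_lt (show 0 + 1 < 2 by norm_num)]
      omega
    · have := hh0 b hp hb
      omega
  · show h M 2 = _
    omega
  · show (h M 1 : ℤ) = (h M 0 : ℤ) + _ - _
    omega

end Groth.Agent.SurfBl13
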