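import Groth.Agent.SurfBl13.Point
import Groth.Agent.SDiv28.BlowUp

/-!
# Modules trivial on the exceptional divisor of a blow-up in finitely many smooth points
-/

set_option autoImplicit false
set_option linter.style.haveILetI false
set_option backward.isDefEq.respectTransparency.types false
set_option maxHeartbeats 1000000

universe u

open CategoryTheory CategoryTheory.Limits AlgebraicGeometry TopologicalSpace Opposite
open Groth.Agent.Coherent Groth.Agent.PicLib Groth.Agent.AmpleLib

namespace Groth.Agent.SurfBl13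

/-- Finitely many closed points of a smooth surface. -/
theorem points_range {k : Type u} [Field k] (S : Scheme.{u}) [S.Over (Spec (CommRingCat.of k))]
    [SmoothOfRelativeDimension 2 (S ↘ Spec (CommRingCat.of k))] {s : ℕ} (P : Fin s → S)
    (hPc : ∀ i, IsClosed ({P i} : Set S)) (hZ : IsClosed (Set.range P)) : Points (⟨Set.range P, hZ⟩ : Closeds S) := by
  rintro _ ⟨i, rfl⟩
  obtain ⟨h1, h2⟩ := regular_of_surface k (S ↘ Spec (CommRingCat.of k)) (P i) (hPc i)
  refine ⟨hPc i, ?_, h1, h2⟩
  show IsClosed (Set.range P \ {P i})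
  have hfin : (Set.range P \ {P i}).Finite := (Set.finite_range P).subset Set.sdiff_subset
  have := hfin.isClosed_biUnion (f := fun w : S => ({w} : Set S)) fun w hw => by
    obtain ⟨⟨j, rfl⟩, -⟩ := hw
    exact hPc j
  rwa [Set.biUnion_of_singleton] at this

variable {S : Scheme.{u}} [IsLocallyNoetherian S] {Z : Closeds S} {X : Scheme.{u}} (b : X ⟶ S)

/-- A point outside the centre has a neighbourhood whose preimage carries a frame. -/
theorem exists_frame_off (hb : BlowUp.IsBlowUp b (Scheme.IdealSheafData.vanishingIdeal Z)) {F : X.Modules}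
    (hF : FlatMod.IsFinLocFree F) (x : S) (hx : x ∉ Z) :
    ∃ (U : S.Opens) (J : Type u) (_ : Fintype J) (t : J → Γ(F, b ⁻¹ᵁ U)),
      x ∈ U ∧ IsAffineOpen U ∧ IsBasisOn F (b ⁻¹ᵁ U) t := by
  haveI := isProper_blowUp b hb
  let U₀ : S.Opens := ⟨(Z : Set S)ᶜ, Z.isClosed.isOpen_compl⟩
  haveI : IsIso (b ∣_ U₀) := by
    have := SDiv28.isIso_off_center hb
    have e : (Scheme.IdealSheafData.vanishingIdeal Z).support.compl = U₀ :=
      Opens.ext (congrArg (·ᶜ) (Scheme.IdealSheafData.coe_support_vanishingIdeal Z))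
    exact e ▸ this
  let y : X := (b ⁻¹ᵁ U₀).ι ((inv (b ∣_ U₀)) ⟨x, hx⟩)
  have hby : b y = x := by
    rw [← Scheme.Hom.comp_apply, ← morphismRestrict_ι, Scheme.Hom.comp_apply, ← Scheme.Hom.comp_apply (inv _),
      IsIso.inv_hom_id]
    rfl
  have huniq : ∀ y', b y' = x → y' = y := fun y' hy' => by
    have hy0 : y' ∈ b ⁻¹ᵁ U₀ := show b y' ∈ U₀ from hy' ▸ hx
    have h1 : (b ∣_ U₀) ⟨y', hy0⟩ = (⟨x, hx⟩ : U₀.toScheme) :=
      U₀.ι.isOpenEmbedding.injective (by
        rw [← Scheme.Hom.comp_apply, morphismRestrict_ι, Scheme.Hom.comp_apply]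
        exact hy')
    show y' = (b ⁻¹ᵁ U₀).ι _
    rw [← h1, ← Scheme.Hom.comp_apply (b ∣_ U₀), IsIso.hom_inv_id]
    rfl
  obtain ⟨W, n, e, hyW, he⟩ := exists_isBasisOn hF y
  obtain ⟨U, hxU, hle⟩ := exists_affine_preimage_le b x W fun y' hy' => huniq y' hy' ▸ hyW
  exact ⟨U.1, _, inferInstance, _, hxU, U.2, FlatMor12.FreeCharts.isBasisOn_res he hle⟩

/-- A module trivial on the exceptional divisor descends. -/
theorem counit_of_trivial (h : Points Z) (hb : BlowUp.IsBlowUp b (Scheme.IdealSheafData.vanishingIdeal Z))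
    {F : X.Modules} (hF : FlatMod.IsFinLocFree F) {r : ℕ}
    (e : (Scheme.Modules.pullback ((Scheme.IdealSheafData.vanishingIdeal Z).comap b).subschemeι).obj F ≅
      FlatMod.freeMod ((Scheme.IdealSheafData.vanishingIdeal Z).comap b).subscheme r) :
    FlatMod.IsFinLocFree ((Scheme.Modules.pushforward b).obj F) ∧
      IsIso ((Scheme.Modules.pullbackPushforwardAdjunction b).counit.app F) := by
  haveI := isProper_blowUp b hb
  haveI : Coh.IsQCoh F := (CohBC.isCoh_of_isFinLocFree hF).1
  refine finLocFree_and_isIso_counit b (bijective_app_blowUp b hb h) F fun x => ?_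
  by_cases hx : x ∈ Z
  · obtain ⟨V, t, hV, ht⟩ := exists_frame_nhd b h hb hF x hx _ (fun U _ _ => rfl) e
    obtain ⟨U, hxU, hle⟩ := exists_affine_preimage_le b x V hV
    exact ⟨U.1, _, inferInstance, _, hxU, U.2, FlatMor12.FreeCharts.isBasisOn_res ht hle⟩
  · exact exists_frame_off b hb hF x hx

end Groth.Agent.SurfBl13
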