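import Groth.Agent.SurfBl13.Push
import Groth.Agent.SurfBl13.EndPush
import Groth.Agent.Canon15.TopDiff

/-!
# Rank of the direct image and the comparison of cohomology
-/

set_option autoImplicit false
set_option linter.style.haveILetI false
set_option backward.isDefEq.respectTransparency.types false
set_option maxHeartbeats 1000000

universe u

open CategoryTheory CategoryTheory.Abelian CategoryTheory.Limits AlgebraicGeometry TopologicalSpace Opposite
open Groth.Agent.Coherent Groth.Agent.PicLib Groth.Agent.AmpleLib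

namespace Groth.Agent.SurfBl13

variable {S : Scheme.{u}} [IsLocallyNoetherian S] {Z : Closeds S} {X : Scheme.{u}} (b : X ⟶ S)

/-- A point of dimension two is not the generic point. -/
theorem genericPoint_notMem [IsIntegral S] (h : Points Z) : genericPoint S ∉ Z := fun hmem => by
  obtain ⟨-, -, -, hd⟩ := h _ hmem
  have : IsField (S.presheaf.stalk (genericPoint S)) := (inferInstance : Field S.functionField).toIsField
  rw [ringKrullDim_eq_zero_of_isField this] at hd
  exact absurd hd (by decide)

/-- The direct image of a bundle of rank `r` has rank `r` when it is locally free. -/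
theorem isFinLocFreeOfRank_push [IsIntegral S] (h : Points Z)
    (hb : BlowUp.IsBlowUp b (Scheme.IdealSheafData.vanishingIdeal Z)) {V : X.Modules} {r : ℕ}
    (hV : FlatMod.IsFinLocFreeOfRank r V) (hN : FlatMod.IsFinLocFree ((Scheme.Modules.pushforward b).obj V)) :
    FlatMod.IsFinLocFreeOfRank r ((Scheme.Modules.pushforward b).obj V) := by
  classical
  intro x
  obtain ⟨U, n, e, hxU, he⟩ := exists_isBasisOn hN x
  suffices hnr : n = r by
    subst hnr
    exact ⟨U, hxU, FinCovLib29.nonempty_iso_of_isBasisOn he⟩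
  have hηU : genericPoint S ∈ U :=
    ((genericPoint_spec S).specializes trivial).mem_open U.2 hxU
  have hV' : FlatMod.IsFinLocFree V := fun y => by
    obtain ⟨O, hyO, hO⟩ := hV y
    exact ⟨O, r, hyO, hO⟩
  have hηZ := genericPoint_notMem h
  obtain ⟨U', I, hI, t, hηU', -, ht⟩ := exists_frame_off b hb hV' _ hηZ
  let N := (Scheme.Modules.pushforward b).obj V
  have ht' : IsBasisOn N U' (fun j => (show Γ(N, U') from t j)) := by
    intro O hO
    refine Eq.mpr (congrArg Function.Bijective (funext fun a => ?_))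
      ((ht ((Opens.map b.base).map (homOfLE hO)).le).comp
        (Function.Bijective.piMap fun _ : I => bijective_app_blowUp b hb h O))
    rfl
  have h1 : Fintype.card (ULift.{u} (Fin n)) = Fintype.card I :=
    FlatMor12.FreeCharts.card_eq_of_isBasisOn he ht' (inf_le_left : U ⊓ U' ≤ U) inf_le_right
      (p := genericPoint S) ⟨hηU, hηU'⟩
  haveI := isProper_blowUp b hb
  let U₀ : S.Opens := (Scheme.IdealSheafData.vanishingIdeal Z).support.compl
  haveI : IsIso (b ∣_ U₀) := SDiv28.isIso_off_center hb
  have hη0 : genericPoint S ∈ U₀ := fun h' => hηZ ((Scheme.IdealSheafData.coe_support_vanishingIdeal Z).le h')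
  obtain ⟨y, hy⟩ := (b ∣_ U₀).surjective ⟨genericPoint S, hη0⟩
  have hby : b y.1 = genericPoint S := by rw [← morphismRestrict_base_coe b U₀ y, hy]
  obtain ⟨O, e', hyO, he'⟩ := Canon15.exists_isBasisOn_rank hV y.1
  have h2 : Fintype.card I = Fintype.card (ULift.{u} (Fin r)) :=
    FlatMor12.FreeCharts.card_eq_of_isBasisOn ht he' (inf_le_left : b ⁻¹ᵁ U' ⊓ O ≤ b ⁻¹ᵁ U') inf_le_right
      (p := y.1) ⟨show b y.1 ∈ U' from hby ▸ hηU', hyO⟩
  simpa using h1.trans h2

/-- Cohomology is unchanged by the direct image when the first cohomology on the exceptional divisor vanishes. -/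
theorem nonempty_HH_equiv_of_H1 (h : Points Z) (hb : BlowUp.IsBlowUp b (Scheme.IdealSheafData.vanishingIdeal Z))
    (k : Type u) [Field k] [S.Over (Spec (CommRingCat.of k))] [X.Over (Spec (CommRingCat.of k))]
    (hk : b ≫ (S ↘ Spec (CommRingCat.of k)) = X ↘ Spec (CommRingCat.of k)) {V : X.Modules}
    (hV : FlatMod.IsFinLocFree V) [HasInjectiveResolutions X.Modules]
    (h1 : Subsingleton (Coh.HH ((Scheme.IdealSheafData.vanishingIdeal Z).comap b).subscheme
      ((Scheme.Modules.pullback ((Scheme.IdealSheafData.vanishingIdeal Z).comap b).subschemeι).obj V) 1)) :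
    (∀ p : ℕ, 1 ≤ p → IsZero ((Coh.Rpush b p).obj V)) ∧
      ∀ p : ℕ, Nonempty (Coh.HH X V p ≃ₗ[k] Coh.HH S ((Scheme.Modules.pushforward b).obj V) p) := by
  have hz : ∀ p : ℕ, 1 ≤ p → IsZero ((Coh.Rpush b p).obj V) := fun p hp =>
    isZero_rpush_of_local b h hb hV (fun z U hzZ hzU hiso _ => subsingleton_restrict b (h z hzZ).1 hzU hiso 1 h1) p hp
  refine ⟨hz, fun p => ?_⟩
  haveI := isProper_blowUp b hb
  haveI : Coh.IsQCoh V := (CohBC.isCoh_of_isFinLocFree hV).1
  exact nonempty_HH_push_equiv b k hk V (fun q hq =>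
    (Functor.map_isZero (toAbFunctor S) (hz q hq)).of_iso ((toAbRpushNatIso b q).app V).symm) p

end Groth.Agent.SurfBl13
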