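import Groth.Agent.SurfBl13.Pencil
import Groth.Agent.SurfBl13.Rank
import Groth.Agent.SurfBl13.R1Euler
import Groth.Agent.SurfBl13.PlanePoint
import Groth.Agent.S15868
import Groth.Agent.Resolve13.CurveBlowUp
import Groth.Agent.KLLib.Basic

/-!
# Line bundles `pH + bE` on the plane blown up at a point
-/

set_option autoImplicit false
set_option linter.unusedSectionVars false
set_option linter.style.haveILetI false
set_option backward.isDefEq.respectTransparency.types false
set_option maxHeartbeats 4000000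

universe u

open CategoryTheory CategoryTheory.Limits AlgebraicGeometry TopologicalSpace Opposite
open Groth.Agent.Coherent Groth.Agent.PicLib Groth.Agent.AmpleLib Groth.Agent.EulerLib Groth.Agent.CurveRR24

namespace Groth.Agent.SurfBl13

section Les

variable (k : Type u) [Field k] {X : Scheme.{u}} [X.Over (Spec (CommRingCat.of k))]
  [IsProper (X ↘ Spec (CommRingCat.of k))] {T : ShortComplex X.Modules}

/-- `H^{q+1}` is injective when the quotient has no `H^q`. -/
theorem finrank_le_of_quot (hT : T.ShortExact) (h₂ : Coh.IsCoh T.X₂) (q : ℕ)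
    (h : Subsingleton (Coh.HH X T.X₃ q)) :
    Module.finrank k (Coh.HH X T.X₁ (q + 1)) ≤ Module.finrank k (Coh.HH X T.X₂ (q + 1)) := by
  haveI : Subsingleton (HA (baseHom k X) T.X₃ (⊤ : X.Opens) q) := (HHBaseEquiv k T.X₃ q).toEquiv.subsingleton_congr.1 h
  haveI := finCoh_of_isProper (X ↘ Spec (CommRingCat.of k)) _ h₂ (q + 1)
  rw [(HHBaseEquiv k T.X₁ (q + 1)).finrank_eq, (HHBaseEquiv k T.X₂ (q + 1)).finrank_eq]
  refine LinearMap.finrank_le_finrank_of_injective (f := postA (baseHom k X) T.f (⊤ : X.Opens) (q + 1)) ?_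
  rw [← LinearMap.ker_eq_bot, LinearMap.ker_eq_bot']
  intro z hz
  obtain ⟨w, rfl⟩ := ((exact_deltaA_postA (baseHom k X) hT (⊤ : X.Opens) q) z).1 hz
  rw [Subsingleton.elim w 0, map_zero]

/-- `H^q` is surjective when the quotient has no `H^q`. -/
theorem finrank_ge_of_quot (hT : T.ShortExact) (h₁ : Coh.IsCoh T.X₁) (q : ℕ)
    (h : Subsingleton (Coh.HH X T.X₃ q)) :
    Module.finrank k (Coh.HH X T.X₂ q) ≤ Module.finrank k (Coh.HH X T.X₁ q) := by
  haveI : Subsingleton (HA (baseHom k X) T.X₃ (⊤ : X.Opens) q) := (HHBaseEquiv k T.X₃ q).toEquiv.subsingleton_congr.1 h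
  haveI := finCoh_of_isProper (X ↘ Spec (CommRingCat.of k)) _ h₁ q
  rw [(HHBaseEquiv k T.X₁ q).finrank_eq, (HHBaseEquiv k T.X₂ q).finrank_eq]
  let f := postA (baseHom k X) T.f (⊤ : X.Opens) q
  have hs : Function.Surjective f := fun y => (exact_postA (baseHom k X) hT (⊤ : X.Opens) q y).1 (Subsingleton.elim _ _)
  rw [← finrank_top k (HA (baseHom k X) T.X₂ (⊤ : X.Opens) q), ← LinearMap.range_eq_top.2 hs]
  exact LinearMap.finrank_range_le f

include k in
/-- The quotient of two acyclic modules is acyclic. -/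
theorem subsingleton_quot (hT : T.ShortExact) (q : ℕ) (h₂ : Subsingleton (Coh.HH X T.X₂ q))
    (h₁ : Subsingleton (Coh.HH X T.X₁ (q + 1))) : Subsingleton (Coh.HH X T.X₃ q) := by
  haveI : Subsingleton (HA (baseHom k X) T.X₂ (⊤ : X.Opens) q) := (HHBaseEquiv k T.X₂ q).toEquiv.subsingleton_congr.1 h₂
  haveI : Subsingleton (HA (baseHom k X) T.X₁ (⊤ : X.Opens) (q + 1)) :=
    (HHBaseEquiv k T.X₁ (q + 1)).toEquiv.subsingleton_congr.1 h₁
  refine (HHBaseEquiv k T.X₃ q).toEquiv.subsingleton_congr.2 (subsingleton_of_forall_eq 0 fun z => ?_)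
  obtain ⟨w, rfl⟩ := ((exact_postA_deltaA (baseHom k X) hT (⊤ : X.Opens) q) z).1 (Subsingleton.elim _ _)
  rw [Subsingleton.elim w 0, map_zero]

theorem subsingleton_iff_finrank {M : X.Modules} (hM : Coh.IsCoh M) (q : ℕ) :
    Subsingleton (Coh.HH X M q) ↔ Module.finrank k (Coh.HH X M q) = 0 := by
  haveI := CurveRR24.finite_HH_of_isCoh k hM q
  exact Module.finrank_zero_iff.symm

end Les

variable (k : Type u) [Field k] [IsAlgClosed k] {X : Scheme.{u}} [X.Over (Spec (CommRingCat.of k))]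

/-- The cohomology of `pH + bE` on the plane blown up at a point. -/
theorem planeBlow_cohomology (σ : X ⟶ CohB1.ProjSpace 2 k) (x : ↥(CohB1.ProjSpace 2 k))
    (hx : IsClosed ({x} : Set ↥(CohB1.ProjSpace 2 k)))
    (hσk : σ ≫ CohB1.ProjSpace.toSpec 2 k = X ↘ Spec (CommRingCat.of k))
    (hσ : BlowUp.IsBlowUp σ (Scheme.IdealSheafData.vanishingIdeal ⟨{x}, hx⟩))
    (hpts : Points (⟨{x}, hx⟩ : Closeds (CohB1.ProjSpace 2 k)))
    (hline : ∃ (K : Type u) (_ : Field K) (e : CohB1.ProjSpace 1 K ≅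
        ((Scheme.IdealSheafData.vanishingIdeal ⟨{x}, hx⟩).comap σ).subscheme),
      Models7.P1Deg.HasDeg e ((Scheme.Modules.pullback
        ((Scheme.IdealSheafData.vanishingIdeal ⟨{x}, hx⟩).comap σ).subschemeι).obj
        (ClSub.idealMod ((Scheme.IdealSheafData.vanishingIdeal ⟨{x}, hx⟩).comap σ))) 1)
    (L : X.Modules) (hL : ClSub.IsInverseOf L (ClSub.idealMod ((Scheme.IdealSheafData.vanishingIdeal ⟨{x}, hx⟩).comap σ)))
    (p : ℤ) (b : ℕ) :
    let h := fun q : ℕ => Module.finrank k (Coh.HH X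
      (CohB1.tensorMod ((Scheme.Modules.pullback σ).obj (Twist.twistProjSpace 2 k p)) (CohB1.tensorPow L b)) q)
    h 0 = (p + 2).toNat.choose 2 ∧
      (h 0 : ℤ) - h 1 + h 2 = ((p + 2).toNat.choose 2 : ℤ) + ((-p - 1).toNat.choose 2 : ℤ) - (b.choose 2 : ℤ) ∧
      (-1 ≤ p + b → h 2 = 0) ∧ (p + b ≤ -1 → h 1 = 0) := by
  classical
  intro h
  let P := CohB1.ProjSpace 2 k
  haveI : IsProper (CohB1.ProjSpace 2 k ↘ Spec (CommRingCat.of k)) := Coherent.isProper_projSpace_toSpec (n := 2) (R := k)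
  haveI : IsProper σ := isProper_blowUp σ hσ
  haveI : IsProper (X ↘ Spec (CommRingCat.of k)) := by
    rw [← hσk]
    haveI : IsProper (CohB1.ProjSpace.toSpec 2 k) := Coherent.isProper_projSpace_toSpec (n := 2) (R := k)
    infer_instance
  haveI := isNoetherian_of_proper k (X := X)
  haveI := isSeparated_of_proper (X := X) k
  haveI : IsIntegral (CohB1.ProjSpace 2 k) := CurveLib.isIntegral_projSpace k 2
  haveI : IsIntegral X := Resolve13.isIntegral_blowUp hσ fun hgen =>
    genericPoint_notMem hpts ((Scheme.IdealSheafData.coe_support_vanishingIdeal _).le hgen)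
  let E := (Scheme.IdealSheafData.vanishingIdeal ⟨{x}, hx⟩).comap σ
  have hE : BlowUp.IsEffCartierIdeal E := hσ.1
  have hI := FlatMor12.IdealModGen.isInvertible_idealMod E hE
  have hLi : PicF.IsInvertible L := by
    obtain ⟨φ⟩ := hL
    exact PicM.isInvertible_of_tensor hI
      (KLLib.isInvertible_of_iso (tensorComm _ _ ≪≫ φ).symm isInvertible_structureModule)
  have hT : ∀ d : ℤ, PicF.IsInvertible (Twist.twistProjSpace 2 k d) := fun d =>
    TwistLib.G.isInvertible_twist (UPLib.exists_degOne (HypLib.hgen (R := k) 2)) d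
  let τ : ℤ → PicM X := fun d => PicM.pull σ (PicM.of (hT d))
  let lam := PicM.of hLi
  let iot := PicM.of hI
  have hli : lam * iot = 1 := (PicM.of_eq_one_iff (isInvertible_tensorMod hLi hI)).2 hL
  have hτ : ∀ d : ℤ, τ (d + 1) = τ d * τ 1 := fun d => by
    show PicM.pull σ _ = PicM.pull σ _ * PicM.pull σ _
    rw [← map_mul]
    refine congrArg (PicM.pull σ) ((PicM.of_eq_iff (hT (d + 1)) (isInvertible_tensorMod (hT d) (hT 1))).2 ?_)
    exact (TwistLib.G.nonempty_tensor_twist_iso (UPLib.exists_degOne (HypLib.hgen (R := k) 2)) rfl).map Iso.symm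
  let M : ℤ → ℕ → X.Modules := fun d c =>
    CohB1.tensorMod ((Scheme.Modules.pullback σ).obj (Twist.twistProjSpace 2 k d)) (CohB1.tensorPow L c)
  have hM : ∀ d c, PicF.IsInvertible (M d c) := fun d c =>
    isInvertible_tensorMod (PicLoc.isInvertible_pullback σ (hT d)) (isInvertible_tensorPow hLi c)
  have hMcl : ∀ d c, PicM.of (hM d c) = τ d * lam ^ c := fun d c => by
    rw [← PicM.of_mul (PicLoc.isInvertible_pullback σ (hT d)) (isInvertible_tensorPow hLi c), PicM.of_tensorPow hLi c]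
    rfl
  have hMc : ∀ d c, Coh.IsCoh (M d c) := fun d c => CurveRR24.isCoh_of_isInvertible k (hM d c)
  let hh : ℤ → ℕ → ℕ → ℕ := fun d c q => Module.finrank k (Coh.HH X (M d c) q)
  -- the two kinds of sequences
  have hseq : ∀ (J : X.IdealSheafData) (hJ : BlowUp.IsEffCartierIdeal J) (d d' : ℤ) (c c' : ℕ),
      PicM.of (FlatMor12.IdealModGen.isInvertible_idealMod J hJ) * (τ d * lam ^ c) = τ d' * lam ^ c' →
      ∃ T : ShortComplex X.Modules, T.ShortExact ∧ Nonempty (T.X₁ ≅ M d' c') ∧ Nonempty (T.X₂ ≅ M d c) ∧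
        Nonempty (T.X₃ ≅ (Coh.push J.subschemeι).obj ((Scheme.Modules.pullback J.subschemeι).obj (M d c))) ∧
        Coh.IsCoh T.X₁ ∧ Coh.IsCoh T.X₂ ∧ Coh.IsCoh T.X₃ := by
    intro J hJ d d' c c' hcl
    obtain ⟨q⟩ := quot_tensor_iso J (hM d c)
    obtain ⟨r⟩ := (PicM.of_eq_iff (isInvertible_tensorMod (FlatMor12.IdealModGen.isInvertible_idealMod J hJ) (hM d c))
      (hM d' c')).1 (by
        rw [← PicM.of_mul (FlatMor12.IdealModGen.isInvertible_idealMod J hJ) (hM d c), hMcl, hMcl]; exact hcl)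
    exact ⟨twistSeq (ShortComplex.mk (ClSub.idealModι J) (ClSub.toSubscheme J)
        (kernel.condition (ClSub.toSubscheme J))) (M d c),
      twistSeq_shortExact (hM d c) (CurveRR24.shortExact_ideal J), ⟨r⟩, ⟨unitTensorIso _⟩, ⟨q⟩,
      isCoh_twist (hM d c) (CurveRR24.isCoh_idealMod' J), isCoh_twist (hM d c) (isCoh_structureModule X),
      isCoh_twist (hM d c) (CurveRR24.isCoh_quotMod J)⟩
  -- on the exceptional line
  obtain ⟨K, _, e, he⟩ := hline
  haveI : IsIntegral (CohB1.ProjSpace 1 K) := CurveLib.isIntegral_projSpace K 1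
  haveI : Nonempty E.subscheme := ⟨e.hom (Classical.arbitrary _)⟩
  letI : E.subscheme.Over (Spec (CommRingCat.of k)) := ⟨E.subschemeι ≫ (X ↘ Spec (CommRingCat.of k))⟩
  haveI : IsProper (E.subscheme ↘ Spec (CommRingCat.of k)) :=
    inferInstanceAs (IsProper (E.subschemeι ≫ (X ↘ Spec (CommRingCat.of k))))
  haveI : IsIntegral E.subscheme := IsIntegral.of_isIso e.hom
  have hdimE : topologicalKrullDim E.subscheme ≤ 1 := by
    rw [(IsHomeomorph.topologicalKrullDim_eq _ (e.inv.homeomorph).isHomeomorph)]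
    exact (DimLib.PN.topologicalKrullDim_projSpace 1 K).le.trans (by norm_num)
  have hQ : ∀ (d : ℤ) (c : ℕ),
      let Q := (Coh.push E.subschemeι).obj ((Scheme.Modules.pullback E.subschemeι).obj (M d c))
      Curv2.euler k X Q = 1 - (c : ℤ) ∧ (0 < c → Subsingleton (Coh.HH X Q 0)) ∧
        (c ≤ 1 → Subsingleton (Coh.HH X Q 1)) ∧ (∀ q, 1 < q → Subsingleton (Coh.HH X Q q)) := by
    intro d c
    have hN := PicLoc.isInvertible_pullback E.subschemeι (hM d c)
    have hLι := PicLoc.isInvertible_pullback E.subschemeι hLi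
    have hIι := PicLoc.isInvertible_pullback E.subschemeι hI
    have h1 := congrArg (PicM.pull E.subschemeι) hli
    rw [map_mul, map_one] at h1
    obtain ⟨φ⟩ := (PicM.of_eq_one_iff (isInvertible_tensorMod hLι hIι)).1 h1
    have hdL := Models7.P1Deg.HasDeg.inverse e hLι hIι φ he
    obtain ⟨ψ⟩ := (PicM.of_eq_iff hN (isInvertible_tensorPow hLι c)).1 (by
      rw [PicM.of_tensorPow hLι c, ← PicM.pull_of E.subschemeι (hM d c), hMcl d c, map_mul, map_pow,
        pull_fibre_eq_one σ hx, one_mul]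
      rfl)
    have hd : Models7.P1Deg.HasDeg e ((Scheme.Modules.pullback E.subschemeι).obj (M d c)) (-(c : ℤ)) := by
      have h := (hdL.pow e hLι c).of_iso e ψ.symm
      rwa [mul_neg, mul_one] at h
    have hq := isQCoh_of_isInvertible hN
    haveI := hq
    have hpush : ∀ q, Subsingleton (Coh.HH E.subscheme ((Scheme.Modules.pullback E.subschemeι).obj (M d c)) q) →
        Subsingleton (Coh.HH X ((Coh.push E.subschemeι).obj ((Scheme.Modules.pullback E.subschemeι).obj (M d c))) q) :=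
      fun q hs => ((HHAffinePushEquiv E.subschemeι _ q).toEquiv.subsingleton_congr.1 hs)
    refine ⟨?_, fun hc => hpush 0 (subsingleton_sections_of_deg_neg e hN hd (by omega)),
      fun hc => hpush 1 (hd.subsingleton_H1 e hN (by omega)),
      fun q hq1 => hpush q (CurveRR24.subsingleton_HH_ge_two k hdimE _ hq hq1)⟩
    rw [← AbCubeLib.euler_push k E.subschemeι rfl ((Scheme.Modules.pullback E.subschemeι).obj (M d c)),
      euler_line k e hN hd]
    ring
  -- from the plane
  have hP0 : ∀ (d : ℤ) (q : ℕ), hh d 0 q = Module.finrank k (Coh.HH P (Twist.twistProjSpace 2 k d) q) := fun d q => by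
    have hLF : FlatMod.IsFinLocFree (Twist.twistProjSpace 2 k d) := fun y =>
      let ⟨U, hy, e⟩ := PicLib.isFinLocFreeOfRank_one (hT d) y; ⟨U, 1, hy, e⟩
    haveI := isQCoh_of_isInvertible (PicLoc.isInvertible_pullback σ (hT d))
    obtain ⟨⟨η⟩, -⟩ := euler_pullback σ k hσk hpts hσ (hT d)
    obtain ⟨ψ⟩ := nonempty_HH_push_equiv σ k hσk ((Scheme.Modules.pullback σ).obj (Twist.twistProjSpace 2 k d))
      (fun i hi => (BlowUpCoh.isZero_rpushAb_tensor_pullback σ hLF _ i (isZero_rpushAb_structure σ hpts hσ i hi)).of_iso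
        ((Coh.RpushAb σ i).mapIso ((toAbFunctor X).mapIso
          ((tensorComm _ _ ≪≫ unitTensorIso ((Scheme.Modules.pullback σ).obj (Twist.twistProjSpace 2 k d))).symm)))) q
    exact ((CurveRR24.finrank_HH_congr k (show M d 0 ≅ _ from tensorComm _ _ ≪≫ unitTensorIso _) q).trans
      ψ.finrank_eq).trans (CurveRR24.finrank_HH_congr k η q)
  have hvanP : ∀ (d : ℤ) (q : ℕ), ¬ (q = 0 ∧ 0 ≤ d) → ¬ (q = 2 ∧ d ≤ -3) → hh d 0 q = 0 := fun d q h₁ h₂ => by
    haveI := Coherent.subsingleton_HH_twist (n := 2) (R := k) (d := d) q h₁ (by push_cast; omega)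
    rw [hP0]
    exact Module.finrank_zero_of_subsingleton
  have hbase : ∀ d : ℤ, (hh d 0 0 : ℤ) = (d + 2).toNat.choose 2 ∧ (hh d 0 2 : ℤ) = (-d - 1).toNat.choose 2 := fun d => by
    obtain ⟨⟨h0a, h0b⟩, h2, -⟩ := plane_point_cohomology k x hx d 0
    have hone : ∀ q, Module.finrank k (Coh.HH P (CohB1.tensorMod (Twist.twistProjSpace 2 k d)
        (ClSub.idealMod ((Scheme.IdealSheafData.vanishingIdeal ⟨{x}, hx⟩) ^ 0))) q) = hh d 0 q := fun q => by
      rw [hP0]
      have h1 : BlowUp.IsEffCartierIdeal (1 : P.IdealSheafData) := Inters29.isEffCartier_one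
      obtain ⟨φ⟩ := (PicM.of_eq_one_iff (FlatMor12.IdealModGen.isInvertible_idealMod _ h1)).1 Inters29.idealCl_one
      exact CurveRR24.finrank_HH_congr k (tensorComm _ _ ≪≫ AmpleLib.tensorIso
        (eqToIso (congrArg ClSub.idealMod (pow_zero _)) ≪≫ φ) (Iso.refl _) ≪≫ unitTensorIso _) q
    rw [hone] at h2
    refine ⟨?_, by exact_mod_cast h2⟩
    rcases le_or_gt (0 : ℤ) (d + 1) with hd | hd
    · have := h0a (by exact_mod_cast hd)
      rw [hone] at this
      simpa [Nat.choose_eq_zero_of_lt] using this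
    · have := h0b (by push_cast; omega)
      rw [hone] at this
      rw [this, Nat.choose_eq_zero_of_lt (by omega : (d + 2).toNat < 2)]
  -- one step in the exceptional direction
  have hstep : ∀ (d : ℤ) (c : ℕ), hh d (c + 1) 0 = hh d c 0 ∧ hh d c 1 ≤ hh d (c + 1) 1 ∧ hh d (c + 1) 2 ≤ hh d c 2 ∧
      (∀ q, 2 < q → Subsingleton (Coh.HH X (M d c) q) → Subsingleton (Coh.HH X (M d (c + 1)) q)) ∧
      Curv2.euler k X (M d (c + 1)) = Curv2.euler k X (M d c) - (c : ℤ) := by
    intro d c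
    obtain ⟨T, hTs, ⟨e1⟩, ⟨e2⟩, ⟨e3⟩, c1, c2, c3⟩ := hseq E hE d d (c + 1) c (by
      calc iot * (τ d * lam ^ (c + 1)) = (lam * iot) * (τ d * lam ^ c) := by rw [pow_succ]; ac_rfl
        _ = _ := by rw [hli, one_mul])
    obtain ⟨q1, q0, -, q2⟩ := hQ d (c + 1)
    have hq0 : Subsingleton (Coh.HH X T.X₃ 0) := FlatMorStrat.subsingleton_HH_of_iso e3.symm 0 (q0 c.succ_pos)
    have hq2 : ∀ q, 1 < q → Subsingleton (Coh.HH X T.X₃ q) := fun q hq =>
      FlatMorStrat.subsingleton_HH_of_iso e3.symm q (q2 q hq)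
    have a0 := finrank_ge_of_quot k hTs c1 0 hq0
    have a1 := finrank_le_of_quot k hTs c2 0 hq0
    have a2 := finrank_ge_of_quot k hTs c1 2 (hq2 2 one_lt_two)
    haveI := CurveRR24.finite_HH_of_isCoh k c2 0
    haveI := hTs.mono_f
    have b0 := (SerreDual.finrank_h0_le_of_mono (k := k) T.f).2
    have hE' := euler_additive k X T hTs c1 c2 c3
    rw [EulerLib.euler_congr k X e1, EulerLib.euler_congr k X e2, EulerLib.euler_congr k X e3, q1] at hE'
    simp only [CurveRR24.finrank_HH_congr k e1, CurveRR24.finrank_HH_congr k e2] at a0 a1 a2 b0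
    refine ⟨le_antisymm a0 b0, a1, a2, fun q hq hs => ?_, by push_cast at hE' ⊢; linarith⟩
    have hq' := finrank_ge_of_quot k hTs c1 q (hq2 q (by omega))
    simp only [CurveRR24.finrank_HH_congr k e1, CurveRR24.finrank_HH_congr k e2] at hq'
    rw [(subsingleton_iff_finrank k (hMc d c) q).1 hs] at hq'
    exact (subsingleton_iff_finrank k (hMc d (c + 1)) q).2 (Nat.le_zero.1 hq')
  have hvan3 : ∀ (d : ℤ) (c q : ℕ), 2 < q → Subsingleton (Coh.HH X (M d c) q) := by
    intro d c q hq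
    induction c with
    | zero =>
      exact (subsingleton_iff_finrank k (hMc d 0) q).2 (hvanP d q (by omega) (by omega))
    | succ c ih => exact (hstep d c).2.2.2.1 q hq ih
  have hmain : ∀ (d : ℤ) (c : ℕ), hh d c 0 = hh d 0 0 ∧
      Curv2.euler k X (M d c) = Curv2.euler k X (M d 0) - (c.choose 2 : ℤ) := by
    intro d c
    induction c with
    | zero => simp
    | succ c ih =>
      obtain ⟨s0, -, -, -, sχ⟩ := hstep d c
      refine ⟨s0.trans ih.1, ?_⟩
      rw [sχ, ih.2, Nat.choose_succ_succ' c 1, Nat.choose_one_right]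
      push_cast; ring
  have hsum : ∀ (d : ℤ) (c : ℕ), Curv2.euler k X (M d c) = (hh d c 0 : ℤ) - hh d c 1 + hh d c 2 := fun d c => by
    rw [euler_eq_sum k X _ 2 fun q hq => hvan3 d c q hq, Finset.sum_range_succ, Finset.sum_range_succ,
      Finset.sum_range_one]
    simp [hh]
    ring
  -- along the pencil
  obtain ⟨C, hC, hC1, hC2⟩ := exists_residual_curve k σ hx hE (hT 1)
  let γ := PicM.of (FlatMor12.IdealModGen.isInvertible_idealMod C hC)
  have hγ : γ * τ 1 = lam := by
    have h : (iot * τ 1) * γ = 1 := hC1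
    calc γ * τ 1 = (lam * iot) * (γ * τ 1) := by rw [hli, one_mul]
      _ = lam * ((iot * τ 1) * γ) := by ac_rfl
      _ = lam := by rw [h, mul_one]
  have hγC : PicM.pull C.subschemeι γ = 1 := by
    have h := congrArg (PicM.pull C.subschemeι) (show (iot * τ 1) * γ = 1 from hC1)
    rwa [map_mul, show PicM.pull C.subschemeι (iot * τ 1) = 1 from hC2, one_mul, map_one] at h
  have hpen : ∀ (d : ℤ) (c : ℕ), γ * (τ (d + 1) * lam ^ c) = τ d * lam ^ (c + 1) := fun d c => by
    rw [hτ d, pow_succ]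
    calc γ * (τ d * τ 1 * lam ^ c) = (γ * τ 1) * (τ d * lam ^ c) := by ac_rfl
      _ = _ := by rw [hγ]; ac_rfl
  let QC : ℤ → ℕ → X.Modules := fun d c =>
    (Coh.push C.subschemeι).obj ((Scheme.Modules.pullback C.subschemeι).obj (M d c))
  have hQC : ∀ (d : ℤ) (c : ℕ), Nonempty (QC d (c + 1) ≅ QC (d + 1) c) := fun d c => by
    have hA := PicLoc.isInvertible_pullback C.subschemeι (hM d (c + 1))
    have hB := PicLoc.isInvertible_pullback C.subschemeι (hM (d + 1) c)
    refine ((PicM.of_eq_iff hA hB).1 ?_).map (Coh.push C.subschemeι).mapIso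
    rw [← PicM.pull_of C.subschemeι (hM d (c + 1)), ← PicM.pull_of C.subschemeι (hM (d + 1) c), hMcl, hMcl,
      ← hpen d c, map_mul, hγC, one_mul]
  have hacy : ∀ c : ℕ, ∀ q, Subsingleton (Coh.HH X (M (-1 - (c : ℤ)) c) q) := by
    have h0 : ∀ q, Subsingleton (Coh.HH X (M (-1) 0) q) := fun q =>
      (subsingleton_iff_finrank k (hMc _ _) q).2 (hvanP (-1) q (by omega) (by omega))
    have h1 : ∀ q, Subsingleton (Coh.HH X (M (-2) 1) q) := fun q => by
      refine (subsingleton_iff_finrank k (hMc _ _) q).2 ?_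
      obtain ⟨T, hTs, ⟨e1⟩, ⟨e2⟩, ⟨e3⟩, c1, c2, c3⟩ := hseq E hE (-2) (-2) 1 0 (by
        calc iot * (τ (-2) * lam ^ 1) = (lam * iot) * (τ (-2) * lam ^ 0) := by rw [pow_one, pow_zero]; ac_rfl
          _ = _ := by rw [hli, one_mul])
      obtain ⟨-, q0, q1, q2⟩ := hQ (-2) 1
      have hq : Subsingleton (Coh.HH X T.X₃ q) := FlatMorStrat.subsingleton_HH_of_iso e3.symm q (by
        match q with
        | 0 => exact q0 one_pos
        | 1 => exact q1 le_rfl
        | q + 2 => exact q2 (q + 2) (by omega))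
      have a := finrank_ge_of_quot k hTs c1 q hq
      simp only [CurveRR24.finrank_HH_congr k e1, CurveRR24.finrank_HH_congr k e2] at a
      have hz : Module.finrank k (Coh.HH X (M (-2) 0) q) = 0 := hvanP (-2) q (by omega) (by omega)
      omega
    have hqc0 : ∀ q, Subsingleton (Coh.HH X (QC (-1) 0) q) := fun q => by
      have hp2 := hpen (-2) 0
      rw [show (-2 : ℤ) + 1 = -1 by norm_num, zero_add] at hp2
      obtain ⟨T, hTs, ⟨e1⟩, ⟨e2⟩, ⟨e3⟩, c1, c2, c3⟩ := hseq C hC (-1) (-2) 0 1 hp2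
      exact FlatMorStrat.subsingleton_HH_of_iso e3 q (subsingleton_quot k hTs q
        (FlatMorStrat.subsingleton_HH_of_iso e2.symm q (h0 q)) (FlatMorStrat.subsingleton_HH_of_iso e1.symm _ (h1 _)))
    have hqc : ∀ (c : ℕ) (d : ℤ), d = -1 - (c : ℤ) → ∀ q, Subsingleton (Coh.HH X (QC d c) q) := by
      intro c
      induction c with
      | zero =>
        intro d hd
        obtain rfl : d = -1 := by omega
        exact hqc0
      | succ c ih =>
        exact fun d hd q => FlatMorStrat.subsingleton_HH_of_iso (hQC d c).some.symm q (ih (d + 1) (by omega) q)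
    intro c
    induction c with
    | zero => simpa using h0
    | succ c ih =>
      intro q
      obtain ⟨T, hTs, ⟨e1⟩, ⟨e2⟩, ⟨e3⟩, c1, c2, c3⟩ :=
        hseq C hC (-1 - (c : ℤ)) (-1 - ((c + 1 : ℕ) : ℤ)) c (c + 1) (by
          have := hpen (-1 - ((c + 1 : ℕ) : ℤ)) c
          rwa [show -1 - ((c + 1 : ℕ) : ℤ) + 1 = -1 - (c : ℤ) by push_cast; ring] at this)
      refine (subsingleton_iff_finrank k (hMc _ _) q).2 (Nat.le_zero.1 ?_)
      rw [← CurveRR24.finrank_HH_congr k e1]
      have hz : ∀ q, Module.finrank k (Coh.HH X T.X₂ q) = 0 := fun q => by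
        rw [CurveRR24.finrank_HH_congr k e2]
        exact (subsingleton_iff_finrank k (hMc _ _) q).1 (ih q)
      match q with
      | 0 =>
        haveI := CurveRR24.finite_HH_of_isCoh k c2 0
        haveI := hTs.mono_f
        exact ((SerreDual.finrank_h0_le_of_mono (k := k) T.f).2).trans (hz 0).le
      | q + 1 =>
        exact (finrank_le_of_quot k hTs c2 q (FlatMorStrat.subsingleton_HH_of_iso e3.symm q (hqc c _ rfl q))).trans (hz _).le
  have hacy' : ∀ (d : ℤ) (c : ℕ), d = -1 - (c : ℤ) → ∀ q, hh d c q = 0 := fun d c hd q => by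
    subst hd
    exact (subsingleton_iff_finrank k (hMc _ _) q).1 (hacy c q)
  have hup : ∀ (d : ℤ) (c n : ℕ), hh d (c + n) 2 ≤ hh d c 2 ∧ hh d c 1 ≤ hh d (c + n) 1 := by
    intro d c n
    induction n with
    | zero => exact ⟨le_rfl, le_rfl⟩
    | succ n ih =>
      obtain ⟨-, s1, s2, -, -⟩ := hstep d (c + n)
      exact ⟨s2.trans ih.1, ih.2.trans s1⟩
  obtain ⟨m0, mχ⟩ := hmain p b
  obtain ⟨g0, g2⟩ := hbase p
  have g1 : hh p 0 1 = 0 := hvanP p 1 (by omega) (by omega)
  rw [hsum p b, hsum p 0, g1] at mχ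
  show hh p b 0 = _ ∧ (hh p b 0 : ℤ) - hh p b 1 + hh p b 2 = _ ∧ (_ → hh p b 2 = 0) ∧ (_ → hh p b 1 = 0)
  refine ⟨by omega, by omega, fun hn => ?_, fun hn => ?_⟩
  · rcases le_or_gt (-1 : ℤ) p with hp | hp
    · have := (hup p 0 b).1
      have hz := hvanP p 2 (by omega) (by omega)
      rw [zero_add] at this
      omega
    · obtain ⟨c, hc⟩ := Int.eq_ofNat_of_zero_le (show 0 ≤ -1 - p by omega)
      obtain ⟨n, rfl⟩ : ∃ n, b = c + n := ⟨b - c, by omega⟩
      have := (hup p c n).1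
      have hz := hacy' p c (by omega) 2
      omega
  · obtain ⟨c, hc⟩ := Int.eq_ofNat_of_zero_le (show 0 ≤ -1 - p by omega)
    obtain ⟨n, rfl⟩ : ∃ n, c = b + n := ⟨c - b, by omega⟩
    have := (hup p b n).2
    have hz := hacy' p (b + n) (by omega) 1
    omega

end Groth.Agent.SurfBl13
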