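import Groth.Agent.SurfBl13.Quad
import Groth.Agent.Coherent.CohBC.Global
import Groth.Agent.DimLib.Zero
import Groth.Agent.Coherent.ProjSpaceFinite

/-!
# Surjectivity of restriction of quadrics to a zero-dimensional subscheme
-/

set_option autoImplicit false
set_option linter.unusedSectionVars false
set_option linter.style.haveILetI false
set_option backward.isDefEq.respectTransparency.types false
set_option maxHeartbeats 4000000

universe u

open AlgebraicGeometry CategoryTheory TopologicalSpace Opposite
open Groth.Agent.Coherent Groth.Agent.PicLib Groth.Agent.AmpleLib Groth.Agent.EulerLib Groth.Agent.CurveRR24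

namespace Groth.Agent.SurfBl13

variable (k : Type u) [Field k] (n : ℕ) {T : Scheme.{u}} [T.Over (Spec (CommRingCat.of k))]

/-- Restriction of global sections of a twist to a scheme over projective space. -/
noncomputable def restr (r : T ⟶ CohB1.ProjSpace n k) (d : ℤ) (s : Γ(Twist.twistProjSpace n k d, ⊤)) :
    Γ((Scheme.Modules.pullback r).obj (Twist.twistProjSpace n k d), ⊤) :=
  ProjUP.pullSec r _ s

/-- Every restricted linear form is a combination of the restricted coordinates. -/
theorem exists_restr_one (r : T ⟶ CohB1.ProjSpace n k) (s : Γ(Twist.twistProjSpace n k 1, ⊤)) :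
    ∃ co : Fin (n + 1) → k,
      (restr k n r 1 s : Γ((Scheme.Modules.pullback r).obj
        (GrTwist.twist (CohB1.polyGrading n k) ((1 : ℕ) : ℤ)), ⊤)) =
        ∑ i, ProjUP.toGlobal (r ≫ CohB1.ProjSpace.toSpec n k) (co i) • xsec r i := by
  obtain ⟨co, hco⟩ := HypLib.exists_lsec n (unitDesc (Twist.twistProjSpace n k 1) s)
  rw [unitVal_unitDesc, resM_self] at hco
  refine ⟨co, ?_⟩
  subst hco
  exact ((HypLib.pullSec_lsec_eq n r co).trans (pullSec_linForm r co))

end Groth.Agent.SurfBl13
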