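import Groth.Agent.SurfBl13.Core
import Groth.Agent.BlowUpCoh.Local
import Groth.Agent.LocImm12.BlowUpProjective
import Groth.Agent.RelVALib.AffineProj
import Groth.Agent.AmpleLib.Generated
import Groth.Agent.S0051
import Groth.Agent.BlowUpKoszul.ToBundle

/-!
# The blow-up of an affine scheme in two Koszul regular elements
-/

set_option autoImplicit false
set_option linter.style.haveILetI false
set_option backward.isDefEq.respectTransparency.types false
set_option maxHeartbeats 1000000

universe u

open CategoryTheory CategoryTheory.Limits AlgebraicGeometry TopologicalSpace Opposite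
open Groth.Agent.Coherent Groth.Agent.PicLib Groth.Agent.AmpleLib Groth.Agent.CAlgH.KoszulRegular
open Groth.Agent.BlowUpCoh Groth.Agent.Lipman24

namespace Groth.Agent.SurfBl13

/-- The blow-up of two Koszul regular elements satisfies all conditions on the exceptional divisor. -/
theorem good_of_affine {B : Type u} [CommRing B] [IsNoetherianRing B] {X : Scheme.{u}}
    (I : (Spec (CommRingCat.of B)).IdealSheafData) (b : X ⟶ Spec (CommRingCat.of B)) (hb : BlowUp.IsBlowUp b I)
    (f : Fin (1 + 1) → Γ(Spec (CommRingCat.of B), ⊤))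
    (hspan : I.ideal (topAff (Spec (CommRingCat.of B))) = Ideal.span (Set.range f)) (hf : KReg f) :
    Good (I.comap b) := by
  have hI : BlowUp.IsFiniteTypeIdeal I := fun U => by
    haveI := IsLocallyNoetherian.component_noetherian (X := Spec (CommRingCat.of B)) U
    exact IsNoetherian.noetherian _
  haveI := Groth.Agent.BlowUpLib.isProper_of_isBlowUp hb hI
  haveI : IsLocallyNoetherian X := LocallyOfFiniteType.isLocallyNoetherian b
  haveI : CompactSpace X := QuasiCompact.compactSpace_of_compactSpace b
  haveI : X.IsSeparated := ⟨by rw [← terminal.comp_from b]; infer_instance⟩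
  have haff := fun q (s : Fin (q + 1) → Fin (1 + 1)) => isAffineOpen_WI b f hb hspan s
  have hW : ∀ k, IsAffineOpen (chartW I b f k) := fun k => by
    convert haff 0 (fun _ => k) using 1
    rw [WI, iInf_const]
  have h01 : IsAffineOpen (chartW I b f 0 ⊓ chartW I b f 1) := by
    convert haff 1 ![0, 1] using 1
    rw [WI]
    exact le_antisymm (le_iInf (Fin.forall_fin_two.2 ⟨inf_le_left, inf_le_right⟩)) (le_inf (iInf_le _ 0) (iInf_le _ 1))
  have hcov : chartW I b f 0 ⊔ chartW I b f 1 = ⊤ := by
    rw [← iSup_chartW b f hb hspan]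
    exact le_antisymm (sup_le (le_iSup _ 0) (le_iSup _ 1))
      (iSup_le (Fin.forall_fin_two.2 ⟨le_sup_left, le_sup_right⟩))
  have hO : Subsingleton (Coh.HH X (Coh.structureModule X) 1) := by
    haveI : Coh.IsQCoh (Coh.structureModule X) := isQCoh_structureModule
    exact BlowUpCoh.subsingleton_HH b f hb hspan (T := twistO _) (hf := hf) (by simp) 0
  have hamp : CohB1.IsAmple (ClSub.idealMod (I.comap b)) :=
    RelVALib.isAmple_of_isRelAmple_of_isAffine b (LocImm12.isRelAmple_idealMod_of_isBlowUp hb hI)
  refine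
    { noeth := inferInstance
      cpt := inferInstance
      noH2 := noH2_of_two (hW 0) (hW 1) h01 hcov
      two := ⟨_, _, hW 0, hW 1, h01, hcov⟩
      hO := hO
      eff := hb.1
      gl := fun x => ?_
      vanish := fun M hM => ?_
      gen := fun M hM => AmpleLib.eventually_globallyGenerated hamp M hM }
  · obtain ⟨k, hk⟩ := Opens.mem_iSup.1 ((iSup_chartW b f hb hspan).ge (show x ∈ (⊤ : X.Opens) from trivial))
    let a : Γ(X, ⊤) := (b.app ⊤).hom (f k)
    have h0 : (I.comap b).subschemeι.app ⊤ a = 0 := by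
      have h1 : f k ∈ I.ideal (topAff _) := hspan.ge (Ideal.subset_span ⟨k, rfl⟩)
      have h2 := Scheme.IdealSheafData.le_def.1 (I.le_map_comap b) (topAff _) h1
      rw [Scheme.IdealSheafData.map, Scheme.Hom.ker_apply, RingHom.mem_ker] at h2
      exact h2
    obtain ⟨σ, hσ⟩ := (mem_range_idealModι (I.comap b) ⊤ a).2 h0
    refine ⟨σ, ((le_glocus_iff σ (chartW I b f k)).2 ?_) hk⟩
    obtain ⟨hg, hn⟩ := gen_spec b f hb hspan (fun _ : Fin 1 => k) (k := k) (mem_img.2 ⟨0, rfl⟩)
    have key : ∀ (W : X.Opens) (hWa : IsAffineOpen W), WI b f I (fun _ : Fin 1 => k) = W →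
        IsGen (ClSub.idealMod (I.comap b)) W (resM _ le_top σ) := by
      rintro W hWa rfl
      refine FlatMor12.IdealModGen.bijective_smul_of_affine_gen _ hWa (a := gen b f I (fun _ => k) k) ?_
        (fun p q h => sub_eq_zero.1 ((mem_nonZeroDivisors_iff.1 hn).2 _ (by
          rw [sub_mul, mul_comm p, mul_comm q]; exact sub_eq_zero.2 h))) hg
      rw [app_resM, hσ]
      rfl
    exact key _ (hW k) (by rw [WI, iInf_const])
  · obtain ⟨n₀, hn₀⟩ := (S0051.result B X b (ClSub.idealMod (I.comap b))
      (FlatMor12.IdealModGen.isInvertible_idealMod _ hb.1)).1 hamp M hM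
    exact ⟨n₀, fun n hn => hn₀ n hn 1 one_pos⟩

end Groth.Agent.SurfBl13
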