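import Groth.Agent.Clifford24.Lipman.ClosedSub
import Groth.Agent.Clifford24.Lipman.GG
import Groth.Agent.BlowUpCoh.GGVanish
import Groth.Agent.KZeroLib.Adic
import Groth.Agent.CAlgH.RegImmStalk
import Groth.Agent.Props12.FinLocFree
import Groth.Agent.Coherent.CohBC.HomSheaf
import Groth.Agent.FlatMorAdm.LocFreeApps
import Groth.Agent.KRR28.Bundle
import Groth.Agent.Desc19b.GGFpqc
import Groth.Agent.OmegaLib.StalkLocal
import Groth.Agent.WeilFin.Bundle

/-!
# Schemes over an affine base with an effective divisor having a generated conormal module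
-/

set_option autoImplicit false
set_option linter.style.haveILetI false
set_option backward.isDefEq.respectTransparency.types false
set_option maxHeartbeats 1000000

universe u

open CategoryTheory CategoryTheory.Limits AlgebraicGeometry Opposite TopologicalSpace
open Groth.Agent.Coherent Groth.Agent.PicLib Groth.Agent.AmpleLib Groth.Agent.EulerLib Groth.Agent.Lipman24

namespace Groth.Agent.SurfBl13

variable {X : Scheme.{u}} (J : X.IdealSheafData)

local notation "St" => DerSch.stalkFunctor X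

/-- Two affines with affine intersection carry no cohomology above degree one. -/
theorem noH2_of_two {U V : X.Opens} (hU : IsAffineOpen U) (hV : IsAffineOpen V) (hUV : IsAffineOpen (U ⊓ V))
    (hcov : U ⊔ V = ⊤) : NoH2 X := fun F hF => by
  haveI := hF
  suffices h : Subsingleton (Sheaf.H' (Coh.toAb F) 2 (⊤ : X.Opens)) from (HHTopEquiv F 2).subsingleton
  rw [← hcov]
  refine subsingleton_of_forall_eq 0 fun x => ?_
  obtain ⟨w, rfl⟩ := exists_deltaH (X := X.toTopCat) (U := U) (V := V)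
    (x := (x : CategoryTheory.Abelian.Ext (freeSh (X := X.toTopCat) (U ⊔ V)) (Coh.toAb F) 2))
    ((subsingleton_H'_qcoh_pos F hU (by norm_num)).elim _ _) ((subsingleton_H'_qcoh_pos F hV (by norm_num)).elim _ _)
  exact (congrArg _ ((subsingleton_H'_qcoh_pos F hUV (le_refl 1)).elim w 0)).trans (map_zero _)

theorem mem_range_twistMul (F : X.Modules) {x : X} {U : X.affineOpens} (hx : x ∈ U.1) {a : Γ(X, U.1)}
    (ha : a ∈ J.ideal U) (v : (St x).obj F) :
    X.presheaf.germ U.1 x hx a • v ∈ LinearMap.range ((St x).map (twistMul J F)).hom := by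
  obtain ⟨W, hW, m, rfl⟩ := F.presheaf.exists_germ_eq (show F.presheaf.stalk x from v)
  obtain ⟨k, hk⟩ := (mem_range_idealModι J U.1 a).2 (RingHom.mem_ker.1 ((J.ker_subschemeι_app U).symm ▸ ha))
  refine ⟨(CohB1.tensorMod (ClSub.idealMod J) F).presheaf.germ (U.1 ⊓ W) x ⟨hx, hW⟩
    (tmul (resM _ inf_le_left k) (resM F inf_le_right m)), ?_⟩
  refine (Coherent.stalk_map_germ (W := U.1 ⊓ W) (twistMul J F) ⟨hx, hW⟩ _).trans ?_
  rw [twistMul_tmul, app_resM, hk, QCohLoc.germ_smul', BlowUpCoh.germ_resM']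
  exact congrArg (· • _) (TopCat.Presheaf.germ_res_apply X.presheaf (homOfLE inf_le_left) x ⟨hx, hW⟩ a)

theorem map_germ_smul_le (F : X.Modules) {x : X} {U : X.affineOpens} (hx : x ∈ U.1) :
    (J.ideal U).map (X.presheaf.germ U.1 x hx).hom • (⊤ : Submodule (X.presheaf.stalk x) ((St x).obj F)) ≤
      LinearMap.range ((St x).map (twistMul J F)).hom := by
  rw [Ideal.map, ← Submodule.span_univ, Submodule.span_smul_span, Submodule.span_le]
  rintro _ ⟨_, ⟨a, ha, rfl⟩, v, -, rfl⟩
  exact mem_range_twistMul J F hx ha v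

theorem map_germ_eq_top {x : X} {U : X.affineOpens} (hx : x ∈ U.1) (h : x ∉ J.support) :
    (J.ideal U).map (X.presheaf.germ U.1 x hx).hom = ⊤ := by
  have h1 : x ∉ X.zeroLocus (U := U.1) (J.ideal U : Set Γ(X, U.1)) := fun hz =>
    h ((J.coe_support_inter U).ge ⟨hz, hx⟩).1
  rw [Scheme.mem_zeroLocus_iff] at h1
  push Not at h1
  obtain ⟨a, ha, hxa⟩ := h1
  exact Ideal.eq_top_of_isUnit_mem _ (Ideal.mem_map_of_mem _ ha) ((X.mem_basicOpen a x hx).1 hxa)

theorem surjective_twistMul_stalk (F : X.Modules) {x : X} (h : x ∉ J.support) :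
    Function.Surjective ((St x).map (twistMul J F)) := fun v => by
  obtain ⟨U, hU, hx, -⟩ := exists_isAffineOpen_mem_and_subset (x := x) (U := ⊤) trivial
  refine map_germ_smul_le J F (U := ⟨U, hU⟩) hx ?_
  rw [map_germ_eq_top J (U := ⟨U, hU⟩) hx h, Submodule.top_smul]
  trivial

/-- Germs killed by the restriction lie in the image of the twist. -/
theorem range_kernel_le (F : X.Modules) (x : X) :
    LinearMap.range ((St x).map (kernel.ι (clUnit J.subschemeι F))).hom ≤
      LinearMap.range ((St x).map (twistMul J F)).hom := by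
  by_cases h : x ∈ J.support
  · obtain ⟨z, rfl⟩ := J.range_subschemeι.ge h
    obtain ⟨U, hU, hx, -⟩ := exists_isAffineOpen_mem_and_subset (x := J.subschemeι z) (U := ⊤) trivial
    refine (KZeroLib.range_step_le J.subschemeι z).trans ?_
    rw [CAlgH.RegImmStalk.ker_stalkMap_eq J.subschemeι z hU hx, J.ker_subschemeι_app ⟨U, hU⟩]
    exact map_germ_smul_le J F (U := ⟨U, hU⟩) hx
  · exact fun v _ => surjective_twistMul_stalk J F h v

theorem twistMul_clUnit (F : X.Modules) : twistMul J F ≫ clUnit J.subschemeι F = 0 :=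
  AmpleLib.hom_ext fun U a b => by
    show pullSec J.subschemeι ((twistMul J F).app U (tmul a b)) = _
    rw [twistMul_tmul, pullSec_smul, (mem_range_idealModι J U _).1 ⟨a, rfl⟩, zero_smul]
    rfl

theorem epi_kernel_lift (F : X.Modules) :
    Epi (kernel.lift (clUnit J.subschemeι F) (twistMul J F) (twistMul_clUnit J F)) :=
  OmegaLib.epi_of_stalks_surjective _ fun x w => by
    obtain ⟨t, ht⟩ := range_kernel_le J F x ⟨w, rfl⟩
    refine ⟨t, ?_⟩
    haveI : Mono ((St x).map (kernel.ι (clUnit J.subschemeι F))) := inferInstance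
    refine (ModuleCat.mono_iff_injective _).1 this ?_
    refine Eq.trans ?_ ht
    show (((St x).map _) ≫ ((St x).map _)).hom t = _
    rw [← Functor.map_comp, kernel.lift_ι]

/-- Without `H¹` of the twist there is none for the kernel of the restriction. -/
theorem subsingleton_H1_kernel (hv : NoH2 X) (F : X.Modules) [Coh.IsQCoh F]
    [Coh.IsQCoh (CohB1.tensorMod (ClSub.idealMod J) F)]
    (h : Subsingleton (Coh.HH X (CohB1.tensorMod (ClSub.idealMod J) F) 1)) :
    Subsingleton (Coh.HH X (kernel (clUnit J.subschemeι F)) 1) := by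
  haveI := EGA43.InjFibre.isQCoh_pullback J.subschemeι F
  haveI := isQCoh_push J.subschemeι ((Scheme.Modules.pullback J.subschemeι).obj F)
  haveI := epi_kernel_lift J F
  exact subsingleton_H1_of_epi hv inferInstance (isQCoh_kernel _)
    (kernel.lift (clUnit J.subschemeι F) (twistMul J F) (twistMul_clUnit J F)) h

theorem subsingleton_H1_step (hv : NoH2 X) (F : X.Modules) [Coh.IsQCoh F]
    [Coh.IsQCoh (CohB1.tensorMod (ClSub.idealMod J) F)]
    (h : Subsingleton (Coh.HH X (CohB1.tensorMod (ClSub.idealMod J) F) 1))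
    (hE : Subsingleton (Coh.HH J.subscheme ((Scheme.Modules.pullback J.subschemeι).obj F) 1)) :
    Subsingleton (Coh.HH X F 1) := by
  haveI := EGA43.InjFibre.isQCoh_pullback J.subschemeι F
  haveI : Epi (clUnit J.subschemeι F) := epi_clUnit J.subschemeι
  let S : ShortComplex X.Modules := ShortComplex.mk (kernel.ι (clUnit J.subschemeι F)) (clUnit J.subschemeι F)
    (kernel.condition _)
  have hS : S.ShortExact := { exact := ShortComplex.exact_kernel _ }
  exact EulerLib.subsingleton_HH_X₂ hS 1 (subsingleton_H1_kernel J hv F h)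
    ((HHAffinePushEquiv J.subschemeι _ 1).toEquiv.subsingleton_congr.1 hE)

/-- The twists of a module by powers of the ideal. -/
noncomputable def W (V : X.Modules) : ℕ → X.Modules
  | 0 => V
  | n + 1 => CohB1.tensorMod (ClSub.idealMod J) (W V n)

theorem isFinLocFree_of_invertible {L : X.Modules} (hL : PicF.IsInvertible L) : FlatMod.IsFinLocFree L :=
  fun x => let ⟨U, hx, e⟩ := isFinLocFreeOfRank_one hL x; ⟨U, 1, hx, e⟩

variable {V : X.Modules}

/-- The divisor `J` on `X`: two affines, a generated conormal module, vanishing and generation of high twists. -/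
structure Good : Prop where
  noeth : IsLocallyNoetherian X
  cpt : CompactSpace X
  noH2 : NoH2 X
  two : ∃ U V : X.Opens, IsAffineOpen U ∧ IsAffineOpen V ∧ IsAffineOpen (U ⊓ V) ∧ U ⊔ V = ⊤
  hO : Subsingleton (Coh.HH X (Coh.structureModule X) 1)
  eff : BlowUp.IsEffCartierIdeal J
  gl : Gl (ClSub.idealMod J)
  vanish : ∀ M : X.Modules, Coh.IsCoh M → ∃ n₀ : ℕ, ∀ n, n₀ ≤ n →
    Subsingleton (Coh.HH X (CohB1.tensorMod M (CohB1.tensorPow (ClSub.idealMod J) n)) 1)
  gen : ∀ M : X.Modules, Coh.IsCoh M → ∃ n₀ : ℕ, ∀ n, n₀ ≤ n →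
    Curv2.IsGloballyGenerated (CohB1.tensorMod M (CohB1.tensorPow (ClSub.idealMod J) n))

variable {J}

theorem Good.inv (h : Good J) : PicF.IsInvertible (ClSub.idealMod J) :=
  FlatMor12.IdealModGen.isInvertible_idealMod _ h.eff

theorem Good.finLocFree_W (h : Good J) (hV : FlatMod.IsFinLocFree V) : ∀ n, FlatMod.IsFinLocFree (W J V n)
  | 0 => hV
  | n + 1 => WeilFin.isFinLocFree_tensorMod (isFinLocFree_of_invertible h.inv) (h.finLocFree_W hV n)

theorem Good.qcoh_W (h : Good J) (hV : FlatMod.IsFinLocFree V) (n : ℕ) : Coh.IsQCoh (W J V n) :=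
  (CohBC.isCoh_of_isFinLocFree (h.finLocFree_W hV n)).1

theorem Good.iso_W (h : Good J) : ∀ n,
    Nonempty (W J V n ≅ CohB1.tensorMod V (CohB1.tensorPow (ClSub.idealMod J) n))
  | 0 => ⟨(unitTensorIso V).symm ≪≫ tensorComm _ _⟩
  | n + 1 => by
    obtain ⟨e⟩ := h.iso_W n
    obtain ⟨a⟩ := EulerLib.exists_assocIso' V (isInvertible_tensorPow h.inv n) h.inv
    exact ⟨AmpleLib.tensorIso (Iso.refl _) e ≪≫ tensorComm _ _ ≪≫ a⟩

theorem Good.H1_restrict (h : Good J) (hV : FlatMod.IsFinLocFree V)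
    (hE : Subsingleton (Coh.HH J.subscheme ((Scheme.Modules.pullback J.subschemeι).obj V) 1)) : ∀ n,
    Subsingleton (Coh.HH J.subscheme ((Scheme.Modules.pullback J.subschemeι).obj (W J V n)) 1)
  | 0 => hE
  | n + 1 => by
    haveI := h.cpt
    haveI : CompactSpace J.subscheme := QuasiCompact.compactSpace_of_compactSpace J.subschemeι
    haveI := h.qcoh_W hV n
    haveI := EGA43.InjFibre.isQCoh_pullback J.subschemeι (W J V n)
    let ι := J.subschemeι
    have h1 := (Gl.pullback ι h.inv h.gl).subsingleton_H1_tensor (h.noH2.closedImmersion ι)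
      (PicLoc.isInvertible_pullback ι h.inv) (EGA43.InjFibre.isQCoh_pullback ι (W J V n)) (h.H1_restrict hV hE n)
    exact FlatMorStrat.subsingleton_HH_of_iso
      ((Scheme.Modules.pullback ι).mapIso (tensorComm _ _) ≪≫ DCat.PullTensor.pullTensorIso ι _ _).symm 1 h1

/-- Vanishing on the divisor gives vanishing everywhere. -/
theorem Good.H1_W (h : Good J) (hV : FlatMod.IsFinLocFree V)
    (hE : Subsingleton (Coh.HH J.subscheme ((Scheme.Modules.pullback J.subschemeι).obj V) 1)) (n : ℕ) :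
    Subsingleton (Coh.HH X (W J V n) 1) := by
  obtain ⟨n₀, hn₀⟩ := h.vanish V (CohBC.isCoh_of_isFinLocFree hV)
  have key : ∀ j n, n₀ ≤ n + j → Subsingleton (Coh.HH X (W J V n) 1) := by
    intro j
    induction j with
    | zero =>
      intro n hn
      obtain ⟨e⟩ := h.iso_W (V := V) n
      exact FlatMorStrat.subsingleton_HH_of_iso e.symm 1 (hn₀ n hn)
    | succ j ih =>
      intro n hn
      haveI := h.qcoh_W hV n
      haveI : Coh.IsQCoh (CohB1.tensorMod (ClSub.idealMod J) (W J V n)) := h.qcoh_W hV (n + 1)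
      exact subsingleton_H1_step J h.noH2 _ (ih (n + 1) (by omega)) (h.H1_restrict hV hE n)
  exact key n₀ n (by omega)

theorem Good.surjective_pullSec (h : Good J) (hV : FlatMod.IsFinLocFree V)
    (hE : Subsingleton (Coh.HH J.subscheme ((Scheme.Modules.pullback J.subschemeι).obj V) 1)) :
    Function.Surjective (pullSec J.subschemeι (L := V) (U := ⊤)) := by
  haveI : Coh.IsQCoh V := h.qcoh_W hV 0
  haveI : Coh.IsQCoh (CohB1.tensorMod (ClSub.idealMod J) V) := h.qcoh_W hV 1
  exact surjective_pullSec_of_H1 J.subschemeι (subsingleton_H1_kernel J h.noH2 V (h.H1_W hV hE 1))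

theorem Good.H1_of_gg (h : Good J) (hV : FlatMod.IsFinLocFree V)
    (hgg : Curv2.IsGloballyGenerated ((Scheme.Modules.pullback J.subschemeι).obj V)) :
    Subsingleton (Coh.HH J.subscheme ((Scheme.Modules.pullback J.subschemeι).obj V) 1) := by
  obtain ⟨U₀, U₁, hU₀, hU₁, h01, hcov⟩ := h.two
  let ι := J.subschemeι
  haveI : Coh.IsQCoh V := h.qcoh_W hV 0
  haveI := EGA43.InjFibre.isQCoh_pullback ι V
  refine BlowUpCoh.subsingleton_HH_one_of_gg (U := ι ⁻¹ᵁ U₀) (V := ι ⁻¹ᵁ U₁) (hU₀.preimage ι) (hU₁.preimage ι)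
    ?_ ?_ (Lipman24.subsingleton_H1_structure ι h.noH2 h.hO) hgg
  · exact h01.preimage ι
  · exact (Scheme.Hom.preimage_sup ι).symm.trans (congrArg (ι ⁻¹ᵁ ·) hcov |>.trans (Scheme.Hom.preimage_top ι))

/-- The span of the germs of global sections. -/
noncomputable abbrev genAt (M : X.Modules) (x : X) : Submodule (X.presheaf.stalk x) ((St x).obj M) :=
  Submodule.span (X.presheaf.stalk x)
    (Set.range fun s : Γ(M, ⊤) => (M.presheaf.germ ⊤ x trivial s : M.presheaf.stalk x))

theorem exists_germ_clUnit_of_span {Z : Scheme.{u}} (i : Z ⟶ X) [IsClosedImmersion i] (M : X.Modules) (z : Z)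
    {s : Set Γ(M, ⊤)} (c : (DerSch.stalkFunctor Z z).obj ((Scheme.Modules.pullback i).obj M))
    (hc : c ∈ Submodule.span (Z.presheaf.stalk z) ((fun m : Γ(M, ⊤) =>
      (((Scheme.Modules.pullback i).obj M).presheaf.germ (i ⁻¹ᵁ ⊤) z trivial ((clUnit i M).app ⊤ m) :
        ((Scheme.Modules.pullback i).obj M).presheaf.stalk z)) '' s)) :
    ∃ (O : X.Opens) (hO : i z ∈ O) (m : Γ(M, O)),
      (show (St (i z)).obj M from M.presheaf.germ O (i z) hO m) ∈
        Submodule.span (X.presheaf.stalk (i z))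
          ((fun m : Γ(M, ⊤) => (M.presheaf.germ ⊤ (i z) trivial m : M.presheaf.stalk (i z))) '' s) ∧
      ((Scheme.Modules.pullback i).obj M).presheaf.germ (i ⁻¹ᵁ O) z hO ((clUnit i M).app O m) = c := by
  induction hc using Submodule.span_induction with
  | mem x hx =>
    obtain ⟨m, hm, rfl⟩ := hx
    exact ⟨⊤, trivial, m, Submodule.subset_span ⟨m, hm, rfl⟩, rfl⟩
  | zero =>
    refine ⟨⊤, trivial, 0, ?_, ?_⟩
    · show _ ∈ _
      rw [map_zero]
      exact zero_mem _
    · exact (congrArg _ (map_zero ((clUnit i M).app ⊤).hom)).trans (map_zero _)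
  | add a b _ _ iha ihb =>
    obtain ⟨O, hO, m, hm, rfl⟩ := iha
    obtain ⟨O', hO', m', hm', rfl⟩ := ihb
    refine ⟨O ⊓ O', ⟨hO, hO'⟩, resM M inf_le_left m + resM M inf_le_right m', ?_, ?_⟩
    · show _ ∈ _
      rw [map_add, BlowUpCoh.germ_resM', BlowUpCoh.germ_resM']
      exact add_mem hm hm'
    · rw [map_add, app_resM, app_resM]
      refine (map_add _ _ _).trans ?_
      congr 1
      · exact TopCat.Presheaf.germ_res_apply ((Scheme.Modules.pullback i).obj M).presheaf
          ((Opens.map i.base).map (homOfLE inf_le_left)) z _ _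
      · exact TopCat.Presheaf.germ_res_apply ((Scheme.Modules.pullback i).obj M).presheaf
          ((Opens.map i.base).map (homOfLE inf_le_right)) z _ _
  | smul r a _ iha =>
    obtain ⟨O, hO, m, hm, rfl⟩ := iha
    obtain ⟨a₀, rfl⟩ := i.stalkMap_surjective z r
    obtain ⟨O', hO', f, rfl⟩ := X.presheaf.exists_germ_eq a₀
    refine ⟨O' ⊓ O, ⟨hO', hO⟩, PicLib.res (inf_le_left : O' ⊓ O ≤ O') f • resM M (inf_le_right : O' ⊓ O ≤ O) m, ?_, ?_⟩
    · show _ ∈ _
      rw [QCohLoc.germ_smul', BlowUpCoh.germ_resM']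
      exact Submodule.smul_mem _ _ hm
    · rw [Scheme.Modules.Hom.app_smul, app_resM]
      erw [QCohLoc.germ_smul']
      congr 1
      · exact (Scheme.Hom.germ_stalkMap_apply i (O' ⊓ O) z ⟨hO', hO⟩ _).symm.trans
          (congrArg _ (TopCat.Presheaf.germ_res_apply X.presheaf (homOfLE inf_le_left) (i z) ⟨hO', hO⟩ f))
      · exact TopCat.Presheaf.germ_res_apply ((Scheme.Modules.pullback i).obj M).presheaf
          ((Opens.map i.base).map (homOfLE inf_le_right)) z _ _

theorem eq_top_of_restrict_generated (hV : FlatMod.IsFinLocFree V) (z : J.subscheme)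
    {s : Set Γ(V, ⊤)} (hspan : Submodule.span (J.subscheme.presheaf.stalk z) ((fun m : Γ(V, ⊤) =>
      (((Scheme.Modules.pullback J.subschemeι).obj V).presheaf.germ (J.subschemeι ⁻¹ᵁ ⊤) z trivial
        ((clUnit J.subschemeι V).app ⊤ m) :
        ((Scheme.Modules.pullback J.subschemeι).obj V).presheaf.stalk z)) '' s) = ⊤) :
    Submodule.span (X.presheaf.stalk (J.subschemeι z))
      ((fun m : Γ(V, ⊤) => (V.presheaf.germ ⊤ (J.subschemeι z) trivial m : V.presheaf.stalk (J.subschemeι z))) '' s) =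
      ⊤ := by
  let i := J.subschemeι
  let G := (Scheme.Modules.pullback i).obj V
  haveI : Coh.IsQCoh V := (CohBC.isCoh_of_isFinLocFree hV).1
  haveI : Module.Finite (X.presheaf.stalk (i z)) ((St (i z)).obj V) :=
    Props12.finite_stalk_of_isFT V (CohBC.isCoh_of_isFinLocFree hV).2 (i z)
  let S : Submodule (X.presheaf.stalk (i z)) ((St (i z)).obj V) := Submodule.span (X.presheaf.stalk (i z))
    ((fun m : Γ(V, ⊤) => (V.presheaf.germ ⊤ (i z) trivial m : V.presheaf.stalk (i z))) '' s)
  show S = ⊤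
  have key : (⊤ : Submodule (X.presheaf.stalk (i z)) ((St (i z)).obj V)) ≤
      S ⊔ RingHom.ker (i.stalkMap z).hom • ⊤ := by
    intro v _
    obtain ⟨O, hO, m, rfl⟩ := V.presheaf.exists_germ_eq (show V.presheaf.stalk (i z) from v)
    obtain ⟨O', hO', m', hm', he⟩ := exists_germ_clUnit_of_span i V z
      (G.presheaf.germ (i ⁻¹ᵁ O) z hO ((clUnit i V).app O m)) (hspan.ge Submodule.mem_top)
    obtain ⟨T, hzT, i₁, i₂, hT⟩ := G.presheaf.germ_eq z _ _ _ _ he
    obtain ⟨T', hT'⟩ := i.isEmbedding.toIsInducing.isOpen_iff.1 T.2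
    let D : X.Opens := ⟨T', hT'.1⟩ ⊓ (O ⊓ O')
    have hzD : i z ∈ D := ⟨(hT'.2.symm ▸ hzT : z ∈ i.base ⁻¹' T'), hO, hO'⟩
    have hDT : i ⁻¹ᵁ D ≤ T := fun y hy => (Set.ext_iff.1 hT'.2 y).1 hy.1
    let d : Γ(V, D) := resM V (inf_le_right.trans inf_le_left) m - resM V (inf_le_right.trans inf_le_right) m'
    have hd : (clUnit i V).app D d = 0 := by
      show (clUnit i V).app D (_ - _) = 0
      rw [map_sub, app_resM, app_resM, sub_eq_zero]
      have h2 := congrArg (fun t => G.presheaf.map (homOfLE hDT).op t) hT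
      simp only [← ConcreteCategory.comp_apply, ← Functor.map_comp] at h2
      exact h2.symm
    have h1 := KZeroLib.germ_mem_of_clUnit_eq_zero i z hzD d hd
    show (show (St (i z)).obj V from V.presheaf.germ O (i z) hO m) ∈ _
    refine Submodule.mem_sup.2 ⟨_, hm', _, h1, ?_⟩
    show V.presheaf.germ O' (i z) hO' m' + V.presheaf.germ D (i z) hzD d = V.presheaf.germ O (i z) hO m
    rw [map_sub, BlowUpCoh.germ_resM', BlowUpCoh.germ_resM', add_sub_cancel]
  refine top_le_iff.1 (Submodule.le_of_le_smul_of_le_jacobson_bot Module.Finite.fg_top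
    (le_trans (fun a ha => (IsLocalRing.jacobson_eq_maximalIdeal ⊥ bot_ne_top).ge ?_) le_rfl) key)
  rw [IsLocalRing.mem_maximalIdeal]
  intro hu
  exact not_isUnit_zero ((RingHom.mem_ker.1 ha) ▸ hu.map (i.stalkMap z).hom)

theorem app_unitVal {M N : X.Modules} (φ : M ⟶ N) {x : X} (s : Γ(M, ⊤)) :
    ((St x).map φ).hom (M.presheaf.germ ⊤ x trivial s) = N.presheaf.germ ⊤ x trivial (φ.app ⊤ s) :=
  Coherent.stalk_map_germ (W := ⊤) φ trivial s

theorem genAt_map {M N : X.Modules} (φ : M ⟶ N) {x : X} (hM : genAt M x = ⊤)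
    (hφ : Function.Surjective ((St x).map φ)) : genAt N x = ⊤ := by
  refine top_le_iff.1 ?_
  rw [← LinearMap.range_eq_top.2 hφ, LinearMap.range_eq_map, ← hM, Submodule.map_span, Submodule.span_le]
  rintro _ ⟨_, ⟨s, rfl⟩, rfl⟩
  exact Submodule.subset_span ⟨_, (app_unitVal φ s).symm⟩

/-- Germs of global sections spanning all stalks give global generation. -/
theorem isGloballyGenerated_of_genAt {M : X.Modules} (h : ∀ x, genAt M x = ⊤) :
    Curv2.IsGloballyGenerated M := by
  refine ⟨Γ(M, ⊤), Desc19b.evalGlobal M, ?_⟩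
  refine OmegaLib.epi_of_stalks_surjective _ fun x => ?_
  refine LinearMap.range_eq_top.1 (top_le_iff.1 ?_)
  rw [← h x, Submodule.span_le]
  rintro _ ⟨s, rfl⟩
  exact ⟨_, (app_unitVal (Desc19b.evalGlobal M) _).trans (congrArg _ (Desc19b.evalGlobal_basis M s))⟩

theorem Good.genAt_off (h : Good J) (hV : FlatMod.IsFinLocFree V) {x : X} (hx : x ∉ J.support) :
    genAt V x = ⊤ := by
  obtain ⟨n₀, hn₀⟩ := h.gen V (CohBC.isCoh_of_isFinLocFree hV)
  obtain ⟨e⟩ := h.iso_W (V := V) n₀
  have h0 : genAt (W J V n₀) x = ⊤ :=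
    BlowUpCoh.span_germ_eq_top (globallyGenerated_of_iso e.symm (hn₀ n₀ le_rfl)) x
  have key : ∀ n, genAt (W J V n) x = ⊤ → genAt V x = ⊤ := by
    intro n
    induction n with
    | zero => exact id
    | succ n ih => exact fun hn => ih (genAt_map (twistMul J (W J V n)) hn (surjective_twistMul_stalk J _ hx))
  exact key n₀ h0

/-- A module generated on the divisor is generated, and its `H¹` vanishes. -/
theorem Good.generated (h : Good J) (hV : FlatMod.IsFinLocFree V)
    (hgg : Curv2.IsGloballyGenerated ((Scheme.Modules.pullback J.subschemeι).obj V)) :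
    Subsingleton (Coh.HH X V 1) ∧ Function.Surjective (pullSec J.subschemeι (L := V) (U := ⊤)) ∧
      ∀ x, genAt V x = ⊤ := by
  have hE := h.H1_of_gg hV hgg
  have hs := h.surjective_pullSec hV hE
  refine ⟨h.H1_W hV hE 0, hs, fun x => ?_⟩
  by_cases hx : x ∈ J.support
  · obtain ⟨z, rfl⟩ := J.range_subschemeι.ge hx
    have h1 := eq_top_of_restrict_generated hV z (s := Set.univ) (by
      refine top_le_iff.1 ?_
      rw [← BlowUpCoh.span_germ_eq_top hgg z, Submodule.span_le]
      rintro _ ⟨t, rfl⟩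
      obtain ⟨m, rfl⟩ := hs t
      exact Submodule.subset_span ⟨m, trivial, rfl⟩)
    rwa [Set.image_univ] at h1
  · exact h.genAt_off hV hx

end Groth.Agent.SurfBl13
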