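import Groth.Agent.SurfBl13.Vanish
import Groth.Agent.ExcC13.QProjContract

/-!
# Division in the direct image of a bundle with no sections on the exceptional divisor after a twist
-/

set_option autoImplicit false
set_option linter.style.haveILetI false
set_option backward.isDefEq.respectTransparency.types false
set_option maxHeartbeats 2000000

universe u

open CategoryTheory CategoryTheory.Abelian CategoryTheory.Limits AlgebraicGeometry TopologicalSpace Opposite
open Groth.Agent.Coherent Groth.Agent.PicLib Groth.Agent.AmpleLib Groth.Agent.BlowUpLib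

namespace Groth.Agent.SurfBl13

variable {S : Scheme.{u}} {X : Scheme.{u}} (b : X ⟶ S) {I : S.IdealSheafData}
  (hb : BlowUp.IsBlowUp b I)

include hb in
/-- Near every point over an affine open one of given generators of the centre generates its inverse image. -/
theorem exists_gen_nhd (U : S.affineOpens) {n : ℕ} (g : Fin n → Γ(S, U.1)) (hg : I.ideal U = Ideal.span (Set.range g))
    {y : X} (W : X.Opens) (hy : y ∈ W) (hW : W ≤ b ⁻¹ᵁ U.1) :
    ∃ (k : Fin n) (T : X.Opens) (hT : IsAffineOpen T) (hTW : T ≤ W), y ∈ T ∧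
      (I.comap b).ideal ⟨T, hT⟩ = Ideal.span {PicLib.res (hTW.trans hW) ((b.app U.1).hom (g k))} ∧
      PicLib.res (hTW.trans hW) ((b.app U.1).hom (g k)) ∈ nonZeroDivisors Γ(X, T) := by
  obtain ⟨a, ⟨k, rfl⟩, hka⟩ := exists_mem_locus b hb.1 U (hW hy) (Set.range g) hg.symm
  obtain ⟨V, hyV, hV⟩ := mem_locus.1 hka
  obtain ⟨T, hT, hyT, hTle⟩ := exists_isAffineOpen_mem_and_subset (x := y) (U := W ⊓ V.1) ⟨hy, hyV⟩
  obtain ⟨e, he⟩ := hV.mono (V' := ⟨T, hT⟩) fun w hw => (hTle hw).2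
  exact ⟨k, T, hT, fun w hw => (hTle hw).1, hyT, he, mem_nonZeroDivisors_of_eff hb.1 he⟩

/-- Nonzerodivisors act injectively on bases. -/
theorem eq_zero_of_smul_basis {M : X.Modules} {W T : X.Opens} {J : Type u} [Fintype J] {e : J → Γ(M, W)}
    (he : IsBasisOn M W e) (hT : T ≤ W) {a : Γ(X, T)} (ha : a ∈ nonZeroDivisors Γ(X, T)) {m : Γ(M, T)}
    (h : a • m = 0) : m = 0 := by
  obtain ⟨c, rfl⟩ := (he hT).2 m
  have h2 : (fun j => a * c j) = 0 := (he hT).1 (by
    simp only [Pi.zero_apply, zero_smul, Finset.sum_const_zero]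
    refine Eq.trans ?_ h
    rw [Finset.smul_sum]
    exact Finset.sum_congr rfl fun j _ => (smul_smul a (c j) _).symm)
  refine Finset.sum_eq_zero fun j _ => ?_
  rw [(mem_nonZeroDivisors_iff.1 ha).1 (c j) (congrFun h2 j), zero_smul]

include hb in
/-- Sections of a bundle killed by the centre vanish. -/
theorem eq_zero_of_smul_centre {V : X.Modules} (hV : FlatMod.IsFinLocFree V) (U : S.affineOpens)
    {n : ℕ} (g : Fin n → Γ(S, U.1)) (hg : I.ideal U = Ideal.span (Set.range g)) {W : X.Opens} (hW : W ≤ b ⁻¹ᵁ U.1)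
    (m : Γ(V, W)) (h : ∀ k, PicLib.res hW ((b.app U.1).hom (g k)) • m = 0) : m = 0 := by
  refine sec_ext V _ _ fun y hy => ?_
  obtain ⟨B, r, e, hyB, he⟩ := exists_isBasisOn hV y
  obtain ⟨k, T, hT, hTW, hyT, -, hreg⟩ := exists_gen_nhd b hb U g hg (y := y) (W ⊓ B) ⟨hy, hyB⟩
    (inf_le_left.trans hW)
  refine ⟨T, hTW.trans inf_le_left, hyT, ?_⟩
  rw [map_zero]
  refine eq_zero_of_smul_basis he (hTW.trans inf_le_right) hreg ?_
  have h2 := congrArg (resM V (hTW.trans inf_le_left : T ≤ W)) (h k)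
  rwa [resM_smul, map_zero, PicLib.res_res] at h2

variable {V : X.Modules} (hV : FlatMod.IsFinLocFree V)

include hb hV in
/-- If the twist by the inverse of the exceptional ideal has no sections on the part of the divisor over `U`,
then `g₁ m = g₀ m'` makes `m` divisible by `g₀`. -/
theorem exists_div [IsLocallyNoetherian S] (U : S.affineOpens) (g : Fin (1 + 1) → Γ(S, U.1)) (hg : I.ideal U = Ideal.span (Set.range g))
    {L : X.Modules} (hL : PicF.IsInvertible L) (hLI : ClSub.IsInverseOf L (ClSub.idealMod (I.comap b)))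
    (hvan : Subsingleton Γ((Scheme.Modules.pullback (I.comap b).subschemeι).obj (CohB1.tensorMod V L),
      (I.comap b).subschemeι ⁻¹ᵁ (b ⁻¹ᵁ U.1)))
    (m m' : Γ(V, b ⁻¹ᵁ U.1)) (h : (b.app U.1).hom (g 1) • m = (b.app U.1).hom (g 0) • m') :
    ∃ z : Γ(V, b ⁻¹ᵁ U.1), m = (b.app U.1).hom (g 0) • z := by
  classical
  haveI : IsProper b := BlowUpLib.isProper_of_isBlowUp hb (FlatMorAdm.isFiniteTypeIdeal_of_noetherian _)
  let O := b ⁻¹ᵁ U.1
  let J := I.comap b
  let G : Fin (1 + 1) → Γ(X, O) := fun k => (b.app U.1).hom (g k)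
  let P := CohB1.tensorMod V L
  have hJi : PicF.IsInvertible (ClSub.idealMod J) := FlatMor12.IdealModGen.isInvertible_idealMod _ hb.1
  obtain ⟨eL⟩ := hLI
  obtain ⟨α⟩ := EulerLib.exists_assocIso' V hL hJi
  let Φ : CohB1.tensorMod P (ClSub.idealMod J) ≅ V :=
    α ≪≫ AmpleLib.tensorIso (Iso.refl V) eL ≪≫ tensorComm _ _ ≪≫ unitTensorIso V
  have hσ : ∀ k, ∃ σ : Γ(ClSub.idealMod J, O), (ClSub.idealModι J).app O σ = G k := fun k => by
    refine (mem_range_idealModι J O (G k)).2 ?_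
    have h1 : g k ∈ I.ideal U := hg.ge (Ideal.subset_span ⟨k, rfl⟩)
    have h2 := Scheme.IdealSheafData.le_def.1 (I.le_map_comap b) U h1
    rw [Scheme.IdealSheafData.map, Scheme.Hom.ker_apply, RingHom.mem_ker] at h2
    exact h2
  choose σ hσ using hσ
  have hσc : ∀ i j, G i • σ j = G j • σ i := fun i j => BlowUpCoh.idealModι_injective J O (by
    rw [Scheme.Modules.Hom.app_smul, Scheme.Modules.Hom.app_smul, hσ, hσ]
    exact mul_comm (G i) (G j))
  let θ : Fin (1 + 1) → ∀ (T : X.Opens), T ≤ O → Γ(P, T) → Γ(V, T) := fun k T hT x =>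
    Φ.hom.app T (tmul x (resM _ hT (σ k)))
  have hθc : ∀ i j (T : X.Opens) (hT : T ≤ O) (x : Γ(P, T)),
      PicLib.res hT (G i) • θ j T hT x = PicLib.res hT (G j) • θ i T hT x := fun i j T hT x => by
    show _ • Φ.hom.app T (tmul x (resM _ hT (σ j))) = _ • Φ.hom.app T (tmul x (resM _ hT (σ i)))
    rw [← Scheme.Modules.Hom.app_smul, ← Scheme.Modules.Hom.app_smul, ← tmul_smul_right, ← tmul_smul_right,
      ← resM_smul, ← resM_smul, hσc]
  have hθres : ∀ k (T T' : X.Opens) (hT : T ≤ O) (hle : T' ≤ T) (x : Γ(P, T)),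
      resM V hle (θ k T hT x) = θ k T' (hle.trans hT) (resM P hle x) := fun k T T' hT hle x => by
    show resM V hle (Φ.hom.app T _) = _
    rw [← app_resM, resM_tmul, resM_resM]
  -- local generators
  have hgenloc : ∀ y ∈ O, ∃ (k : Fin (1 + 1)) (T : X.Opens) (hT : IsAffineOpen T) (hTO : T ≤ O), y ∈ T ∧
      J.ideal ⟨T, hT⟩ = Ideal.span {PicLib.res hTO (G k)} ∧
      ∀ (T' : X.Opens) (h' : T' ≤ T), Function.Bijective (θ k T' (h'.trans hTO)) := by
    intro y hy
    obtain ⟨k, T, hT, hTO, hyT, hid, hreg⟩ := exists_gen_nhd b hb U g hg (y := y) O hy le_rfl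
    refine ⟨k, T, hT, hTO, hyT, hid, fun T' h' => ?_⟩
    have hgen : IsGen (ClSub.idealMod J) T (resM _ hTO (σ k)) :=
      FlatMor12.IdealModGen.bijective_smul_of_affine_gen J hT
        (by rw [app_resM, hσ]; rfl)
        (fun p q e => sub_eq_zero.1 ((mem_nonZeroDivisors_iff.1 hreg).2 _ (by
          rw [sub_mul, mul_comm p, mul_comm q]; exact sub_eq_zero.2 e))) hid
    have h1 := bijective_tmul_gen (M := P) hgen T' h'
    simp only [resM_resM] at h1
    exact (ConcreteCategory.bijective_of_isIso (Φ.hom.app T')).comp h1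
  have htor : ∀ (T : X.Opens) (hT : T ≤ O) (x y : Γ(V, T)),
      (∀ k, PicLib.res hT (G k) • x = PicLib.res hT (G k) • y) → x = y := fun T hT x y hxy =>
    sub_eq_zero.1 (eq_zero_of_smul_centre b hb hV U g hg hT _ fun k => by
      show PicLib.res hT (G k) • (x - y) = 0
      rw [smul_sub, hxy k, sub_self])
  let M : Fin (1 + 1) → Γ(V, O) := ![m, m']
  have hM : ∀ i j, G i • M j = G j • M i := by
    intro i j
    fin_cases i <;> fin_cases j
    · rfl
    · exact h.symm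
    · exact h
    · rfl
  -- the quotient of `m` by `g₀` as a section of the twist
  let Q : ∀ T : X.Opens, T ≤ O → Γ(P, T) → Prop := fun T hT x => ∀ k, θ k T hT x = resM V hT (M k)
  have hloc : ∀ y : O, ∃ (T : X.Opens) (hT : T ≤ O) (x : Γ(P, T)), y.1 ∈ T ∧ Q T hT x ∧
      ∀ (T' : X.Opens) (h' : T' ≤ T) (x' x'' : Γ(P, T')), Q T' (h'.trans hT) x' → Q T' (h'.trans hT) x'' → x' = x'' := by
    intro y
    obtain ⟨k, T, hT, hTO, hyT, hid, hbij⟩ := hgenloc y.1 y.2
    obtain ⟨x, hx⟩ := (hbij T le_rfl).2 (resM V hTO (M k))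
    refine ⟨T, hTO, x, hyT, fun j => ?_, fun T' h' x' x'' h1 h2 => (hbij T' h').1 ((h1 k).trans (h2 k).symm)⟩
    refine htor T hTO _ _ fun i => ?_
    have hxk : θ k T hTO x = resM V hTO (M k) := hx
    have hk : PicLib.res hTO (G k) • θ j T hTO x = PicLib.res hTO (G k) • resM V hTO (M j) := by
      rw [hθc k j, hxk, ← resM_smul, ← resM_smul, hM]
    have hmem : PicLib.res hTO (G i) ∈ J.ideal ⟨T, hT⟩ := by
      have h' := BlowUpCoh.idealModι_mem J ⟨T, hT⟩ (resM _ hTO (σ i))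
      rwa [app_resM, hσ] at h'
    rw [hid, Ideal.mem_span_singleton'] at hmem
    obtain ⟨c, hc⟩ := hmem
    rw [← hc, mul_smul, mul_smul, hk]
  choose T hTO x hyT hQ huniq using hloc
  have hcov : O ≤ ⨆ y, T y := fun y hy => Opens.mem_iSup.2 ⟨⟨y, hy⟩, hyT _⟩
  have hQres : ∀ (T T' : X.Opens) (hT : T ≤ O) (hle : T' ≤ T) (x : Γ(P, T)), Q T hT x →
      Q T' (hle.trans hT) (resM P hle x) := fun T T' hT hle x hx k => by
    rw [← hθres k T T' hT hle x, hx k, resM_resM]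
  obtain ⟨n, hn, -⟩ := TopCat.Sheaf.existsUnique_gluing' (⟨P.presheaf, P.isSheaf⟩ : TopCat.Sheaf Ab X) T O
    (fun y => homOfLE (hTO y)) hcov x fun y y' =>
      huniq y _ inf_le_left _ _ (hQres _ _ (hTO y) inf_le_left _ (hQ y))
        (hQres _ _ (hTO y') inf_le_right _ (hQ y'))
  have hn' : ∀ y, resM P (hTO y) n = x y := hn
  have hQn : Q O le_rfl n := fun k => TopCat.Sheaf.eq_of_locally_eq'
    (⟨V.presheaf, V.isSheaf⟩ : TopCat.Sheaf Ab X) T O (fun y => homOfLE (hTO y)) hcov _ _ fun y => by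
      show resM V (hTO y) _ = resM V (hTO y) _
      rw [hθres k O (T y) le_rfl (hTO y) n, hn' y, resM_resM]
      exact hQ y k
  have hn0 : (clUnit J.subschemeι P).app O n = 0 := hvan.elim _ _
  -- local quotients
  let R : ∀ T : X.Opens, T ≤ O → Γ(V, T) → Prop := fun T hT z => ∀ k, PicLib.res hT (G k) • z = resM V hT (M k)
  have hloc2 : ∀ y : O, ∃ (T : X.Opens) (hT : T ≤ O) (z : Γ(V, T)), y.1 ∈ T ∧ R T hT z := by
    intro y
    obtain ⟨k, T₀, hT₀, hT₀O, hyT₀, hid, -⟩ := hgenloc y.1 y.2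
    have hmem : (show (DerSch.stalkFunctor X y.1).obj P from P.presheaf.germ O y.1 y.2 n) ∈
        (J.ideal ⟨T₀, hT₀⟩).map (X.presheaf.germ T₀ y.1 hyT₀).hom •
          (⊤ : Submodule (X.presheaf.stalk y.1) ((DerSch.stalkFunctor X y.1).obj P)) := by
      by_cases hyJ : y.1 ∈ J.support
      · obtain ⟨w, hw⟩ := J.range_subschemeι.ge hyJ
        have key : ∀ (y₀ : X) (hy₀ : y₀ ∈ O) (hy₁ : y₀ ∈ T₀), J.subschemeι w = y₀ →
            (show (DerSch.stalkFunctor X y₀).obj P from P.presheaf.germ O y₀ hy₀ n) ∈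
              (J.ideal ⟨T₀, hT₀⟩).map (X.presheaf.germ T₀ y₀ hy₁).hom •
                (⊤ : Submodule (X.presheaf.stalk y₀) ((DerSch.stalkFunctor X y₀).obj P)) := by
          rintro _ hy₀ hy₁ rfl
          have := KZeroLib.germ_mem_of_clUnit_eq_zero J.subschemeι w hy₀ n hn0
          rwa [CAlgH.RegImmStalk.ker_stalkMap_eq J.subschemeι w hT₀ hy₁, J.ker_subschemeι_app ⟨T₀, hT₀⟩] at this
        exact key y.1 y.2 hyT₀ hw
      · rw [map_germ_eq_top J (U := ⟨T₀, hT₀⟩) hyT₀ hyJ, Submodule.top_smul]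
        trivial
    rw [hid, Ideal.map_span, Set.image_singleton, Submodule.ideal_span_singleton_smul,
      Submodule.mem_smul_pointwise_iff_exists] at hmem
    obtain ⟨p₀, -, hp₀⟩ := hmem
    obtain ⟨T₁, hyT₁, p, rfl⟩ := P.presheaf.exists_germ_eq (show P.presheaf.stalk y.1 from p₀)
    let T₂ := T₀ ⊓ T₁
    have hy₂ : y.1 ∈ T₂ := ⟨hyT₀, hyT₁⟩
    have he : P.presheaf.germ T₂ y.1 hy₂
        (PicLib.res (inf_le_left.trans hT₀O : T₂ ≤ O) (G k) • resM P (inf_le_right : T₂ ≤ T₁) p) =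
        P.presheaf.germ O y.1 y.2 n := by
      rw [QCohLoc.germ_smul', BlowUpCoh.germ_resM']
      refine Eq.trans ?_ hp₀
      refine congrArg (· • _) ?_
      exact (TopCat.Presheaf.germ_res_apply X.presheaf _ y.1 hy₂ (G k)).trans
        (TopCat.Presheaf.germ_res_apply X.presheaf (homOfLE hT₀O) y.1 hyT₀ (G k)).symm
    obtain ⟨T₃, hy₃, i₁, i₂, hT₃⟩ := P.presheaf.germ_eq y.1 hy₂ y.2 _ _ he
    have hT₃O : T₃ ≤ O := i₂.le
    have hnT : resM P hT₃O n = PicLib.res hT₃O (G k) • resM P (i₁.le.trans inf_le_right) p := by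
      refine hT₃.symm.trans ?_
      show resM P i₁.le _ = _
      rw [resM_smul, resM_resM, PicLib.res_res]
    refine ⟨T₃, hT₃O, θ k T₃ hT₃O (resM P (i₁.le.trans inf_le_right) p), hy₃, fun i => ?_⟩
    rw [hθc i k, show resM V hT₃O (M i) = θ i T₃ hT₃O (resM P hT₃O n) by
      rw [← hθres i O T₃ le_rfl hT₃O n, hQn i, resM_resM], hnT]
    show _ = Φ.hom.app T₃ (tmul (_ • _) _)
    rw [tmul_smul_left, Scheme.Modules.Hom.app_smul]
  choose T' hTO' z hyT' hR using hloc2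
  have hcov' : O ≤ ⨆ y, T' y := fun y hy => Opens.mem_iSup.2 ⟨⟨y, hy⟩, hyT' _⟩
  have hRres : ∀ (T₀ T₁ : X.Opens) (hT : T₀ ≤ O) (hle : T₁ ≤ T₀) (x : Γ(V, T₀)), R T₀ hT x →
      R T₁ (hle.trans hT) (resM V hle x) := fun T₀ T₁ hT hle x hx k => by
    rw [← PicLib.res_res hT hle, ← resM_smul, hx k, resM_resM]
  obtain ⟨zz, hzz, -⟩ := TopCat.Sheaf.existsUnique_gluing' (⟨V.presheaf, V.isSheaf⟩ : TopCat.Sheaf Ab X) T' O
    (fun y => homOfLE (hTO' y)) hcov' z fun y y' => htor _ (inf_le_left.trans (hTO' y)) _ _ fun k =>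
      (hRres _ _ (hTO' y) inf_le_left _ (hR y) k).trans (hRres _ _ (hTO' y') inf_le_right _ (hR y') k).symm
  refine ⟨zz, TopCat.Sheaf.eq_of_locally_eq' (⟨V.presheaf, V.isSheaf⟩ : TopCat.Sheaf Ab X) T' O
    (fun y => homOfLE (hTO' y)) hcov' _ _ fun y => ?_⟩
  show resM V (hTO' y) m = resM V (hTO' y) (G 0 • zz)
  rw [resM_smul, show resM V (hTO' y) zz = z y from hzz y]
  exact (hR y 0).symm

end Groth.Agent.SurfBl13
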