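import Mathlib

/-!
# Finite modules with a regular pair generating the maximal ideal are free
-/

set_option autoImplicit false

universe u

namespace Groth.Agent.SurfBl13

/-- A finite module over a Noetherian local ring on which two generators of the maximal ideal form a regular
sequence is free. -/
theorem free_of_pair {R : Type u} [CommRing R] [IsLocalRing R] [IsNoetherianRing R] {M : Type u} [AddCommGroup M]
    [Module R M] [Module.Finite R M] {a b : R} (hm : IsLocalRing.maximalIdeal R = Ideal.span {a, b})
    (h0 : ∀ x : M, a • x = 0 → x = 0) (h1 : ∀ x y : M, b • x = a • y → ∃ z, x = a • z) :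
    Module.Free R M := by
  classical
  have hex : ∃ n, ∃ v : Fin n → M, Submodule.span R (Set.range v) = ⊤ := Module.Finite.exists_fin
  let n := Nat.find hex
  obtain ⟨v, hv⟩ := Nat.find_spec hex
  let π : (Fin n → R) →ₗ[R] M := Fintype.linearCombination R v
  have hπ : Function.Surjective π := by
    rw [← LinearMap.range_eq_top, Fintype.range_linearCombination]
    exact hv
  have hcoef : ∀ c ∈ LinearMap.ker π, ∀ i, c i ∈ IsLocalRing.maximalIdeal R := by
    intro c hc i hu'
    obtain ⟨w, hw⟩ := hu'
    have hlt : ∃ m, n = m + 1 := ⟨n - 1, by have := i.2; omega⟩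
    obtain ⟨m, hnm⟩ := hlt
    refine Nat.find_min hex (show m < n by omega) ⟨fun j => v (Fin.cast hnm.symm ((Fin.cast hnm i).succAbove j)), ?_⟩
    refine top_le_iff.1 (hv.ge.trans (Submodule.span_le.2 ?_))
    rintro _ ⟨l, rfl⟩
    by_cases hl : l = i
    · subst hl
      have h := LinearMap.mem_ker.1 hc
      simp only [π, Fintype.linearCombination_apply] at h
      rw [Fintype.sum_eq_add_sum_compl l, ← hw, add_eq_zero_iff_eq_neg] at h
      have h2 : v l = (↑w⁻¹ : R) • (-∑ j ∈ ({l}ᶜ : Finset (Fin n)), c j • v j) := by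
        rw [← h, smul_smul, Units.inv_mul, one_smul]
      rw [h2]
      refine Submodule.smul_mem _ _ (Submodule.neg_mem _ (Submodule.sum_mem _ fun j hj => ?_))
      refine Submodule.smul_mem _ _ (Submodule.subset_span ?_)
      have hne : Fin.cast hnm j ≠ Fin.cast hnm l := fun h' =>
        Finset.mem_compl.1 hj (Finset.mem_singleton.2 (Fin.cast_injective hnm h'))
      obtain ⟨p, hp⟩ := Fin.exists_succAbove_eq hne
      exact ⟨p, by simp [hp]⟩
    · have hne : Fin.cast hnm l ≠ Fin.cast hnm i := fun h' => hl (Fin.cast_injective hnm h')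
      obtain ⟨p, hp⟩ := Fin.exists_succAbove_eq hne
      exact Submodule.subset_span ⟨p, by simp [hp]⟩
  have hK : LinearMap.ker π = ⊥ := by
    refine Submodule.eq_bot_of_le_smul_of_le_jacobson_bot (IsLocalRing.maximalIdeal R) _ (IsNoetherian.noetherian _)
      (fun c hc => ?_) (IsLocalRing.jacobson_eq_maximalIdeal ⊥ bot_ne_top).ge
    choose p q hpq using fun i => Ideal.mem_span_pair.1 (hm ▸ hcoef c hc i)
    have h : a • π p + b • π q = 0 := by
      rw [← map_smul, ← map_smul, ← map_add]
      have : a • p + b • q = c := funext fun i => by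
        simp only [Pi.add_apply, Pi.smul_apply, smul_eq_mul]
        rw [mul_comm a, mul_comm b]; exact hpq i
      rw [this]; exact LinearMap.mem_ker.1 hc
    obtain ⟨z, hz⟩ := h1 (π q) (-π p) (by rw [smul_neg, ← add_eq_zero_iff_eq_neg', h])
    obtain ⟨e, rfl⟩ := hπ z
    have hq : q - a • e ∈ LinearMap.ker π := by
      rw [LinearMap.mem_ker, map_sub, map_smul, hz, sub_self]
    have hp : p + b • e ∈ LinearMap.ker π := by
      rw [LinearMap.mem_ker, map_add, map_smul]
      refine h0 _ ?_
      rw [smul_add, smul_comm a b, ← hz, h]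
    have : c = a • (p + b • e) + b • (q - a • e) := funext fun i => by
      simp only [Pi.add_apply, Pi.smul_apply, Pi.sub_apply, smul_eq_mul]
      rw [← hpq i]
      ring
    rw [this]
    exact Submodule.add_mem _
      (Submodule.smul_mem_smul (hm ▸ Ideal.subset_span (by simp)) hp)
      (Submodule.smul_mem_smul (hm ▸ Ideal.subset_span (by simp)) hq)
  exact Module.Free.of_equiv (LinearEquiv.ofBijective π ⟨LinearMap.ker_eq_bot.1 hK, hπ⟩)

end Groth.Agent.SurfBl13
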