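import Groth.Agent.SurfBl13.Div
import Groth.Agent.SurfBl13.FreeAlg
import Groth.Agent.Props12.FinLocFree
import Groth.Agent.EGA43.QcohFP

/-!
# Direct images of bundles with no twisted sections on the exceptional divisor are locally free
-/

set_option autoImplicit false
set_option linter.style.haveILetI false
set_option backward.isDefEq.respectTransparency.types false
set_option maxHeartbeats 1000000

universe u

open CategoryTheory CategoryTheory.Abelian CategoryTheory.Limits AlgebraicGeometry TopologicalSpace Opposite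
open Groth.Agent.Coherent Groth.Agent.PicLib Groth.Agent.AmpleLib Groth.Agent.BlowUpLib

namespace Groth.Agent.SurfBl13

/-- No global sections means no sections on a clopen piece. -/
theorem subsingleton_sections_of_isClopen {T : Scheme.{u}} (M : T.Modules) (U : T.Opens)
    (hU : IsClosed (U : Set T)) (h : Subsingleton (Coh.HH T M 0)) : Subsingleton Γ(M, U) := by
  obtain ⟨hter⟩ := CohBC.isTerminalTop T
  have htop : Subsingleton Γ(M, (⊤ : T.Opens)) := (Sheaf.H.equiv₀ (Coh.toAb M) hter).symm.toEquiv.subsingleton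
  let V : T.Opens := ⟨(U : Set T)ᶜ, hU.isOpen_compl⟩
  refine subsingleton_of_forall_eq 0 fun s => ?_
  let Us : Bool → T.Opens := fun i => bif i then U else V
  let ss : ∀ i, Γ(M, Us i) := fun i => match i with
    | true => s
    | false => (0 : Γ(M, V))
  have hd : ∀ {W : T.Opens}, W ≤ U ⊓ V → ∀ a b : Γ(M, W), a = b := fun {W} hW a b =>
    sec_ext M a b fun y hy => absurd (hW hy).1 (hW hy).2
  have hcov : (⊤ : T.Opens) ≤ ⨆ i, Us i := fun y _ => Opens.mem_iSup.2 (by
    by_cases hy : y ∈ U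
    · exact ⟨true, hy⟩
    · exact ⟨false, hy⟩)
  obtain ⟨g, hg, -⟩ := TopCat.Sheaf.existsUnique_gluing' (⟨M.presheaf, M.isSheaf⟩ : TopCat.Sheaf Ab T) Us ⊤
    (fun i => homOfLE le_top) hcov ss (fun i j => by
      cases i <;> cases j
      · rfl
      · exact hd (by rw [inf_comm]; exact le_rfl) _ _
      · exact hd le_rfl _ _
      · rfl)
  have hgs : resM M (le_top : U ≤ ⊤) g = s := hg true
  rw [← hgs, htop.elim g 0, map_zero]

variable {S : Scheme.{u}} [IsLocallyNoetherian S] {Z : Closeds S} {X : Scheme.{u}} (b : X ⟶ S)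

/-- At a point outside the centre the blow-up induces isomorphisms of stalks. -/
theorem isIso_stalkMap_off (hb : BlowUp.IsBlowUp b (Scheme.IdealSheafData.vanishingIdeal Z)) (w : X)
    (hw : b w ∉ Z) : IsIso (b.stalkMap w) := by
  let U₀ : S.Opens := (Scheme.IdealSheafData.vanishingIdeal Z).support.compl
  haveI : IsIso (b ∣_ U₀) := SDiv28.isIso_off_center hb
  have hm : w ∈ b ⁻¹ᵁ U₀ := fun h => hw ((Scheme.IdealSheafData.coe_support_vanishingIdeal Z).le h)
  exact (MorphismProperty.arrow_mk_iso_iff (MorphismProperty.isomorphisms CommRingCat.{u})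
    (morphismRestrictStalkMap b U₀ ⟨w, hm⟩)).1 (inferInstanceAs (IsIso ((b ∣_ U₀).stalkMap _)))

variable {V : X.Modules} (hV : FlatMod.IsFinLocFree V)

include hV in
/-- A section killed by the pull-back of `g₀` is killed by whatever kills the annihilator of `g₀`. -/
theorem smul_eq_zero_of_ann (hb : BlowUp.IsBlowUp b (Scheme.IdealSheafData.vanishingIdeal Z)) (U : S.affineOpens)
    (g : Fin (1 + 1) → Γ(S, U.1))
    (hg : (Scheme.IdealSheafData.vanishingIdeal Z).ideal U = Ideal.span (Set.range g))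
    (t : Γ(S, U.1)) (ht : ∀ r, g 0 * r = 0 → t * r = 0) (m : Γ(V, b ⁻¹ᵁ U.1))
    (hm : (b.app U.1).hom (g 0) • m = 0) : (b.app U.1).hom t • m = 0 := by
  refine sec_ext V _ _ fun y hy => ?_
  obtain ⟨B, r, e, hyB, he⟩ := exists_isBasisOn hV y
  obtain ⟨k, T, hT, hTW, hyT, -, hreg⟩ := exists_gen_nhd b hb U g hg (y := y) (b ⁻¹ᵁ U.1 ⊓ B) ⟨hy, hyB⟩
    inf_le_left
  have hTU : T ≤ b ⁻¹ᵁ U.1 := hTW.trans inf_le_left
  have hTB : T ≤ B := hTW.trans inf_le_right
  refine ⟨T, hTU, hyT, ?_⟩
  rw [map_zero, resM_smul]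
  have hm' : PicLib.res hTU ((b.app U.1).hom (g 0)) • resM V hTU m = 0 := by
    rw [← resM_smul, hm, map_zero]
  rcases Fin.exists_fin_two.1 ⟨k, rfl⟩ with hk | hk
  · rw [hk] at hreg
    rw [eq_zero_of_smul_basis he hTB hreg hm', smul_zero]
  · rw [hk] at hreg
    obtain ⟨c, hc⟩ := (he hTB).2 (resM V hTU m)
    rw [← hc] at hm' ⊢
    rw [Finset.smul_sum]
    refine Finset.sum_eq_zero fun j _ => ?_
    have hc0 : (fun j => PicLib.res hTU ((b.app U.1).hom (g 0)) * c j) = 0 := (he hTB).1 (by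
      simp only [Pi.zero_apply, zero_smul, Finset.sum_const_zero]
      refine Eq.trans ?_ hm'
      rw [Finset.smul_sum]
      exact Finset.sum_congr rfl fun j _ => (smul_smul _ (c j) _).symm)
    rw [smul_smul]
    suffices h : PicLib.res hTU ((b.app U.1).hom t) * c j = 0 by rw [h, zero_smul]
    let a := PicLib.res hTU ((b.app U.1).hom (g 1))
    haveI := hT.isLocalization_basicOpen a
    have key : algebraMap Γ(X, T) Γ(X, X.basicOpen a) (PicLib.res hTU ((b.app U.1).hom t) * c j) = 0 := by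
      refine TopCat.Presheaf.section_ext X.sheaf (X.basicOpen a) _ 0 fun w hw => ?_
      refine Eq.trans (TopCat.Presheaf.germ_res_apply X.presheaf (homOfLE (X.basicOpen_le a)) w hw _) ?_
      refine Eq.trans ?_ (map_zero (X.sheaf.presheaf.germ (X.basicOpen a) w hw).hom).symm
      rw [map_mul]
      have hwT : w ∈ T := X.basicOpen_le a hw
      have hwU : b w ∈ U.1 := hTU hwT
      have hgerm : ∀ x : Γ(S, U.1), X.presheaf.germ T w hwT (PicLib.res hTU ((b.app U.1).hom x)) =
          b.stalkMap w (S.presheaf.germ U.1 (b w) hwU x) := fun x =>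
        (TopCat.Presheaf.germ_res_apply X.presheaf (homOfLE hTU) w hwT _).trans
          (Scheme.Hom.germ_stalkMap_apply b U.1 w hwU x).symm
      have hwZ : b w ∉ Z := fun hwZ => by
        have hu : IsUnit (X.presheaf.germ T w hwT a) := (X.mem_basicOpen a w hwT).1 hw
        have h1 := (Scheme.mem_zeroLocus_iff _ _ _).1
          (((Scheme.IdealSheafData.vanishingIdeal Z).coe_support_inter U).le
            ⟨(Scheme.IdealSheafData.coe_support_vanishingIdeal Z).ge hwZ, hwU⟩).1 (g 1)
          (hg.ge (Ideal.subset_span ⟨1, rfl⟩))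
        refine h1 ((S.mem_basicOpen (g 1) (b w) hwU).2 ?_)
        rw [hgerm] at hu
        exact (isUnit_map_iff (b.stalkMap w).hom _).1 hu
      haveI := isIso_stalkMap_off b hb w hwZ
      obtain ⟨d, hd⟩ := (ConcreteCategory.bijective_of_isIso (b.stalkMap w)).2 (X.presheaf.germ T w hwT (c j))
      have h0 := congrArg (X.presheaf.germ T w hwT) (congrFun hc0 j)
      rw [Pi.zero_apply, map_zero, map_mul, hgerm, ← hd, ← map_mul] at h0
      have h0' := (ConcreteCategory.bijective_of_isIso (b.stalkMap w)).1 (h0.trans (map_zero _).symm)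
      rw [hgerm, ← hd, ← map_mul]
      refine (congrArg _ ?_).trans (map_zero _)
      let := S.presheaf.algebra_section_stalk ⟨b w, hwU⟩
      haveI := U.2.isLocalization_stalk ⟨b w, hwU⟩
      show algebraMap Γ(S, U.1) (S.presheaf.stalk (b w)) t * d = 0
      obtain ⟨⟨r, s⟩, hrs⟩ := IsLocalization.surj (U.2.primeIdealOf ⟨b w, hwU⟩).asIdeal.primeCompl d
      have h2 : algebraMap Γ(S, U.1) (S.presheaf.stalk (b w)) (g 0 * r) = 0 := by
        rw [map_mul, ← hrs, ← mul_assoc]
        exact (congrArg (· * _) h0').trans (zero_mul _)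
      obtain ⟨s', hs'⟩ := (IsLocalization.map_eq_zero_iff (U.2.primeIdealOf ⟨b w, hwU⟩).asIdeal.primeCompl _ _).1 h2
      have h3 := ht (s'.1 * r) (by rw [mul_left_comm]; exact hs')
      refine (IsLocalization.map_units (S.presheaf.stalk (b w)) s).mul_left_eq_zero.1 ?_
      rw [mul_assoc, hrs, ← map_mul]
      exact (IsLocalization.map_eq_zero_iff (U.2.primeIdealOf ⟨b w, hwU⟩).asIdeal.primeCompl _ _).2
        ⟨s', by rw [mul_left_comm]; exact h3⟩
    obtain ⟨⟨_, n, rfl⟩, hn⟩ := (IsLocalization.map_eq_zero_iff (Submonoid.powers a) _ _).1 key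
    exact (mem_nonZeroDivisors_iff.1 (pow_mem hreg n)).1 _ hn

include hV in
/-- The stalk of the direct image at a point of the centre is free. -/
theorem free_stalk_push (h : Points Z) (hb : BlowUp.IsBlowUp b (Scheme.IdealSheafData.vanishingIdeal Z))
    (hE : ∀ L : X.Modules, ClSub.IsInverseOf L (ClSub.idealMod ((Scheme.IdealSheafData.vanishingIdeal Z).comap b)) →
      Subsingleton (Coh.HH ((Scheme.IdealSheafData.vanishingIdeal Z).comap b).subscheme
        ((Scheme.Modules.pullback ((Scheme.IdealSheafData.vanishingIdeal Z).comap b).subschemeι).obj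
          (CohB1.tensorMod V L)) 0))
    (z : S) (hzZ : z ∈ Z) :
    Module.Free (S.presheaf.stalk z) (((Scheme.Modules.pushforward b).obj V).presheaf.stalk z) := by
  classical
  haveI := isProper_blowUp b hb
  let J := (Scheme.IdealSheafData.vanishingIdeal Z).comap b
  let N := (Scheme.Modules.pushforward b).obj V
  haveI : Coh.IsQCoh V := (CohBC.isCoh_of_isFinLocFree hV).1
  have hN : Coh.IsCoh N := VarietyLib.isCoh_push_proper b (CohBC.isCoh_of_isFinLocFree hV)
  haveI := hN.1
  obtain ⟨U, g, hzU, hiso, hg, hmax, hm, -⟩ := exists_good_gens b hb h z hzZ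
  obtain ⟨L, hL, hLI⟩ := ExcC13.exists_inverse J hb.1
  have hcl : IsClosed ((J.subschemeι ⁻¹ᵁ (b ⁻¹ᵁ U.1) : J.subscheme.Opens) : Set J.subscheme) := by
    have : ((J.subschemeι ⁻¹ᵁ (b ⁻¹ᵁ U.1) : J.subscheme.Opens) : Set J.subscheme) =
        J.subschemeι ⁻¹' (b ⁻¹' {z}) := by
      ext w
      refine ⟨fun hw => hiso _ hw ?_, fun hw => ?_⟩
      · have := J.range_subschemeι.le ⟨w, rfl⟩
        rw [Scheme.IdealSheafData.support_comap] at this
        exact (Scheme.IdealSheafData.coe_support_vanishingIdeal Z).le this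
      · show b (J.subschemeι w) ∈ U.1
        rw [show b (J.subschemeι w) = z from hw]
        exact hzU
    rw [this]
    exact ((h z hzZ).1.preimage b.continuous).preimage J.subschemeι.continuous
  have hvan : Subsingleton Γ((Scheme.Modules.pullback J.subschemeι).obj (CohB1.tensorMod V L),
      J.subschemeι ⁻¹ᵁ (b ⁻¹ᵁ U.1)) := subsingleton_sections_of_isClopen _ _ hcl (hE L hLI)
  -- the local ring and the stalk as localisations
  let := S.presheaf.algebra_section_stalk ⟨z, hzU⟩
  haveI := U.2.isLocalization_stalk ⟨z, hzU⟩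
  haveI : IsNoetherianRing Γ(S, U.1) := IsLocallyNoetherian.component_noetherian U
  obtain ⟨-, -, hregz, hdim⟩ := h z hzZ
  haveI := hregz
  haveI := CAlgH3.isDomain_of_isRegularLocalRing (S.presheaf.stalk z)
  let p := (U.2.primeIdealOf ⟨z, hzU⟩).asIdeal.primeCompl
  let γ : Γ(S, U.1) →+* S.presheaf.stalk z := algebraMap _ _
  have hm' : IsLocalRing.maximalIdeal (S.presheaf.stalk z) = Ideal.span {γ (g 0), γ (g 1)} := by
    refine hm.trans (congrArg Ideal.span ?_)
    ext a
    constructor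
    · rintro ⟨i, rfl⟩
      fin_cases i
      · exact Or.inl rfl
      · exact Or.inr rfl
    · rintro (rfl | rfl)
      · exact ⟨0, rfl⟩
      · exact ⟨1, rfl⟩
  have hne : γ (g 0) ≠ 0 := fun h0 => by
    have h1 : IsLocalRing.maximalIdeal (S.presheaf.stalk z) = Ideal.span {γ (g 1)} := by
      rw [hm', h0, Ideal.span_insert_zero]
    have h2 := (ringKrullDim_le_spanFinrank_maximalIdeal (R := S.presheaf.stalk z)).trans
      (Nat.cast_le.2 ((congrArg Submodule.spanFinrank h1).le.trans
        ((Submodule.spanFinrank_span_le_ncard_of_finite (Set.finite_singleton _)).trans (Set.ncard_singleton _).le)))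
    rw [hdim] at h2
    exact absurd h2 (by decide)
  obtain ⟨t, htp, ht⟩ : ∃ t ∈ p, ∀ r, g 0 * r = 0 → t * r = 0 := by
    let K : Ideal Γ(S, U.1) := LinearMap.ker (LinearMap.mulLeft Γ(S, U.1) (g 0))
    obtain ⟨F, hF⟩ := (IsNoetherian.noetherian K : K.FG)
    have hk : ∀ r ∈ F, ∃ s : p, s.1 * r = 0 := fun r hr => by
      have hr' : g 0 * r = 0 := LinearMap.mem_ker.1 (hF.le (Submodule.subset_span hr))
      have : γ r = 0 := (mul_eq_zero.1 ((map_mul γ _ _).symm.trans ((congrArg γ hr').trans (map_zero γ)))).resolve_left hne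
      exact (IsLocalization.map_eq_zero_iff p _ _).1 this
    choose s hs using hk
    refine ⟨∏ r ∈ F.attach, (s r.1 r.2).1, Submonoid.prod_mem _ fun r _ => (s r.1 r.2).2, fun r hr => ?_⟩
    have hrK : r ∈ K := LinearMap.mem_ker.2 hr
    rw [← hF] at hrK
    induction hrK using Submodule.span_induction with
    | mem x hx =>
      obtain ⟨q, hq⟩ := Finset.dvd_prod_of_mem (fun r : F => (s r.1 r.2).1) (Finset.mem_attach F ⟨x, hx⟩)
      rw [hq, mul_right_comm, hs x hx, zero_mul]
    | zero => exact mul_zero _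
    | add x y hx hy ihx ihy =>
      have hmx : ∀ w ∈ Submodule.span Γ(S, U.1) (F : Set Γ(S, U.1)), g 0 * w = 0 := fun w hw =>
        LinearMap.mem_ker.1 (hF.le hw)
      rw [mul_add, ihx (hmx x hx), ihy (hmx y hy), add_zero]
    | smul a x hx ihx =>
      rw [smul_eq_mul, mul_left_comm, ihx (LinearMap.mem_ker.1 (hF.le hx)), mul_zero]
  -- the stalk of `N`
  let _ := Module.compHom (N.presheaf.stalk z) (S.presheaf.germ U.1 z hzU).hom
  have : IsScalarTower Γ(S, U.1) (S.presheaf.stalk z) (N.presheaf.stalk z) :=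
    IsScalarTower.of_algebraMap_smul fun _ _ => rfl
  let φ : Γ(N, U.1) →ₗ[Γ(S, U.1)] N.presheaf.stalk z :=
    { toFun := fun m => N.presheaf.germ U.1 z hzU m
      map_add' := fun m n => map_add _ m n
      map_smul' := fun r m => QCohLoc.germ_smul' N hzU r m }
  haveI : IsLocalizedModule p φ := EGA43.QcohFP.isLocalizedModule_germ N U.2 hzU φ fun _ => rfl
  haveI : Module.Finite Γ(S, U.1) Γ(N, U.1) := ((isCoh_iff_finite_sections N).1 hN).2 U.1 U.2
  haveI : Module.Finite (S.presheaf.stalk z) (N.presheaf.stalk z) :=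
    Module.Finite.of_isLocalizedModule p (Rₚ := S.presheaf.stalk z) φ
  haveI : IsNoetherianRing (S.presheaf.stalk z) := IsLocalization.isNoetherianRing p _ inferInstance
  have hsmul : ∀ (r : Γ(S, U.1)) (x : N.presheaf.stalk z), γ r • x = r • x := fun _ _ => rfl
  have key : ∀ m : Γ(N, U.1), g 0 • m = 0 → t • m = 0 := fun m hm =>
    smul_eq_zero_of_ann b hV hb U g hg t ht m hm
  refine free_of_pair hm' (fun x hx => ?_) fun x y hxy => ?_
  · obtain ⟨⟨m, s⟩, hms⟩ := IsLocalizedModule.surj p φ x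
    have h1 : φ (g 0 • m) = 0 := by
      rw [map_smul, ← hms, Submonoid.smul_def, smul_comm (g 0) _ x, show g 0 • x = 0 from hx, smul_zero]
    obtain ⟨s', hs'⟩ := (IsLocalizedModule.eq_zero_iff p φ).1 h1
    rw [Submonoid.smul_def, smul_comm] at hs'
    have h2 : t • s'.1 • m = 0 := key _ hs'
    refine IsLocalizedModule.smul_injective φ ((⟨t, htp⟩ : p) * s' * s) ?_
    show ((⟨t, htp⟩ : p) * s' * s) • x = ((⟨t, htp⟩ : p) * s' * s) • 0
    rw [smul_zero, mul_smul, mul_smul, hms, Submonoid.smul_def, Submonoid.smul_def, ← map_smul, ← map_smul, h2,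
      map_zero]
  · obtain ⟨⟨m, s⟩, hms⟩ := IsLocalizedModule.surj p φ x
    obtain ⟨⟨m', s'⟩, hms'⟩ := IsLocalizedModule.surj p φ y
    have h1 : φ (g 1 • s'.1 • m) = φ (g 0 • s.1 • m') := by
      have hxy' : g 1 • x = g 0 • y := hxy
      rw [map_smul, map_smul, map_smul, map_smul, ← hms, ← hms', Submonoid.smul_def, Submonoid.smul_def]
      dsimp only
      rw [smul_comm (g 1) s'.1, smul_comm (g 1) s.1, hxy', smul_comm (g 0) s.1 (s'.1 • y), smul_comm (g 0) s'.1,
        smul_comm s.1 s'.1]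
    obtain ⟨c, hc⟩ := (IsLocalizedModule.eq_iff_exists p φ).1 h1
    rw [Submonoid.smul_def, Submonoid.smul_def, smul_comm c.1, smul_comm c.1 (g 0)] at hc
    obtain ⟨w, hw⟩ := exists_div b ⟨hb.1, hb.2⟩ hV U g hg hL hLI hvan (show Γ(V, b ⁻¹ᵁ U.1) from (c.1 • s'.1 • m : Γ(N, U.1)))
      (show Γ(V, b ⁻¹ᵁ U.1) from (c.1 • s.1 • m' : Γ(N, U.1))) hc
    let w' : Γ(N, U.1) := w
    have hw' : c.1 • s'.1 • m = g 0 • w' := hw
    refine ⟨IsLocalizedModule.mk' φ w' (c * s' * s), ?_⟩
    refine IsLocalizedModule.smul_injective φ (c * s' * s) ?_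
    show (c * s' * s) • x = (c * s' * s) • (γ (g 0) • _)
    rw [hsmul, smul_comm (c * s' * s) (g 0), IsLocalizedModule.mk'_cancel', ← map_smul, ← hw', mul_smul, mul_smul,
      hms, Submonoid.smul_def, Submonoid.smul_def, ← map_smul, ← map_smul]

include hV in
/-- The direct image is finite locally free and the counit is a monomorphism. -/
theorem isFinLocFree_push_and_mono_counit (h : Points Z)
    (hb : BlowUp.IsBlowUp b (Scheme.IdealSheafData.vanishingIdeal Z))
    (hE : ∀ L : X.Modules, ClSub.IsInverseOf L (ClSub.idealMod ((Scheme.IdealSheafData.vanishingIdeal Z).comap b)) →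
      Subsingleton (Coh.HH ((Scheme.IdealSheafData.vanishingIdeal Z).comap b).subscheme
        ((Scheme.Modules.pullback ((Scheme.IdealSheafData.vanishingIdeal Z).comap b).subschemeι).obj
          (CohB1.tensorMod V L)) 0)) :
    FlatMod.IsFinLocFree ((Scheme.Modules.pushforward b).obj V) ∧
      Mono ((Scheme.Modules.pullbackPushforwardAdjunction b).counit.app V) := by
  classical
  haveI := isProper_blowUp b hb
  haveI : Coh.IsQCoh V := (CohBC.isCoh_of_isFinLocFree hV).1
  let N := (Scheme.Modules.pushforward b).obj V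
  have hN : Coh.IsCoh N := VarietyLib.isCoh_push_proper b (CohBC.isCoh_of_isFinLocFree hV)
  haveI := hN.1
  have hbij := bijective_app_blowUp b hb h
  have hbase : ∀ (U : S.Opens) (J : Type u) (_ : Fintype J) (t : J → Γ(V, b ⁻¹ᵁ U)),
      IsBasisOn V (b ⁻¹ᵁ U) t → IsBasisOn N U (fun j => (show Γ(N, U) from t j)) := by
    intro U J _ t ht O hO
    refine Eq.mpr (congrArg Function.Bijective (funext fun a => ?_))
      ((ht ((Opens.map b.base).map (homOfLE hO)).le).comp (Function.Bijective.piMap fun _ : J => hbij O))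
    rfl
  have hfree : FlatMod.IsFinLocFree N := fun x => by
    by_cases hx : x ∈ Z
    · exact Props12.exists_nhd_free N (isFP_of_isCoh hN) x (free_stalk_push b hV h hb hE x hx)
    · obtain ⟨U, I, hI, t, hxU, hU, ht⟩ := exists_frame_off b hb hV x hx
      obtain ⟨β⟩ := Props12.exists_basis_restrict_top N U
        ((CohBC.moduleBasisOfIsBasisOn (hbase U I hI t ht)).reindex (Fintype.equivFin I))
      haveI : IsAffine U.toScheme := hU
      exact ⟨U, _, hxU, Props12.exists_iso_freeMod_of_basis (N.restrict U.ι) β⟩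
  refine ⟨hfree, ?_⟩
  let M' := (Scheme.Modules.pullback b).obj N
  let c : M' ⟶ V := (Scheme.Modules.pullbackPushforwardAdjunction b).counit.app V
  have hoff : ∀ y : X, b y ∉ Z → ∃ O : X.Opens, y ∈ O ∧ ∀ O' ≤ O, Function.Injective (c.app O') := by
    intro y hy
    obtain ⟨U, I, hI, t, hxU, hU, ht⟩ := exists_frame_off b hb hV (b y) hy
    refine ⟨b ⁻¹ᵁ U, hxU, fun O' hO' => ?_⟩
    letI := hI
    have h1 := (hbase U I hI t ht).pull b hO'
    refine ((Function.Bijective.of_comp_iff _ h1).1 ?_).1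
    refine Eq.mpr (congrArg Function.Bijective (funext fun a => ?_)) (ht hO')
    refine (map_sum (c.app O').hom _ _).trans (Finset.sum_congr rfl fun j _ => ?_)
    refine (Scheme.Modules.Hom.app_smul _ _ _).trans ?_
    exact congrArg (a j • ·) ((app_resM c hO' _).trans
      (congrArg (resM V hO') (AmpleLib.counit_app_pullSec b V U (t j))))
  refine mono_of_sections_injective c fun W => (injective_iff_map_eq_zero (c.app W).hom).2 fun s hs => ?_
  refine sec_ext M' _ _ fun y hy => ?_
  obtain ⟨B, r, e, hyB, he⟩ := exists_isBasisOn (FlatMorAdm.isFinLocFree_pullback b hfree) y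
  obtain ⟨V₀, hyV₀, hle⟩ : ∃ U : S.affineOpens, b y ∈ U.1 ∧ True := by
    obtain ⟨U, hU, hyU, -⟩ := exists_isAffineOpen_mem_and_subset (x := b y) (U := ⊤) trivial
    exact ⟨⟨U, hU⟩, hyU, trivial⟩
  obtain ⟨n, gg, hgg⟩ : ∃ (n : ℕ) (gg : Fin n → Γ(S, V₀.1)),
      (Scheme.IdealSheafData.vanishingIdeal Z).ideal V₀ = Ideal.span (Set.range gg) := by
    haveI : IsNoetherianRing Γ(S, V₀.1) := IsLocallyNoetherian.component_noetherian V₀
    obtain ⟨n, gg, hgg⟩ := Submodule.fg_iff_exists_fin_generating_family.1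
      (IsNoetherian.noetherian ((Scheme.IdealSheafData.vanishingIdeal Z).ideal V₀))
    exact ⟨n, gg, hgg.symm⟩
  obtain ⟨k, T, hT, hTW, hyT, hid, hreg⟩ := exists_gen_nhd b hb V₀ gg hgg (y := y) (W ⊓ B ⊓ b ⁻¹ᵁ V₀.1)
    ⟨⟨hy, hyB⟩, hyV₀⟩ inf_le_right
  have hTW' : T ≤ W := hTW.trans (inf_le_left.trans inf_le_left)
  have hTB : T ≤ B := hTW.trans (inf_le_left.trans inf_le_right)
  refine ⟨T, hTW', hyT, ?_⟩
  rw [map_zero]
  let a := PicLib.res (hTW.trans inf_le_right) ((b.app V₀.1).hom (gg k))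
  obtain ⟨co, hco⟩ := (he hTB).2 (resM M' hTW' s)
  have hres : resM M' (X.basicOpen_le a) (resM M' hTW' s) = 0 := by
    refine sec_ext M' _ _ fun w hw => ?_
    have hwT : w ∈ T := X.basicOpen_le a hw
    have hwZ : b w ∉ Z := fun hwZ => by
      have hw' : w ∈ ((Scheme.IdealSheafData.vanishingIdeal Z).comap b).support := by
        show w ∈ (((Scheme.IdealSheafData.vanishingIdeal Z).comap b).support : Set X)
        rw [Scheme.IdealSheafData.support_comap]
        exact (Scheme.IdealSheafData.coe_support_vanishingIdeal Z).ge hwZ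
      exact (Scheme.mem_zeroLocus_iff _ _ _).1
        ((((Scheme.IdealSheafData.vanishingIdeal Z).comap b).coe_support_inter ⟨T, hT⟩).le ⟨hw', hwT⟩).1 a
        (hid.ge (Ideal.mem_span_singleton_self _)) hw
    obtain ⟨O, hwO, hO⟩ := hoff w hwZ
    refine ⟨X.basicOpen a ⊓ O, inf_le_left, ⟨hw, hwO⟩, hO _ inf_le_right ?_⟩
    rw [map_zero, map_zero, app_resM, app_resM, app_resM, hs, map_zero, map_zero, map_zero]
  rw [← hco, map_sum] at hres
  simp only [resM_smul] at hres
  have hzero := (he ((X.basicOpen_le a).trans hTB)).1 (a₂ := 0) (by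
    refine Eq.trans (Eq.trans (Finset.sum_congr rfl fun j _ => ?_) hres) ?_
    · exact congrArg (_ • ·) (resM_resM M' _ _ _).symm
    · simp only [Pi.zero_apply, zero_smul, Finset.sum_const_zero])
  rw [← hco]
  refine Finset.sum_eq_zero fun j _ => ?_
  haveI := hT.isLocalization_basicOpen a
  obtain ⟨⟨_, m, rfl⟩, hm⟩ := (IsLocalization.map_eq_zero_iff (Submonoid.powers a) Γ(X, X.basicOpen a) (co j)).1
    (congrFun hzero j)
  rw [(mem_nonZeroDivisors_iff.1 (pow_mem hreg m)).1 _ hm, zero_smul]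

end Groth.Agent.SurfBl13
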