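import Mathlib

/-!
# Quotients of a two-dimensional local ring by an element and a power of the maximal ideal are long
-/

set_option autoImplicit false

universe u

open IsLocalRing

namespace Groth.Agent.SurfBl13

variable {R O : Type u} [CommRing R] [IsLocalRing R] [IsNoetherianRing R] [CommRing O] [IsLocalRing O]

/-- If `O = R/I` with `I ⊆ 𝔪^m` and `dim R ≥ 2`, the powers of the maximal ideal of `O/(f)` decrease strictly
below `m`. -/
theorem exists_mem_pow_notMem (π : R →+* O) (hπ : Function.Surjective π) (hd : 2 ≤ ringKrullDim R) {m : ℕ}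
    (hker : RingHom.ker π ≤ maximalIdeal R ^ m) {f : O} (hf : f ∈ maximalIdeal O) {j : ℕ} (hj : j < m) :
    ∃ x ∈ maximalIdeal O ^ j, x ∉ maximalIdeal O ^ (j + 1) ⊔ Ideal.span {f} := by
  have hloc : ∀ r ∈ maximalIdeal R, π r ∈ maximalIdeal O := by
    intro r hr hu
    obtain ⟨s, hs⟩ := isUnit_iff_exists_inv.1 hu
    obtain ⟨s, rfl⟩ := hπ s
    have h1 : r * s - 1 ∈ maximalIdeal R :=
      Ideal.pow_le_self (by omega) (hker (show π (r * s - 1) = 0 by rw [map_sub, map_mul, hs, map_one, sub_self]))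
    exact (maximalIdeal.isMaximal R).ne_top ((Ideal.eq_top_iff_one _).2
      (by simpa using Ideal.sub_mem _ (Ideal.mul_mem_right s _ hr) h1))
  have hmap : maximalIdeal O = (maximalIdeal R).map π := by
    refine le_antisymm (fun x hx => ?_) (Ideal.map_le_iff_le_comap.2 hloc)
    obtain ⟨r, rfl⟩ := hπ x
    exact Ideal.mem_map_of_mem _ fun hu => hx (hu.map π)
  obtain ⟨h, rfl⟩ := hπ f
  have hh : h ∈ maximalIdeal R := fun hu => hf (hu.map π)
  by_contra hc
  push Not at hc
  have h1 : maximalIdeal R ^ j ≤ maximalIdeal R ^ (j + 1) ⊔ Ideal.span {h} := by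
    have h2 : (maximalIdeal R ^ j).map π ≤ (maximalIdeal R ^ (j + 1) ⊔ Ideal.span {h}).map π := by
      rw [Ideal.map_sup, Ideal.map_pow, Ideal.map_pow, ← hmap, Ideal.map_span, Set.image_singleton]
      exact hc
    refine le_trans (Ideal.map_le_iff_le_comap.1 h2) ?_
    rw [Ideal.comap_map_of_surjective π hπ]
    refine sup_le le_rfl (le_trans (le_trans (le_of_eq rfl) hker) ?_)
    exact (Ideal.pow_le_pow_right (by omega : j + 1 ≤ m)).trans le_sup_left
  have h3 : maximalIdeal R ^ j ≤ Ideal.span {h} := by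
    refine Submodule.le_of_le_smul_of_le_jacobson_bot (I := maximalIdeal R)
      (IsNoetherian.noetherian _) (jacobson_eq_maximalIdeal ⊥ bot_ne_top).ge ?_
    rw [smul_eq_mul, ← pow_succ', sup_comm]
    exact h1
  have hmin : maximalIdeal R ∈ (Ideal.span {h}).minimalPrimes := by
    refine ⟨⟨inferInstance, (Ideal.span_singleton_le_iff_mem _).2 hh⟩, fun p ⟨hp, hhp⟩ hle => ?_⟩
    exact hp.le_of_pow_le (h3.trans hhp)
  have hht := Ideal.height_le_one_of_isPrincipal_of_mem_minimalPrimes (Ideal.span {h}) _ hmin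
  rw [← maximalIdeal_height_eq_ringKrullDim] at hd
  have : (2 : ℕ∞) ≤ 1 := le_trans (WithBot.coe_le_coe.1 hd) hht
  exact absurd this (by decide)

/-- The chosen elements are independent over units modulo `f`. -/
theorem eq_zero_of_sum_mem {K : Type u} [Field K] (γ : K →+* O) {f : O} {m : ℕ} (x : Fin m → O)
    (hx : ∀ j : Fin m, x j ∈ maximalIdeal O ^ (j : ℕ))
    (hx' : ∀ j : Fin m, x j ∉ maximalIdeal O ^ ((j : ℕ) + 1) ⊔ Ideal.span {f})
    (c : Fin m → K) (h : ∑ j, γ (c j) * x j ∈ Ideal.span {f}) : c = 0 := by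
  classical
  suffices key : ∀ (n : ℕ) (j : Fin m), (j : ℕ) = n → c j = 0 from funext fun j => key _ j rfl
  intro n
  induction n using Nat.strong_induction_on with
  | _ n ih =>
    intro j hj
    by_contra hc
    refine hx' j ?_
    have hsum : γ (c j) * x j = ∑ i, γ (c i) * x i - ∑ i ∈ Finset.univ.erase j, γ (c i) * x i :=
      eq_sub_of_add_eq (Finset.add_sum_erase _ (fun i => γ (c i) * x i) (Finset.mem_univ j))
    have hmem : γ (c j) * x j ∈ maximalIdeal O ^ ((j : ℕ) + 1) ⊔ Ideal.span {f} := by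
      rw [hsum]
      refine Ideal.sub_mem _ (Submodule.mem_sup_right h) (Ideal.sum_mem _ fun i hi => ?_)
      rcases lt_or_gt_of_ne (Finset.ne_of_mem_erase hi) with hlt | hgt
      · rw [ih (i : ℕ) (hj ▸ hlt) i rfl, map_zero, zero_mul]
        exact zero_mem _
      · exact Submodule.mem_sup_left (Ideal.mul_mem_left _ _ (Ideal.pow_le_pow_right hgt (hx i)))
    exact (Ideal.unit_mul_mem_iff_mem _ ((Ne.isUnit hc).map γ)).1 hmem

end Groth.Agent.SurfBl13
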