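import Groth.Agent.SurfBl13.AmpleBl
import Groth.Agent.Lef23.RegularSection
import Groth.Agent.CurveRR24.Section

/-!
# The pencil of lines through a point on the blown-up plane
-/

set_option autoImplicit false
set_option linter.unusedSectionVars false
set_option linter.style.haveILetI false
set_option backward.isDefEq.respectTransparency.types false
set_option maxHeartbeats 2000000

universe u

open CategoryTheory CategoryTheory.Limits AlgebraicGeometry TopologicalSpace Opposite
open Groth.Agent.Coherent Groth.Agent.PicLib Groth.Agent.AmpleLib Groth.Agent.EulerLib Groth.Agent.CurveRR24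

namespace Groth.Agent.SurfBl13

/-- Two sections generating an invertible module give a divisor on which the module is trivial. -/
theorem exists_trivial_zero_divisor {X : Scheme.{u}} [IsIntegral X] {N : X.Modules} (hN : PicF.IsInvertible N)
    (z₁ z₂ : Γ(N, ⊤)) (hz : ∀ w, w ∈ glocus N z₁ ∨ w ∈ glocus N z₂) :
    ∃ C : X.IdealSheafData, ∃ hC : BlowUp.IsEffCartierIdeal C,
      PicM.of hN * PicM.of (FlatMor12.IdealModGen.isInvertible_idealMod C hC) = 1 ∧
        PicM.pull C.subschemeι (PicM.of hN) = 1 := by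
  wlog h1 : z₁ ≠ 0 generalizing z₁ z₂
  · push_neg at h1
    refine this z₂ z₁ (fun w => (hz w).symm) fun h2 => ?_
    rcases hz (genericPoint X) with h | h
    · exact notMem_glocus_zero hN _ (h1 ▸ h)
    · exact notMem_glocus_zero hN _ (h2 ▸ h)
  haveI := CurveRR24.mono_unitDesc hN h1
  let C := PicF2.zeroScheme N (Coherent.unitDesc N z₁)
  have hC : BlowUp.IsEffCartierIdeal C := Lef23.isEffCartierIdeal_zeroScheme hN _
  refine ⟨C, hC, (PicM.of_eq_one_iff (isInvertible_tensorMod hN (FlatMor12.IdealModGen.isInvertible_idealMod C hC))).2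
    (Lef23.isInverseOf_zeroScheme hN _), ?_⟩
  -- the first section vanishes on the divisor, so the second generates there
  have hv : ∀ c : C.subscheme, C.subschemeι c ∈ glocus N z₂ := by
    intro c
    refine (hz (C.subschemeι c)).resolve_left fun h => ?_
    obtain ⟨W, hyW, g, hg⟩ := exists_isGen hN (C.subschemeι c)
    obtain ⟨V, hV, hyV, hVW⟩ := exists_isAffineOpen_mem_and_subset (x := C.subschemeι c) (U := W) hyW
    have hgV := hg.restrict (show V ≤ W from hVW)
    have hspan := ZeroSchLib.zeroScheme_ideal_eq_span (Coherent.unitDesc N z₁) hN ⟨V, hV⟩ hgV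
    rw [unitVal_unitDesc] at hspan
    have hb : C.subschemeι c ∈ X.basicOpen (hgV.coef le_rfl (resM N le_top z₁)) :=
      (glocus_inf z₁ hgV).le ⟨h, hyV⟩
    have hzero : C.subschemeι c ∈ X.zeroLocus (U := V) (C.ideal ⟨V, hV⟩ : Set Γ(X, V)) :=
      ((C.coe_support_inter ⟨V, hV⟩).le ⟨C.range_subschemeι.le ⟨c, rfl⟩, hyV⟩).1
    exact (Scheme.mem_zeroLocus_iff _ _ _).1 hzero _ (hspan.ge (Ideal.subset_span rfl)) hb
  have htop : glocus ((Scheme.Modules.pullback C.subschemeι).obj N) (pullSec C.subschemeι z₂) = ⊤ := by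
    rw [glocus_pullSec C.subschemeι hN z₂]
    exact top_le_iff.1 fun c _ => hv c
  have hgen : IsGen ((Scheme.Modules.pullback C.subschemeι).obj N) ⊤ (pullSec C.subschemeι z₂) := by
    have h := (isGen_glocus (L := (Scheme.Modules.pullback C.subschemeι).obj N) (pullSec C.subschemeι z₂)).restrict htop.ge
    rwa [resM_resM, resM_self] at h
  exact (PicM.of_eq_one_iff (PicLoc.isInvertible_pullback C.subschemeι hN)).2 (TwistLib.G.nonempty_iso_of_isGen_top hgen)

/-- The residual curve of the pencil of lines through a point. -/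
theorem exists_residual_curve (k : Type u) [Field k] [IsAlgClosed k] {X : Scheme.{u}} [IsIntegral X]
    [IsLocallyNoetherian X] (σ : X ⟶ CohB1.ProjSpace 2 k) {x : CohB1.ProjSpace 2 k}
    (hx : IsClosed ({x} : Set (CohB1.ProjSpace 2 k)))
    (hE : BlowUp.IsEffCartierIdeal ((Scheme.IdealSheafData.vanishingIdeal ⟨{x}, hx⟩).comap σ))
    (h1 : PicF.IsInvertible (Twist.twistProjSpace 2 k 1)) :
    ∃ C : X.IdealSheafData, ∃ hC : BlowUp.IsEffCartierIdeal C,
      (PicM.of (FlatMor12.IdealModGen.isInvertible_idealMod _ hE) * PicM.pull σ (PicM.of h1)) *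
          PicM.of (FlatMor12.IdealModGen.isInvertible_idealMod C hC) = 1 ∧
        PicM.pull C.subschemeι
          (PicM.of (FlatMor12.IdealModGen.isInvertible_idealMod _ hE) * PicM.pull σ (PicM.of h1)) = 1 := by
  haveI : IsProper (CohB1.ProjSpace 2 k ↘ Spec (CommRingCat.of k)) :=
    Coherent.isProper_projSpace_toSpec (n := 2) (R := k)
  obtain ⟨z, ⟨l, hl⟩, hz⟩ := exists_gen_sections (S := CohB1.ProjSpace 2 k) (𝟙 _) (Category.id_comp _) hx σ hE
  have hH : PicF.IsInvertible ((Scheme.Modules.pullback (𝟙 (CohB1.ProjSpace 2 k))).obj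
      (GrTwist.twist (CohB1.polyGrading 2 k) ((1 : ℕ) : ℤ))) := PicLoc.isInvertible_pullback _ h1
  have hN := isInvertible_tensorMod (FlatMor12.IdealModGen.isInvertible_idealMod _ hE)
    (PicLoc.isInvertible_pullback σ hH)
  obtain ⟨C, hC, ha, hb⟩ := exists_trivial_zero_divisor hN (z (l + 1)) (z (l + 2)) fun w => by
    obtain ⟨i, hi⟩ := hz w
    have h3 : ∀ i l : Fin (2 + 1), i = l ∨ i = l + 1 ∨ i = l + 2 := by decide
    rcases h3 i l with rfl | rfl | rfl
    · exact absurd (hl ▸ hi) (notMem_glocus_zero hN w)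
    · exact Or.inl hi
    · exact Or.inr hi
  have hcl : PicM.of hN = PicM.of (FlatMor12.IdealModGen.isInvertible_idealMod _ hE) * PicM.pull σ (PicM.of h1) := by
    rw [← PicM.of_mul (FlatMor12.IdealModGen.isInvertible_idealMod _ hE) (PicLoc.isInvertible_pullback σ hH), ← PicM.pull_of σ hH]
    refine congrArg (fun t => _ * PicM.pull σ t) ?_
    exact (PicM.of_eq_iff hH h1).2 ⟨(Scheme.Modules.pullbackId (CohB1.ProjSpace 2 k)).app _⟩
  rw [hcl] at ha hb
  exact ⟨C, hC, ha, hb⟩

end Groth.Agent.SurfBl13
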