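import Groth.Agent.HypLib.LinForm

/-!
# Restricted linear forms as combinations of restricted coordinates
-/

set_option autoImplicit false
set_option linter.unusedSectionVars false
set_option backward.isDefEq.respectTransparency.types false
set_option maxHeartbeats 4000000

universe u

open AlgebraicGeometry CategoryTheory TopologicalSpace Opposite

namespace Groth.Agent.SurfBl13

variable {R : Type u} [CommRing R] {n : ℕ} {X : Scheme.{u}}

/-- The coordinates restricted to a scheme over projective space. -/
noncomputable def xsec (r : X ⟶ CohB1.ProjSpace n R) (i : Fin (n + 1)) :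
    Γ((Scheme.Modules.pullback r).obj (GrTwist.twist (CohB1.polyGrading n R) ((1 : ℕ) : ℤ)), ⊤) :=
  PicLib.pullSec r (UPLib.sec (𝒜 := CohB1.polyGrading n R) (MvPolynomial.X i) (MvPolynomial.isHomogeneous_X R i))

theorem pullSec_coord_eq (r : X ⟶ CohB1.ProjSpace n R) (i : Fin (n + 1)) :
    ProjUP.pullSec r _ (ProjUP.coord n R i) = xsec r i := rfl

/-- A linear form restricted is the combination of the restricted coordinates. -/
theorem pullSec_linForm (r : X ⟶ CohB1.ProjSpace n R) (co : Fin (n + 1) → R) :
    PicLib.pullSec r (UPLib.sec (𝒜 := CohB1.polyGrading n R) (UPLib.linForm n co) (UPLib.linForm_mem n co)) =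
      ∑ i, ProjUP.toGlobal (r ≫ CohB1.ProjSpace.toSpec n R) (co i) • xsec r i :=
  ((HypLib.pullSec_lsec_eq n r co).symm.trans (HypLib.pullSec_lsec n r co)).trans
    (Finset.sum_congr rfl fun i _ => congrArg (_ • ·) (pullSec_coord_eq r i))

end Groth.Agent.SurfBl13
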