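import Groth.Agent.SurfBl13.QuadAlg
import Groth.Agent.SurfBl13.QuadLin
import Groth.Agent.PicLib.FiniteSetTriv
import Groth.Agent.CurveRR24.Section

/-!
# A finite subscheme of projective space of linear codimension one imposes independent conditions on quadrics
-/

set_option autoImplicit false
set_option linter.unusedSectionVars false
set_option linter.style.haveILetI false
set_option backward.isDefEq.respectTransparency.types false
set_option maxHeartbeats 1000000

universe u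

open AlgebraicGeometry CategoryTheory TopologicalSpace Opposite HomogeneousLocalization
open Groth.Agent.Coherent Groth.Agent.PicLib Groth.Agent.AmpleLib Groth.Agent.EulerLib Groth.Agent.CurveRR24

namespace Groth.Agent.SurfBl13

section deg2

variable {A σ : Type u} [CommRing A] [SetLike σ A] [AddSubgroupClass σ A] {𝒜 : ℕ → σ} [GradedRing 𝒜]
  {X : Scheme.{u}}

/-- The product of the fractions `a/f`, `b/f` carries `f²` to `ab`. -/
theorem appLE_smul_pullSec_two {f : A} (hf : f ∈ 𝒜 1) (r : X ⟶ Proj 𝒜) (W : X.Opens)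
    (e : W ≤ r ⁻¹ᵁ Proj.basicOpen 𝒜 f) (a b : A) (ha : a ∈ 𝒜 (1 • 1)) (hb : b ∈ 𝒜 (1 • 1))
    (hff : f * f ∈ 𝒜 2) (hab : a * b ∈ 𝒜 2) :
    (Proj.awayToSection 𝒜 f ≫ r.appLE _ W e).hom (Away.mk 𝒜 hf 1 a ha * Away.mk 𝒜 hf 1 b hb) •
      resM ((Scheme.Modules.pullback r).obj (GrTwist.twist 𝒜 ((2 : ℕ) : ℤ))) (le_top : W ≤ ⊤)
        (PicLib.pullSec r (show Γ(GrTwist.twist 𝒜 ((2 : ℕ) : ℤ), ⊤) from GrTwist.globalOf 𝒜 ⟨f * f, hff⟩)) =
      resM ((Scheme.Modules.pullback r).obj (GrTwist.twist 𝒜 ((2 : ℕ) : ℤ))) (le_top : W ≤ ⊤)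
        (PicLib.pullSec r (show Γ(GrTwist.twist 𝒜 ((2 : ℕ) : ℤ), ⊤) from GrTwist.globalOf 𝒜 ⟨a * b, hab⟩)) := by
  have hab2 : a * b ∈ 𝒜 (2 • 1) := by simpa using hab
  have hmul : Away.mk 𝒜 hf 1 a ha * Away.mk 𝒜 hf 1 b hb = Away.mk 𝒜 hf 2 (a * b) hab2 := by
    refine HomogeneousLocalization.val_injective _ ?_
    rw [HomogeneousLocalization.val_mul, Away.val_mk, Away.val_mk, Away.val_mk, Localization.mk_mul]
    exact Localization.mk_eq_mk_iff.2 (Localization.r_iff_exists.2 ⟨1, by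
      simp only [Submonoid.coe_mul, Submonoid.coe_one]; ring⟩)
  have hrel : (show Γ(Proj 𝒜, Proj.basicOpen 𝒜 f) from (Proj.awayToSection 𝒜 f).hom (Away.mk 𝒜 hf 2 (a * b) hab2)) •
      resM (GrTwist.twist 𝒜 ((2 : ℕ) : ℤ)) (le_top : Proj.basicOpen 𝒜 f ≤ ⊤)
        (show Γ(GrTwist.twist 𝒜 ((2 : ℕ) : ℤ), ⊤) from GrTwist.globalOf 𝒜 ⟨f * f, hff⟩) =
      resM (GrTwist.twist 𝒜 ((2 : ℕ) : ℤ)) (le_top : Proj.basicOpen 𝒜 f ≤ ⊤)
        (show Γ(GrTwist.twist 𝒜 ((2 : ℕ) : ℤ), ⊤) from GrTwist.globalOf 𝒜 ⟨a * b, hab⟩) := by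
    refine TwistLib.G.sectN_ext fun y => (GrTwist.coe_smul_val _ y.1 _ _).trans ?_
    refine (congrArg (· * _) (TwistLib.G.val_awayToSection_mk hf 2 (a * b) hab2 y)).trans ?_
    exact (Localization.mk_mul _ _ _ _).trans (Localization.mk_eq_mk_iff.2 (Localization.r_iff_exists.2
      ⟨1, by simp only [Submonoid.coe_mul, Submonoid.coe_one]; ring⟩))
  rw [hmul]
  have h := congrArg (fun z => resM _ e (PicLib.pullSec r z)) hrel
  simp only [PicLib.pullSec_smul, resM_smul, ← resM_pullSec, resM_resM] at h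
  exact h

end deg2

variable {k : Type u} [Field k] {n : ℕ} {T : Scheme.{u}} [T.Over (Spec (CommRingCat.of k))]

local notation "PGr" => CohB1.polyGrading n k

/-- The quadratic monomials restricted to a scheme over projective space. -/
noncomputable def qsec (r : T ⟶ CohB1.ProjSpace n k) (p : Fin (n + 1) × Fin (n + 1)) :
    Γ((Scheme.Modules.pullback r).obj (GrTwist.twist PGr ((2 : ℕ) : ℤ)), ⊤) :=
  PicLib.pullSec r (show Γ(GrTwist.twist PGr ((2 : ℕ) : ℤ), ⊤) from GrTwist.globalOf PGr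
    ⟨MvPolynomial.X p.1 * MvPolynomial.X p.2,
      (MvPolynomial.isHomogeneous_X k p.1).mul (MvPolynomial.isHomogeneous_X k p.2)⟩)

/-- If the linear forms have codimension at most one in the sections of `O(1)` on a finite subscheme, the quadrics
give all sections of `O(2)`. -/
theorem quadrics_span [Finite T] [DiscreteTopology T] [IsProper (T ↘ Spec (CommRingCat.of k))]
    (r : T ⟶ CohB1.ProjSpace n k) [IsClosedImmersion r]
    (hr : r ≫ CohB1.ProjSpace.toSpec n k = T ↘ Spec (CommRingCat.of k))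
    (v : Γ((Scheme.Modules.pullback r).obj (GrTwist.twist PGr ((1 : ℕ) : ℤ)), ⊤))
    (hv : ∀ t : Γ((Scheme.Modules.pullback r).obj (GrTwist.twist PGr ((1 : ℕ) : ℤ)), ⊤),
      ∃ (c : Fin (n + 1) → k) (d : k), t = (∑ i, baseHom k T (c i) •
        xsec r i) +
          baseHom k T d • v)
    (t : Γ((Scheme.Modules.pullback r).obj (GrTwist.twist PGr ((2 : ℕ) : ℤ)), ⊤)) :
    ∃ d : Fin (n + 1) × Fin (n + 1) → k, t = ∑ p, baseHom k T (d p) • qsec r p := by
  classical
  haveI := isNoetherian_of_proper k (X := T)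
  haveI : IsAffineHom r := inferInstance
  letI : Algebra k Γ(T, ⊤) := (baseHom k T).toAlgebra
  haveI : Module.Finite k Γ(T, ⊤) := by
    haveI := finite_HH_of_isCoh k (isCoh_structureModule T) 0
    haveI : Module.Finite k (GA (baseHom k T) (Coh.structureModule T)) :=
      Module.Finite.equiv (hhZero k (Coh.structureModule T))
    exact Module.Finite.equiv
      ({ toFun := fun a => (show Γ(T, ⊤) from a), map_add' := fun _ _ => rfl, map_smul' := fun _ _ => rfl,
         invFun := fun a => (show Γ(Coh.structureModule T, ⊤) from a), left_inv := fun _ => rfl,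
         right_inv := fun _ => rfl } : GA (baseHom k T) (Coh.structureModule T) ≃ₗ[k] Γ(T, ⊤))
  have hX : ∀ i, MvPolynomial.X i ∈ PGr 1 := fun i => MvPolynomial.isHomogeneous_X k i
  have hX2 : ∀ i l, MvPolynomial.X i * MvPolynomial.X l ∈ PGr 2 := fun i l => (hX i).mul (hX l)
  have hcov := UPLib.exists_degOne (HypLib.hgen (R := k) n)
  let M₁ := (Scheme.Modules.pullback r).obj (GrTwist.twist PGr ((1 : ℕ) : ℤ))
  let M₂ := (Scheme.Modules.pullback r).obj (GrTwist.twist PGr ((2 : ℕ) : ℤ))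
  have hO₁ := TwistLib.G.isInvertible_twist hcov ((1 : ℕ) : ℤ)
  have hO₂ := TwistLib.G.isInvertible_twist hcov ((2 : ℕ) : ℤ)
  have htriv : ∀ {M : T.Modules}, PicF.IsInvertible M → ∃ g : Γ(M, ⊤), IsGen M ⊤ g := by
    intro M hM
    obtain ⟨U, hU, -, -, ⟨e⟩⟩ := exists_triv_of_finite hM (isAffineOpen_top T) Set.univ Set.finite_univ
      (fun _ _ => trivial)
    obtain rfl : U = ⊤ := top_le_iff.1 fun x _ => hU (Set.mem_univ x)
    exact exists_isGen_of_iso e
  obtain ⟨g₁, hg₁⟩ := htriv (PicLoc.isInvertible_pullback r hO₁)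
  obtain ⟨g₂, hg₂⟩ := htriv (PicLoc.isInvertible_pullback r hO₂)
  have hco : ∀ {M : T.Modules} {g : Γ(M, ⊤)} (hg : IsGen M ⊤ g) (m : Γ(M, ⊤)), ∃ a : Γ(T, ⊤), a • g = m :=
    fun hg m => by
      obtain ⟨a, ha⟩ := (hg ⊤ le_rfl).2 m
      exact ⟨a, by simpa only [resM_self] using ha⟩
  let x : Fin (n + 1) → Γ(M₁, ⊤) := fun i => PicLib.pullSec r (UPLib.sec (𝒜 := PGr) (MvPolynomial.X i) (hX i))
  let q : Fin (n + 1) × Fin (n + 1) → Γ(M₂, ⊤) := fun p => PicLib.pullSec r
    (show Γ(GrTwist.twist PGr ((2 : ℕ) : ℤ), ⊤) from GrTwist.globalOf PGr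
      ⟨MvPolynomial.X p.1 * MvPolynomial.X p.2, hX2 p.1 p.2⟩)
  choose f hf using fun i => hco hg₁ (x i)
  choose h hh using fun p => hco hg₂ (q p)
  let D : Fin (n + 1) → T.Opens := fun i => r ⁻¹ᵁ Proj.basicOpen PGr (MvPolynomial.X i)
  have hD : ∀ i, D i = T.basicOpen (f i) := fun i => by
    have h1 := glocus_inf (x i) hg₁
    rw [inf_top_eq, show hg₁.coef le_rfl (resM M₁ le_top (x i)) = f i from hg₁.coef_eq le_rfl (by
      rw [resM_self, resM_self, hf])] at h1
    rw [← h1]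
    exact ((glocus_pullSec r hO₁ _).trans (congrArg (r ⁻¹ᵁ ·) (UPLib.glocus_sec (HypLib.hgen n) (hX i)))).symm
  have hDq : ∀ i, D i ≤ T.basicOpen (h (i, i)) := fun i => by
    have h1 := glocus_inf (q (i, i)) hg₂
    rw [inf_top_eq, show hg₂.coef le_rfl (resM M₂ le_top (q (i, i))) = h (i, i) from hg₂.coef_eq le_rfl (by
      rw [resM_self, resM_self, hh])] at h1
    rw [← h1]
    refine le_trans ?_ (glocus_pullSec r hO₂ _).ge
    refine r.preimage_mono (le_trans (TwistLib.G.basicOpen_le_glocus_globalOf (i := 2) (hX i)) (le_of_eq ?_))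
    exact congrArg (glocus _) (congrArg (fun z => GrTwist.globalOf PGr z) (Subtype.ext (pow_two _)))
  have hDcov : ∀ y : T, ∃ i, y ∈ D i := fun y => by
    obtain ⟨p, hp, hpy⟩ := hcov (r y)
    by_contra! hc
    obtain ⟨co, rfl⟩ := UPLib.exists_eq_ι (𝒮 := PGr) (UPLib.linForm_mem n) (UPLib.isSymmetricAlgebra_linForm n) hp
    rw [UPLib.linForm, Module.Basis.constr_apply_fintype] at hpy
    refine hpy (Submodule.sum_mem _ fun i _ => ?_)
    rw [Algebra.smul_def]
    refine Ideal.mul_mem_left _ _ ?_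
    by_contra hi
    exact hc i hi
  -- ratios on the charts
  let φ : ∀ i, Away PGr (MvPolynomial.X (R := k) i) →+* Γ(T, D i) := fun i =>
    (Proj.awayToSection PGr (MvPolynomial.X i) ≫ r.appLE _ (D i) le_rfl).hom
  let ρ : ∀ i, Fin (n + 1) → Γ(T, D i) := fun i l =>
    φ i (Away.mk PGr (hX i) 1 (MvPolynomial.X l) (by simpa using hX l))
  let res' : ∀ i, Γ(T, ⊤) →+* Γ(T, D i) := fun i => PicLib.res (le_top : D i ≤ ⊤)
  have hρ : ∀ i l, res' i (f l) = ρ i l * res' i (f i) := fun i l => by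
    refine (hg₁ (D i) le_top).1 ?_
    show res' i (f l) • resM M₁ le_top g₁ = (ρ i l * res' i (f i)) • resM M₁ le_top g₁
    rw [mul_smul, ← resM_smul, ← resM_smul, hf, hf]
    exact (UPLib.appLE_smul_sec (hX i) r (D i) le_rfl _ (by simpa using hX l)).symm
  have hρ2 : ∀ i a b, res' i (h (a, b)) = ρ i a * ρ i b * res' i (h (i, i)) := fun i a b => by
    refine (hg₂ (D i) le_top).1 ?_
    show res' i (h (a, b)) • resM M₂ le_top g₂ = (ρ i a * ρ i b * res' i (h (i, i))) • resM M₂ le_top g₂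
    rw [mul_smul (ρ i a * ρ i b), ← resM_smul, ← resM_smul, hh, hh]
    rw [show ρ i a * ρ i b = φ i (Away.mk PGr (hX i) 1 (MvPolynomial.X a) (by simpa using hX a) *
      Away.mk PGr (hX i) 1 (MvPolynomial.X b) (by simpa using hX b)) from (map_mul (φ i) _ _).symm]
    exact (appLE_smul_pullSec_two (hX i) r (D i) le_rfl _ _ _ _ (hX2 i i) (hX2 a b)).symm
  have hspan : ∀ N : ℕ, Ideal.span (Set.range fun i => f i ^ N) = ⊤ := by
    have h1 : Ideal.span (Set.range f) = ⊤ := by
      refine (IsAffineOpen.iSup_basicOpen_eq_self_iff (isAffineOpen_top T)).1 (top_le_iff.1 fun y _ => ?_)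
      obtain ⟨i, hi⟩ := hDcov y
      exact Opens.mem_iSup.2 ⟨⟨f i, i, rfl⟩, (hD i).le hi⟩
    intro N
    have := Ideal.span_pow_eq_top _ h1 N
    rwa [← Set.range_comp] at this
  obtain ⟨c, hc⟩ := Ideal.mem_span_range_iff_exists_fun.1 ((hspan 2).ge (Submodule.mem_top : (1 : Γ(T, ⊤)) ∈ ⊤))
  let ε := ∑ i, c i * h (i, i)
  have hext : ∀ a b : Γ(T, ⊤), (∀ m, res' m a = res' m b) → a = b := fun a b hab =>
    TopCat.Sheaf.eq_of_locally_eq' T.sheaf D ⊤ (fun i => homOfLE le_top)
      (fun y _ => Opens.mem_iSup.2 (hDcov y)) a b hab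
  have hε : ∀ a b, h (a, b) = ε * (f a * f b) := fun a b => hext _ _ fun m => by
    have h1 : res' m (∑ i, c i * f i ^ 2) = 1 := by rw [hc, map_one]
    rw [map_sum] at h1
    rw [map_mul, map_mul, map_sum, hρ m a, hρ m b, hρ2 m a b]
    calc ρ m a * ρ m b * res' m (h (m, m))
        = (ρ m a * ρ m b * res' m (h (m, m))) * ∑ i, res' m (c i * f i ^ 2) := by rw [h1, mul_one]
      _ = (∑ i, res' m (c i * h (i, i))) * (ρ m a * res' m (f m) * (ρ m b * res' m (f m))) := by
        rw [Finset.mul_sum, Finset.sum_mul]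
        refine Finset.sum_congr rfl fun i _ => ?_
        rw [map_mul, map_mul, map_pow, hρ m i, hρ2 m i i]
        ring
  have hεtop : Ideal.span {ε} = ⊤ := by
    refine (IsAffineOpen.iSup_basicOpen_eq_self_iff (isAffineOpen_top T)).1 (top_le_iff.1 fun y _ => ?_)
    obtain ⟨i, hi⟩ := hDcov y
    have h1 := hDq i hi
    rw [hε, Scheme.basicOpen_mul] at h1
    exact Opens.mem_iSup.2 ⟨⟨ε, rfl⟩, h1.1⟩
  obtain ⟨ε', hε'⟩ := Ideal.mem_span_singleton'.1 (hεtop.ge (Submodule.mem_top : (1 : Γ(T, ⊤)) ∈ ⊤))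
  -- the span of the linear forms
  let V : Submodule k Γ(T, ⊤) := Submodule.span k (Set.range f)
  have hlin : ∀ m (p : MvPolynomial (Fin (n + 1)) k) (hp : p ∈ PGr (1 • 1)),
      ∃ P ∈ V, res' m P = φ m (Away.mk PGr (hX m) 1 p hp) * res' m (f m) := by
    intro m p hp
    have hp1 : p ∈ PGr 1 := by simpa using hp
    obtain ⟨co, rfl⟩ : ∃ co, UPLib.linForm n co = p := UPLib.exists_eq_ι (𝒮 := PGr) (UPLib.linForm_mem n)
      (UPLib.isSymmetricAlgebra_linForm n) hp1
    refine ⟨∑ i, co i • f i, Submodule.sum_mem _ fun i _ => Submodule.smul_mem _ _ (Submodule.subset_span ⟨i, rfl⟩), ?_⟩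
    refine (hg₁ (D m) le_top).1 ?_
    show res' m (∑ i, co i • f i) • resM M₁ le_top g₁ =
      (φ m (Away.mk PGr (hX m) 1 (UPLib.linForm n co) hp) * res' m (f m)) • resM M₁ le_top g₁
    rw [mul_smul, ← resM_smul, ← resM_smul, hf, Finset.sum_smul]
    have e1 : ∑ i, (co i • f i) • g₁ = ∑ i, ProjUP.toGlobal (r ≫ CohB1.ProjSpace.toSpec n k) (co i) • x i :=
      Finset.sum_congr rfl fun i _ => by
        rw [Algebra.smul_def, mul_smul, hf, hr]
        rfl
    rw [e1]
    have key := UPLib.appLE_smul_sec (𝒜 := PGr) (hX m) r (D m) le_rfl (UPLib.linForm n co) hp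
    refine Eq.trans ?_ key.symm
    exact congrArg (resM M₁ le_top) (pullSec_linForm r co).symm
  have hhom : ∀ (m : Fin (n + 1)) (N : ℕ), ∀ p ∈ (PGr 1) ^ (N + 1), ∀ hp : p ∈ PGr ((N + 1) • 1),
      ∃ P ∈ V ^ (N + 1), res' m P = φ m (Away.mk PGr (hX m) (N + 1) p hp) * res' m (f m) ^ (N + 1) := by
    intro m N
    induction N with
    | zero =>
      intro p _ hp
      obtain ⟨P, hP, hP'⟩ := hlin m p hp
      exact ⟨P, by rwa [pow_one], by rw [pow_one]; exact hP'⟩
    | succ N ih =>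
      intro p hp
      rw [pow_succ] at hp
      induction hp using Submodule.mul_induction_on' with
      | mem_mul_mem a ha b hb =>
        intro hp'
        have ha' : a ∈ PGr ((N + 1) • 1) := by
          rw [smul_eq_mul, mul_one]
          show a ∈ MvPolynomial.homogeneousSubmodule _ _ (N + 1)
          rw [← MvPolynomial.homogeneousSubmodule_one_pow (σ := Fin (n + 1)) (R := k) (N + 1)]
          exact ha
        have hb' : b ∈ PGr (1 • 1) := by simpa using hb
        obtain ⟨P, hP, hP'⟩ := ih a ha ha'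
        obtain ⟨Q, hQ, hQ'⟩ := hlin m b hb'
        refine ⟨P * Q, pow_succ V (N + 1) ▸ Submodule.mul_mem_mul hP hQ, ?_⟩
        have e : Away.mk PGr (hX m) (N + 1 + 1) (a * b) hp' =
            Away.mk PGr (hX m) (N + 1) a ha' * Away.mk PGr (hX m) 1 b hb' := by
          refine HomogeneousLocalization.val_injective _ ?_
          rw [HomogeneousLocalization.val_mul, Away.val_mk, Away.val_mk, Away.val_mk, Localization.mk_mul]
          exact Localization.mk_eq_mk_iff.2 (Localization.r_iff_exists.2 ⟨1, by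
            simp only [Submonoid.coe_mul, Submonoid.coe_one]; ring⟩)
        rw [e, map_mul, map_mul, hP', hQ']
        ring
      | add a ha b hb iha ihb =>
        intro hp'
        have hmem : ∀ c ∈ PGr 1 ^ (N + 1) * PGr 1, c ∈ PGr ((N + 1 + 1) • 1) := fun c hc => by
          rw [smul_eq_mul, mul_one]
          show c ∈ MvPolynomial.homogeneousSubmodule _ _ (N + 1 + 1)
          rw [← MvPolynomial.homogeneousSubmodule_one_pow (σ := Fin (n + 1)) (R := k) (N + 1 + 1), pow_succ]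
          exact hc
        obtain ⟨P, hP, hP'⟩ := iha (hmem a ha)
        obtain ⟨Q, hQ, hQ'⟩ := ihb (hmem b hb)
        refine ⟨P + Q, Submodule.add_mem _ hP hQ, ?_⟩
        have e : Away.mk PGr (hX m) (N + 1 + 1) (a + b) hp' =
            Away.mk PGr (hX m) (N + 1 + 1) a (hmem a ha) + Away.mk PGr (hX m) (N + 1 + 1) b (hmem b hb) := by
          refine HomogeneousLocalization.val_injective _ ?_
          rw [HomogeneousLocalization.val_add, Away.val_mk, Away.val_mk, Away.val_mk, Localization.add_mk_self]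
        rw [e, map_add, map_add, hP', hQ', add_mul]
  have hfmem : ∀ m N, f m ^ N ∈ V ^ N := fun m N => Submodule.pow_mem_pow V (show f m ∈ V from Submodule.subset_span ⟨m, rfl⟩) N
  have hkill : ∀ m a, ∃ N, f m ^ N * a ∈ V ^ N := by
    intro m a
    have hsurj : Function.Surjective (r.app (Proj.basicOpen PGr (MvPolynomial.X m))).hom :=
      r.app_surjective _ (Proj.isAffineOpen_basicOpen _ _ (hX m) one_pos)
    obtain ⟨s, hs⟩ := hsurj (res' m a)
    obtain ⟨u', hu'⟩ : ∃ u', (Proj.awayToSection PGr (MvPolynomial.X m)).hom u' = s :=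
      ⟨(Proj.basicOpenIsoAway PGr (MvPolynomial.X m) (hX m) one_pos).inv.hom s,
        ConcreteCategory.congr_hom (Proj.basicOpenIsoAway PGr (MvPolynomial.X m) (hX m) one_pos).inv_hom_id s⟩
    obtain ⟨N, p, hp, rfl⟩ := Away.mk_surjective PGr (hX m) u'
    have hp' : p * MvPolynomial.X m ∈ PGr ((N + 1) • 1) := by
      have := SetLike.mul_mem_graded hp (hX m)
      simpa using this
    have he : Away.mk PGr (hX m) N p hp = Away.mk PGr (hX m) (N + 1) (p * MvPolynomial.X m) hp' := by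
      refine HomogeneousLocalization.val_injective _ ?_
      rw [Away.val_mk, Away.val_mk]
      exact Localization.mk_eq_mk_iff.2 (Localization.r_iff_exists.2 ⟨1, by
        simp only [Submonoid.coe_one]; ring⟩)
    obtain ⟨P, hP, hP'⟩ := hhom m N (p * MvPolynomial.X m) (by
      show p * MvPolynomial.X m ∈ MvPolynomial.homogeneousSubmodule _ _ 1 ^ (N + 1)
      rw [MvPolynomial.homogeneousSubmodule_one_pow]
      simpa [smul_eq_mul] using hp') hp'
    have hφ : φ m (Away.mk PGr (hX m) N p hp) = res' m a := by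
      rw [← hs, ← hu']
      show (r.appLE _ (D m) le_rfl).hom _ = (r.app _).hom _
      rw [Scheme.Hom.app_eq_appLE]
      rfl
    rw [← he, hφ, ← map_pow, ← map_mul] at hP'
    haveI := (isAffineOpen_top T).isLocalization_basicOpen (f m)
    have h1 : PicLib.res (le_top : T.basicOpen (f m) ≤ ⊤) P =
        PicLib.res (le_top : T.basicOpen (f m) ≤ ⊤) (a * f m ^ (N + 1)) := by
      have := congrArg (PicLib.res (hD m).ge) hP'
      rwa [PicLib.res_res, PicLib.res_res] at this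
    obtain ⟨⟨_, M, rfl⟩, hM⟩ := (IsLocalization.eq_iff_exists (Submonoid.powers (f m)) Γ(T, T.basicOpen (f m))).1 h1
    refine ⟨M + (N + 1), ?_⟩
    rw [show f m ^ (M + (N + 1)) * a = f m ^ M * (a * f m ^ (N + 1)) by ring,
      show f m ^ M * (a * f m ^ (N + 1)) = f m ^ M * P from hM.symm, pow_add]
    exact Submodule.mul_mem_mul (hfmem m M) hP
  have hmono : ∀ m a N N', N ≤ N' → f m ^ N * a ∈ V ^ N → f m ^ N' * a ∈ V ^ N' := fun m a N N' hle ha => by
    obtain ⟨e, rfl⟩ := Nat.exists_eq_add_of_le hle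
    rw [add_comm, pow_add, pow_add, mul_assoc]
    exact Submodule.mul_mem_mul (hfmem m e) ha
  obtain ⟨G, hG⟩ := (Module.Finite.fg_top : (⊤ : Submodule k Γ(T, ⊤)).FG)
  choose Nf hNf using hkill
  let N := ((Finset.univ ×ˢ G).sup fun p => Nf p.1 p.2) + 1
  have hall : ∀ m a, f m ^ N * a ∈ V ^ N := fun m a => by
    have ha : a ∈ Submodule.span k (G : Set Γ(T, ⊤)) := hG.ge Submodule.mem_top
    induction ha using Submodule.span_induction with
    | mem b hb => exact hmono m b _ _ ((Finset.le_sup (f := fun p : Fin (n + 1) × Γ(T, ⊤) => Nf p.1 p.2)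
        (Finset.mem_product.2 ⟨Finset.mem_univ m, hb⟩ : (m, b) ∈ _)).trans (Nat.le_succ _)) (hNf m b)
    | zero => rw [mul_zero]; exact zero_mem _
    | add b b' _ _ hb hb' => rw [mul_add]; exact Submodule.add_mem _ hb hb'
    | smul κ b _ hb => rw [mul_smul_comm]; exact Submodule.smul_mem _ _ hb
  have hpow : V ^ N = ⊤ := Submodule.eq_top_iff'.2 fun a => by
    obtain ⟨c', hc'⟩ := Ideal.mem_span_range_iff_exists_fun.1 ((hspan N).ge (Submodule.mem_top : (1 : Γ(T, ⊤)) ∈ ⊤))
    rw [← mul_one a, ← hc', Finset.mul_sum]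
    exact Submodule.sum_mem _ fun i _ => by
      rw [show a * (c' i * f i ^ N) = f i ^ N * (a * c' i) by ring]
      exact hall i _
  obtain ⟨v₀, hv₀⟩ := hco hg₁ v
  have hcodim : ∀ a : Γ(T, ⊤), ∃ s ∈ V, ∃ d : k, a = s + d • v₀ := fun a => by
    obtain ⟨co, d, hcd⟩ := hv (a • g₁)
    refine ⟨∑ i, co i • f i, Submodule.sum_mem _ fun i _ => Submodule.smul_mem _ _ (Submodule.subset_span ⟨i, rfl⟩),
      d, (hg₁ ⊤ le_rfl).1 ?_⟩
    simp only [resM_self]
    rw [hcd, add_smul, Finset.sum_smul]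
    congr 1
    · refine Finset.sum_congr rfl fun i _ => ?_
      rw [Algebra.smul_def, mul_smul, hf]
      rfl
    · rw [Algebra.smul_def, mul_smul, hv₀]
      rfl
  have hVV := mul_self_eq_top V (Nat.succ_ne_zero _) hpow v₀ hcodim
  obtain ⟨a, rfl⟩ := hco hg₂ t
  have hmem : ε' * a ∈ Submodule.span k (Set.range fun p : Fin (n + 1) × Fin (n + 1) => f p.1 * f p.2) := by
    have h1 : ε' * a ∈ V * V := hVV.ge Submodule.mem_top
    rw [Submodule.span_mul_span] at h1
    refine Submodule.span_mono ?_ h1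
    rintro _ ⟨_, ⟨i, rfl⟩, _, ⟨l, rfl⟩, rfl⟩
    exact ⟨(i, l), rfl⟩
  obtain ⟨d, hd⟩ := Submodule.mem_span_range_iff_exists_fun k |>.1 hmem
  refine ⟨d, ?_⟩
  have ha : a = ∑ p, d p • h p := by
    calc a = ε * (ε' * a) := by rw [← mul_assoc, mul_comm ε ε', hε', one_mul]
      _ = ∑ p, d p • h p := by
        rw [← hd, Finset.mul_sum]
        exact Finset.sum_congr rfl fun p _ => by rw [mul_smul_comm, ← hε]
  rw [ha, Finset.sum_smul]
  refine Finset.sum_congr rfl fun p _ => ?_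
  rw [Algebra.smul_def, mul_smul, hh]
  rfl

end Groth.Agent.SurfBl13
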