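import Mathlib

/-!
# A generating subspace of codimension one has all the quadrics
-/

set_option autoImplicit false

universe u

open TensorProduct
open scoped Pointwise

namespace Groth.Agent.SurfBl13

variable {k : Type u} [Field k]

/-- Over an infinite field, a subspace of codimension at most one of a finite algebra whose powers fill the algebra
has products filling the algebra. -/
theorem mul_self_eq_top_of_infinite [Infinite k] {A : Type u} [CommRing A] [Algebra k A] [Module.Finite k A]
    (V : Submodule k A) {N : ℕ} (hN : N ≠ 0) (hpow : V ^ N = ⊤) (v : A)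
    (hv : ∀ a, ∃ s ∈ V, ∃ c : k, a = s + c • v) : V * V = ⊤ := by
  haveI : IsArtinianRing A := IsArtinianRing.of_finite k A
  have hfin : {m : Ideal A | m.IsMaximal}.Finite :=
    (IsArtinianRing.setOf_isMaximal_finite A)
  haveI := hfin.to_subtype
  let p : {m : Ideal A | m.IsMaximal} → Submodule k V := fun m =>
    (m.1.restrictScalars k).comap V.subtype
  have hp : ∀ m, p m ≠ ⊤ := fun m htop => by
    have hle : V ≤ m.1.restrictScalars k := fun x hx =>
      Submodule.eq_top_iff'.1 htop ⟨x, hx⟩
    refine m.2.ne_top ((Ideal.eq_top_iff_one _).2 ?_)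
    have h1 : (1 : A) ∈ V ^ N := hpow ▸ Submodule.mem_top
    have h2 : V ^ N ≤ m.1.restrictScalars k := by
      obtain ⟨M, rfl⟩ := Nat.exists_eq_succ_of_ne_zero hN
      rw [pow_succ, Submodule.mul_le]
      intro a _ b hb
      exact Ideal.mul_mem_left _ a (hle hb)
    exact h2 h1
  obtain ⟨u, hu⟩ := Submodule.exists_forall_notMem_of_forall_ne_top p hp
  have hunit : IsUnit (u : A) := by
    by_contra h
    obtain ⟨m, hm, hum⟩ := exists_max_ideal_of_mem_nonunits (show (u : A) ∈ nonunits A from h)
    exact hu ⟨m, hm⟩ hum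
  obtain ⟨e, he⟩ := hunit
  let L : A →ₗ[k] A := LinearMap.mulLeft k (↑e⁻¹ : A)
  let W : Submodule k A := V.map L
  have h1W : (1 : A) ∈ W := ⟨u, u.2, by simp [L, ← he]⟩
  have hWpow : ∀ n, W ^ n = (V ^ n).map (LinearMap.mulLeft k ((↑e⁻¹ : A) ^ n)) := by
    intro n
    induction n with
    | zero => simp
    | succ n ih =>
      rw [pow_succ, ih, pow_succ]
      refine le_antisymm (Submodule.mul_le.2 ?_) (Submodule.map_le_iff_le_comap.2 (Submodule.mul_le.2 ?_))
      · rintro _ ⟨a, ha, rfl⟩ _ ⟨b, hb, rfl⟩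
        exact ⟨a * b, Submodule.mul_mem_mul ha hb, by simp [L]; ring⟩
      · intro a ha b hb
        have : LinearMap.mulLeft k ((↑e⁻¹ : A) ^ (n + 1)) (a * b) =
            LinearMap.mulLeft k ((↑e⁻¹ : A) ^ n) a * L b := by simp [L]; ring
        rw [Submodule.mem_comap, ← pow_succ]
        rw [this]
        exact Submodule.mul_mem_mul ⟨a, ha, rfl⟩ ⟨b, hb, rfl⟩
  have htop : ∀ n, (⊤ : Submodule k A).map (LinearMap.mulLeft k ((↑e⁻¹ : A) ^ n)) = ⊤ := fun n =>
    Submodule.eq_top_iff'.2 fun a => ⟨(↑e : A) ^ n * a, trivial, by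
      simp [← mul_assoc, ← mul_pow]⟩
  have hW : W ^ N = ⊤ := by rw [hWpow, hpow, htop]
  have hle : W ≤ W * W := fun w hw => by simpa using Submodule.mul_mem_mul hw h1W
  have hWW : W * W = ⊤ := by
    by_cases hsub : W * W ≤ W
    · have : ∀ n, W ^ (n + 1) ≤ W := by
        intro n
        induction n with
        | zero => simp
        | succ n ih => rw [pow_succ]; exact (mul_le_mul_left ih W).trans hsub
      obtain ⟨M, rfl⟩ := Nat.exists_eq_succ_of_ne_zero hN
      exact top_le_iff.1 (hW.ge.trans ((this M).trans hle))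
    · obtain ⟨w, hw, hwW⟩ := SetLike.not_le_iff_exists.1 hsub
      obtain ⟨s, hs, c, hc⟩ := hv ((↑e : A) * w)
      have hc0 : c ≠ 0 := fun h => hwW ⟨s, hs, by
        rw [h, zero_smul, add_zero] at hc
        simp [L, ← hc]⟩
      have hvW : L v ∈ W * W := by
        have : L v = c⁻¹ • (w - L s) := by
          have h2 : L ((↑e : A) * w) = w := by simp [L]
          rw [hc, map_add, map_smul] at h2
          rw [← h2, add_sub_cancel_left, smul_smul, inv_mul_cancel₀ hc0, one_smul]
        rw [this]
        exact Submodule.smul_mem _ _ (Submodule.sub_mem _ hw (hle ⟨s, hs, rfl⟩))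
      refine Submodule.eq_top_iff'.2 fun a => ?_
      obtain ⟨t, ht, d, hd⟩ := hv ((↑e : A) * a)
      have : a = L t + d • L v := by rw [← map_smul, ← map_add, ← hd]; simp [L]
      rw [this]
      exact Submodule.add_mem _ (hle ⟨t, ht, rfl⟩) (Submodule.smul_mem _ _ hvW)
  rw [← pow_two, hWpow] at hWW
  rw [← pow_two]
  refine top_le_iff.1 fun a _ => ?_
  obtain ⟨b, hb, hab⟩ := hWW.ge (Submodule.mem_top : (↑e⁻¹ : A) ^ 2 * a ∈ ⊤)
  have : b = a := by
    simp only [LinearMap.mulLeft_apply] at hab
    exact ((e⁻¹).isUnit.pow 2).mul_left_cancel hab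
  exact this ▸ hb

/-- A subspace of codimension at most one of a finite algebra whose powers fill the algebra has products filling
the algebra. -/
theorem mul_self_eq_top {A : Type u} [CommRing A] [Algebra k A] [Module.Finite k A]
    (V : Submodule k A) {N : ℕ} (hN : N ≠ 0) (hpow : V ^ N = ⊤) (v : A)
    (hv : ∀ a, ∃ s ∈ V, ∃ c : k, a = s + c • v) : V * V = ⊤ := by
  classical
  let K := AlgebraicClosure k
  let inc : A →ₐ[k] K ⊗[k] A := Algebra.TensorProduct.includeRight
  let U : Submodule K (K ⊗[k] A) := Submodule.span K (inc '' V)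
  have hpow' : ∀ n, ∀ a ∈ V ^ n, inc a ∈ U ^ n := by
    intro n
    induction n with
    | zero =>
      intro a ha
      rw [pow_zero, Submodule.mem_one] at ha
      obtain ⟨c, rfl⟩ := ha
      rw [pow_zero, Submodule.mem_one, AlgHom.commutes]
      exact ⟨algebraMap k K c, (IsScalarTower.algebraMap_apply k K (K ⊗[k] A) c).symm⟩
    | succ n ih =>
      intro a ha
      rw [pow_succ] at ha ⊢
      induction ha using Submodule.mul_induction_on' with
      | mem_mul_mem x hx y hy =>
        rw [map_mul]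
        exact Submodule.mul_mem_mul (ih x hx) (Submodule.subset_span ⟨y, hy, rfl⟩)
      | add x _ y _ hx hy => rw [map_add]; exact Submodule.add_mem _ hx hy
  have hspan : ∀ {W : Submodule K (K ⊗[k] A)}, (∀ a, inc a ∈ W) → W = ⊤ := fun {W} h =>
    Submodule.eq_top_iff'.2 fun z => by
      induction z using TensorProduct.induction_on with
      | zero => exact zero_mem _
      | add x y hx hy => exact Submodule.add_mem _ hx hy
      | tmul c a =>
        have : c ⊗ₜ[k] a = c • inc a := by simp [inc, TensorProduct.smul_tmul']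
        exact this ▸ Submodule.smul_mem _ _ (h a)
  have hU : U ^ N = ⊤ := hspan fun a => hpow' N a (hpow ▸ Submodule.mem_top)
  have hv' : ∀ z : K ⊗[k] A, ∃ s ∈ U, ∃ c : K, z = s + c • inc v := by
    intro z
    induction z using TensorProduct.induction_on with
    | zero => exact ⟨0, zero_mem _, 0, by simp⟩
    | add x y hx hy =>
      obtain ⟨s, hs, c, rfl⟩ := hx
      obtain ⟨s', hs', c', rfl⟩ := hy
      exact ⟨s + s', Submodule.add_mem _ hs hs', c + c', by rw [add_smul]; abel⟩
    | tmul d a =>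
      obtain ⟨s, hs, c, rfl⟩ := hv a
      refine ⟨d • inc s, Submodule.smul_mem _ _ (Submodule.subset_span ⟨s, hs, rfl⟩), d * algebraMap k K c, ?_⟩
      have : d ⊗ₜ[k] (s + c • v) = d • inc (s + c • v) := by simp [inc, TensorProduct.smul_tmul']
      rw [this, map_add, smul_add, map_smul, mul_smul, algebraMap_smul]
  have hUU := mul_self_eq_top_of_infinite U hN hU (inc v) hv'
  by_contra hne
  obtain ⟨φ, hφ0, hφ⟩ := Submodule.exists_le_ker_of_lt_top (V * V) (lt_top_iff_ne_top.2 hne)
  let φK : K ⊗[k] A →ₗ[K] K ⊗[k] k := φ.baseChange K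
  have h1 : U * U ≤ LinearMap.ker φK := by
    rw [show U * U = Submodule.span K (inc '' V * inc '' V) from Submodule.span_mul_span _ _ _, Submodule.span_le]
    rintro _ ⟨_, ⟨x, hx, rfl⟩, _, ⟨y, hy, rfl⟩, rfl⟩
    show φK (inc x * inc y) = 0
    rw [← map_mul]
    show (1 : K) ⊗ₜ[k] φ (x * y) = 0
    rw [show φ (x * y) = 0 from hφ (Submodule.mul_mem_mul hx hy), tmul_zero]
  rw [hUU, top_le_iff, LinearMap.ker_eq_top] at h1
  refine hφ0 (LinearMap.ext fun a => ?_)
  have h2 : (1 : K) ⊗ₜ[k] φ a = 0 := LinearMap.congr_fun h1 (1 ⊗ₜ a)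
  have h3 := congrArg (TensorProduct.rid k K) h2
  rw [TensorProduct.rid_tmul, map_zero] at h3
  exact (smul_eq_zero.1 h3).resolve_right one_ne_zero

end Groth.Agent.SurfBl13
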