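import Groth.Agent.SurfBl13.Finite

/-!
# Global generation on the exceptional divisor near a point of the centre
-/

set_option autoImplicit false
set_option linter.style.haveILetI false
set_option backward.isDefEq.respectTransparency.types false
set_option maxHeartbeats 1000000

universe u

open CategoryTheory CategoryTheory.Limits AlgebraicGeometry TopologicalSpace Opposite
open Groth.Agent.Coherent Groth.Agent.PicLib Groth.Agent.AmpleLib

namespace Groth.Agent.SurfBl13

variable {X : Scheme.{u}}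

/-- The restriction of a finite locally free module to an open. -/
theorem isFinLocFree_restrict {W : X.Modules} (hW : FlatMod.IsFinLocFree W) (O : X.Opens) :
    FlatMod.IsFinLocFree (W.restrict O.ι) :=
  FlatMorAdm.isFinLocFree_of_iso ((Scheme.Modules.restrictFunctorIsoPullback O.ι).app W).symm
    (FlatMorAdm.isFinLocFree_pullback O.ι hW)

/-- Generation on a closed subscheme passes to its intersection with an open. -/
theorem gg_restrict {W : X.Modules} (J : X.IdealSheafData)
    (hgg : Curv2.IsGloballyGenerated ((Scheme.Modules.pullback J.subschemeι).obj W)) (O : X.Opens) :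
    Curv2.IsGloballyGenerated ((Scheme.Modules.pullback (J.comap O.ι).subschemeι).obj (W.restrict O.ι)) := by
  let i := (J.comap O.ι).subschemeι
  let k : (J.comap O.ι).subscheme ⟶ J.subscheme := IsClosedImmersion.lift J.subschemeι (i ≫ O.ι) (by
    rw [Scheme.IdealSheafData.ker_subschemeι]
    refine le_trans ?_ (le_of_eq (Scheme.Hom.ker_comp i O.ι).symm)
    rw [Scheme.IdealSheafData.ker_subschemeι]
    exact Scheme.IdealSheafData.le_map_iff_comap_le.2 le_rfl)
  have hk : k ≫ J.subschemeι = i ≫ O.ι := IsClosedImmersion.lift_fac _ _ _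
  exact AmpleLib.globallyGenerated_of_iso
    ((Scheme.Modules.pullbackComp k J.subschemeι).app W ≪≫ (Scheme.Modules.pullbackCongr hk).app W ≪≫
      ((Scheme.Modules.pullbackComp i O.ι).app W).symm ≪≫
      (Scheme.Modules.pullback i).mapIso ((Scheme.Modules.restrictFunctorIsoPullback O.ι).app W).symm)
    (Desc19b.isGloballyGenerated_pullback k hgg)

variable {S : Scheme.{u}} [IsLocallyNoetherian S] {Z : Closeds S} (b : X ⟶ S)

/-- Near every point the sections over preimages of affines generate a module generated on the exceptional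
divisor; on small affines inside they span. -/
theorem exists_spanning (h : Points Z) (hb : BlowUp.IsBlowUp b (Scheme.IdealSheafData.vanishingIdeal Z))
    {W : X.Modules} (hW : FlatMod.IsFinLocFree W)
    (hgg : Curv2.IsGloballyGenerated ((Scheme.Modules.pullback
      ((Scheme.IdealSheafData.vanishingIdeal Z).comap b).subschemeι).obj W)) (x : S) :
    ∃ U : S.Opens, x ∈ U ∧ IsAffineOpen U ∧ ∀ (T : X.Opens) (hT : T ≤ b ⁻¹ᵁ U), IsAffineOpen T →
      Submodule.span Γ(X, T) (Set.range fun s : Γ(W, b ⁻¹ᵁ U) => resM W hT s) = ⊤ := by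
  haveI : Coh.IsQCoh W := (CohBC.isCoh_of_isFinLocFree hW).1
  by_cases hx : x ∈ Z
  · obtain ⟨U, hxU, -, hgood⟩ := exists_good b hb h x hx
    refine ⟨U.1, hxU, U.2, fun T hT hTa => ?_⟩
    let O := b ⁻¹ᵁ U.1
    have hF := isFinLocFree_restrict hW O
    obtain ⟨-, -, hgen⟩ := hgood.generated hF (gg_restrict _ hgg O)
    haveI : Coh.IsQCoh (W.restrict O.ι) := (CohBC.isCoh_of_isFinLocFree hF).1
    have key : ∀ (T₀ : O.toScheme.Opens), IsAffineOpen T₀ → ∀ (hT₀ : O.ι ''ᵁ T₀ ≤ b ⁻¹ᵁ U.1),
        Submodule.span Γ(X, O.ι ''ᵁ T₀) (Set.range fun s : Γ(W, b ⁻¹ᵁ U.1) => resM W hT₀ s) = ⊤ := by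
      intro T₀ hT₀a hT₀
      have h1 := BlowUpCoh.span_res_eq_top (isGloballyGenerated_of_genAt hgen) hT₀a
      refine Submodule.eq_top_iff'.2 fun m => ?_
      obtain ⟨c, hc⟩ := (Finsupp.mem_span_range_iff_exists_finsupp).1
        (h1.ge (Submodule.mem_top : (show Γ(W.restrict O.ι, T₀) from m) ∈
          (⊤ : Submodule Γ(O.toScheme, T₀) Γ(W.restrict O.ι, T₀))))
      rw [← hc]
      refine Submodule.sum_mem _ fun s _ => ?_
      refine Submodule.smul_mem _ _ (Submodule.subset_span ?_)
      exact ⟨resM W (Scheme.Opens.ι_image_top O).ge (show Γ(W, O.ι ''ᵁ ⊤) from s), resM_resM W _ _ _⟩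
    have hpre : O.ι ''ᵁ (O.ι ⁻¹ᵁ T) = T := by
      rw [O.ι.image_preimage_eq_opensRange_inf, Scheme.Opens.opensRange_ι]; exact inf_eq_right.2 hT
    have hres := key (O.ι ⁻¹ᵁ T) (hTa.preimage_of_isOpenImmersion O.ι (by
      rw [Scheme.Opens.opensRange_ι]; exact hT)) (hpre.le.trans hT)
    have tr : ∀ (T' : X.Opens) (_ : T' = T) (hle : T' ≤ b ⁻¹ᵁ U.1),
        Submodule.span Γ(X, T') (Set.range fun s : Γ(W, b ⁻¹ᵁ U.1) => resM W hle s) = ⊤ →
        Submodule.span Γ(X, T) (Set.range fun s : Γ(W, b ⁻¹ᵁ U.1) => resM W hT s) = ⊤ := by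
      rintro T' rfl _ h'; exact h'
    exact tr _ hpre _ hres
  · obtain ⟨U, J, hJ, t, hxU, hU, ht⟩ := exists_frame_off b hb hW x hx
    refine ⟨U, hxU, hU, fun T hT _ => Submodule.eq_top_iff'.2 fun m => ?_⟩
    obtain ⟨c, hc⟩ := (ht hT).2 m
    rw [← hc]
    exact Submodule.sum_mem _ fun j _ => Submodule.smul_mem _ _ (Submodule.subset_span ⟨t j, rfl⟩)

end Groth.Agent.SurfBl13
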