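import Groth.Agent.SurfBl13.Transfer
import Groth.Agent.VarietyLib.PushEuler
import Groth.Agent.BlowUpCoh.LocFree
import Groth.Agent.EulerLib.CohSub

/-!
# Higher direct images of bundles along the blow-up of smooth points
-/

set_option autoImplicit false
set_option linter.style.haveILetI false
set_option backward.isDefEq.respectTransparency.types false
set_option maxHeartbeats 1000000

universe u

open CategoryTheory CategoryTheory.Abelian CategoryTheory.Limits AlgebraicGeometry TopologicalSpace Opposite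
open Groth.Agent.Coherent Groth.Agent.PicLib Groth.Agent.AmpleLib

namespace Groth.Agent.SurfBl13

/-- Cohomology passes to an open piece with open complement. -/
theorem subsingleton_H'_of_isClopen {T : Scheme.{u}} (M : T.Modules) (n : ℕ) (U : T.Opens)
    (hU : IsClosed (U : Set T)) (h : Subsingleton (Coh.HH T M n)) : Subsingleton (Sheaf.H' (Coh.toAb M) n U) := by
  let V : T.Opens := ⟨(U : Set T)ᶜ, hU.isOpen_compl⟩
  have h0 : Subsingleton (Sheaf.H' (Coh.toAb M) n (⊤ : T.Opens)) := (HHTopEquiv M n).symm.toEquiv.subsingleton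
  rw [show (⊤ : T.Opens) = U ⊔ V from Opens.ext (Set.union_compl_self _).symm] at h0
  refine subsingleton_of_forall_eq 0 fun a => ?_
  have hbot : Subsingleton (Sheaf.H' (Coh.toAb M) n (U ⊓ V)) := by
    rw [show U ⊓ V = ⊥ from Opens.ext (Set.inter_compl_self _)]
    exact subsingleton_H'_bot _ n
  obtain ⟨x, hx, -⟩ := exists_resH_sup (X := T.toTopCat) (U := U) (V := V) (n := n)
    (a := (a : Ext (freeSh (X := T.toTopCat) U) (Coh.toAb M) n)) (b := 0) (hbot.elim _ _)
  rw [← hx, h0.elim x 0]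
  exact map_zero _

/-- Two affines with affine intersection carry no cohomology in degrees at least two. -/
theorem subsingleton_HH_ge_two {T : Scheme.{u}} {U V : T.Opens} (hU : IsAffineOpen U) (hV : IsAffineOpen V)
    (hUV : IsAffineOpen (U ⊓ V)) (hcov : U ⊔ V = ⊤) {F : T.Modules} (hF : Coh.IsQCoh F) (p : ℕ) (hp : 1 < p) :
    Subsingleton (Coh.HH T F p) := by
  haveI := hF
  obtain ⟨q, rfl⟩ : ∃ q, p = q + 1 + 1 := ⟨p - 2, by omega⟩
  suffices h : Subsingleton (Sheaf.H' (Coh.toAb F) (q + 1 + 1) (⊤ : T.Opens)) from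
    (HHTopEquiv F (q + 1 + 1)).subsingleton
  rw [← hcov]
  refine subsingleton_of_forall_eq 0 fun x => ?_
  obtain ⟨w, rfl⟩ := exists_deltaH (X := T.toTopCat) (U := U) (V := V)
    (x := (x : Ext (freeSh (X := T.toTopCat) (U ⊔ V)) (Coh.toAb F) (q + 1 + 1)))
    ((subsingleton_H'_qcoh_pos F hU (by omega)).elim _ _) ((subsingleton_H'_qcoh_pos F hV (by omega)).elim _ _)
  exact (congrArg _ ((subsingleton_H'_qcoh_pos F hUV (Nat.le_add_left 1 q)).elim w 0)).trans (map_zero _)

variable {S : Scheme.{u}} [IsLocallyNoetherian S] {Z : Closeds S} {X : Scheme.{u}} (b : X ⟶ S)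

/-- Cohomology on the exceptional divisor passes to its part over an open isolating a point. -/
theorem subsingleton_restrict {F : X.Modules} {U : S.Opens} {z : S} (hz : IsClosed ({z} : Set S)) (hzU : z ∈ U)
    (hiso : ∀ w ∈ U, w ∈ Z → w = z) (n : ℕ)
    (h : Subsingleton (Coh.HH ((Scheme.IdealSheafData.vanishingIdeal Z).comap b).subscheme
      ((Scheme.Modules.pullback ((Scheme.IdealSheafData.vanishingIdeal Z).comap b).subschemeι).obj F) n)) :
    Subsingleton (Coh.HH (((Scheme.IdealSheafData.vanishingIdeal Z).comap b).comap (b ⁻¹ᵁ U).ι).subscheme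
      ((Scheme.Modules.pullback (((Scheme.IdealSheafData.vanishingIdeal Z).comap b).comap (b ⁻¹ᵁ U).ι).subschemeι).obj
        (F.restrict (b ⁻¹ᵁ U).ι)) n) := by
  let J := (Scheme.IdealSheafData.vanishingIdeal Z).comap b
  let O := b ⁻¹ᵁ U
  let k : (J.comap O.ι).subscheme ⟶ J.subscheme :=
    (J.comapIso O.ι).hom ≫ pullback.snd O.ι J.subschemeι
  haveI : IsOpenImmersion (pullback.snd O.ι J.subschemeι) := MorphismProperty.pullback_snd _ _ inferInstance
  have hk : k ≫ J.subschemeι = (J.comap O.ι).subschemeι ≫ O.ι := by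
    rw [← cancel_epi (J.comapIso O.ι).inv, Category.assoc, Iso.inv_hom_id_assoc,
      Scheme.IdealSheafData.comapIso_inv_subschemeι_assoc, pullback.condition]
  let G := (Scheme.Modules.pullback J.subschemeι).obj F
  have hrange : (k ''ᵁ ⊤ : J.subscheme.Opens) = J.subschemeι ⁻¹ᵁ O := by
    ext w
    constructor
    · rintro ⟨v, -, rfl⟩
      show J.subschemeι (k v) ∈ O
      rw [← Scheme.Hom.comp_apply, hk, Scheme.Hom.comp_apply]
      exact ((J.comap O.ι).subschemeι v).2
    · intro hw
      have hw' : (⟨J.subschemeι w, hw⟩ : O.toScheme) ∈ (J.comap O.ι).support := by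
        show (⟨J.subschemeι w, hw⟩ : O.toScheme) ∈ ((J.comap O.ι).support : Set O.toScheme)
        rw [Scheme.IdealSheafData.support_comap]
        exact J.range_subschemeι.le ⟨w, rfl⟩
      obtain ⟨v, hv⟩ := (J.comap O.ι).range_subschemeι.ge hw'
      refine ⟨v, trivial, J.subschemeι.isEmbedding.injective ?_⟩
      show J.subschemeι (k v) = J.subschemeι w
      rw [← Scheme.Hom.comp_apply, hk, Scheme.Hom.comp_apply, hv]
      rfl
  have hcl : IsClosed ((k ''ᵁ ⊤ : J.subscheme.Opens) : Set J.subscheme) := by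
    rw [hrange]
    have : ((J.subschemeι ⁻¹ᵁ O : J.subscheme.Opens) : Set J.subscheme) = J.subschemeι ⁻¹' (b ⁻¹' {z}) := by
      ext w
      refine ⟨fun hw => hiso _ hw ?_, fun hw => ?_⟩
      · have := J.range_subschemeι.le ⟨w, rfl⟩
        rw [Scheme.IdealSheafData.support_comap] at this
        exact (Scheme.IdealSheafData.coe_support_vanishingIdeal Z).le this
      · show b (J.subschemeι w) ∈ U
        rw [show b (J.subschemeι w) = z from hw]
        exact hzU
    rw [this]
    exact (hz.preimage b.continuous).preimage J.subschemeι.continuous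
  have h1 := subsingleton_H'_of_isClopen G n _ hcl h
  have h2 : Subsingleton (Coh.HH (J.comap O.ι).subscheme (G.restrict k) n) :=
    ((HHTopEquiv (G.restrict k) n).trans (H'ModRestrictEquiv k G ⊤ n)).toEquiv.subsingleton
  exact FlatMorStrat.subsingleton_HH_of_iso
    ((Scheme.Modules.restrictFunctorIsoPullback k).app G ≪≫ (Scheme.Modules.pullbackComp k J.subschemeι).app F ≪≫
      (Scheme.Modules.pullbackCongr hk).app F ≪≫ ((Scheme.Modules.pullbackComp _ O.ι).app F).symm ≪≫
      (Scheme.Modules.pullback _).mapIso ((Scheme.Modules.restrictFunctorIsoPullback O.ι).app F).symm) n h2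

omit [IsLocallyNoetherian S] in
/-- Outside the centre the blow-up is affine. -/
theorem exists_affine_preimage_affine (hb : BlowUp.IsBlowUp b (Scheme.IdealSheafData.vanishingIdeal Z)) (x : S)
    (hx : x ∉ Z) : ∃ U : S.affineOpens, x ∈ U.1 ∧ IsAffineOpen (b ⁻¹ᵁ U.1) := by
  obtain ⟨U, hU, hxU, hle⟩ := exists_isAffineOpen_mem_and_subset (x := x)
    (U := (Scheme.IdealSheafData.vanishingIdeal Z).support.compl)
    (fun h => hx ((Scheme.IdealSheafData.coe_support_vanishingIdeal Z).le h))
  haveI : IsIso (b ∣_ U) := ProjLib.isIso_morphismRestrict hb U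
    (Set.disjoint_left.mpr fun y hy h' => hle h' hy)
  haveI : IsAffine U.toScheme := hU
  exact ⟨⟨U, hU⟩, hxU, IsAffine.of_isIso (b ∣_ U)⟩

/-- Higher direct images vanish as soon as the first cohomology on the exceptional divisor near each point does. -/
theorem isZero_rpush_of_local (h : Points Z) (hb : BlowUp.IsBlowUp b (Scheme.IdealSheafData.vanishingIdeal Z))
    {V : X.Modules} (hV : FlatMod.IsFinLocFree V)
    (hE : ∀ (z : S) (U : S.Opens), z ∈ Z → z ∈ U → (∀ w ∈ U, w ∈ Z → w = z) →
      Good (((Scheme.IdealSheafData.vanishingIdeal Z).comap b).comap (b ⁻¹ᵁ U).ι) →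
      Subsingleton (Coh.HH (((Scheme.IdealSheafData.vanishingIdeal Z).comap b).comap (b ⁻¹ᵁ U).ι).subscheme
        ((Scheme.Modules.pullback
          (((Scheme.IdealSheafData.vanishingIdeal Z).comap b).comap (b ⁻¹ᵁ U).ι).subschemeι).obj
          (V.restrict (b ⁻¹ᵁ U).ι)) 1))
    [HasInjectiveResolutions X.Modules] (p : ℕ) (hp : 1 ≤ p) : IsZero ((Coh.Rpush b p).obj V) := by
  haveI := isProper_blowUp b hb
  haveI : Coh.IsQCoh V := (CohBC.isCoh_of_isFinLocFree hV).1
  have key : ∀ x : S, ∃ U : S.affineOpens, x ∈ U.1 ∧ Subsingleton Γ((Coh.Rpush b p).obj V, U.1) := by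
    intro x
    obtain ⟨U, hxU, hH⟩ : ∃ U : S.affineOpens, x ∈ U.1 ∧
        Subsingleton (Coh.HH (b ⁻¹ᵁ U.1).toScheme (V.restrict (b ⁻¹ᵁ U.1).ι) p) := by
      by_cases hx : x ∈ Z
      · obtain ⟨U, hxU, hiso, hgood⟩ := exists_good b hb h x hx
        refine ⟨U, hxU, ?_⟩
        have hF := isFinLocFree_restrict hV (b ⁻¹ᵁ U.1)
        obtain rfl | hp2 := hp.eq_or_lt
        · exact hgood.H1_W hF (hE x U.1 hx hxU hiso hgood) 0
        · obtain ⟨U₀, U₁, hU₀, hU₁, h01, hcov⟩ := hgood.two
          exact subsingleton_HH_ge_two hU₀ hU₁ h01 hcov (CohBC.isCoh_of_isFinLocFree hF).1 p hp2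
      · obtain ⟨U, hxU, hU⟩ := exists_affine_preimage_affine b hb x hx
        refine ⟨U, hxU, ?_⟩
        haveI : IsAffine (b ⁻¹ᵁ U.1).toScheme := hU
        haveI : Coh.IsQCoh (V.restrict (b ⁻¹ᵁ U.1).ι) := (CohBC.isCoh_of_isFinLocFree (isFinLocFree_restrict hV _)).1
        exact @Equiv.subsingleton _ _ (HHTopEquiv _ p).toEquiv
          (subsingleton_H'_qcoh_pos _ (isAffineOpen_top _) hp)
    obtain ⟨ψ⟩ := exists_rpush_sections_equiv b U.2 V p
    exact ⟨U, hxU, ψ.symm.toEquiv.subsingleton⟩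
  choose U hxU hs using key
  exact EulerLib.isZero_of_sections_cover (isQCoh_rpush b V p) (fun x => (U x).1) (fun x => (U x).2)
    (fun x => ⟨x, hxU x⟩) hs

end Groth.Agent.SurfBl13
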